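import Groth.Agent.PerfectFieldLib.FormallySmooth
import Mathlib.RingTheory.Nilpotent.GeometricallyReduced

/-! Geometrically reduced field extensions are formally smooth. -/

set_option autoImplicit false
universe u v

namespace CohenLib

open scoped TensorProduct

theorem linearIndepOn_pow {k E : Type*} [Field k] [Field E] [Algebra k E]
    [Algebra.IsGeometricallyReduced k E] (p : ℕ) (hp : p.Prime) [CharP k p] (s : Finset E)
    (hs : LinearIndepOn k _root_.id (s : Set E)) : LinearIndepOn k (· ^ p) (s : Set E) := by
  classical
  have : Fact p.Prime := ⟨hp⟩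
  rw [LinearIndepOn, Fintype.linearIndependent_iff]
  intro c hc i
  let Kb := AlgebraicClosure k
  have hroot : ∀ j, ∃ d : Kb, d ^ p = algebraMap k Kb (c j) := fun j =>
    IsAlgClosed.exists_pow_nat_eq _ hp.pos
  choose d hd using hroot
  have : IsReduced (Kb ⊗[k] E) := (Algebra.isGeometricallyReduced_field_iff k E).1 inferInstance
  have : Nontrivial (Kb ⊗[k] E) :=
    (Algebra.TensorProduct.includeRight_injective (A := Kb) (B := E)
      (algebraMap k Kb).injective).nontrivial
  have : CharP (Kb ⊗[k] E) p := charP_of_injective_algebraMap (algebraMap k (Kb ⊗[k] E)).injective p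
  have hz : (∑ j, d j ⊗ₜ[k] (j : E)) ^ p = 0 := by
    rw [sum_pow_char p]
    simp only [Algebra.TensorProduct.tmul_pow, hd]
    calc _ = ∑ j, (1 : Kb) ⊗ₜ[k] (c j • (j : E) ^ p) :=
          Finset.sum_congr rfl fun j _ => by rw [Algebra.algebraMap_eq_smul_one, TensorProduct.smul_tmul]
      _ = 0 := by rw [← TensorProduct.tmul_sum, hc, TensorProduct.tmul_zero]
  have hz' : ∑ j, d j ⊗ₜ[k] (j : E) = 0 := IsNilpotent.eq_zero ⟨p, hz⟩
  have hs' : LinearIndepOn k id (s : Set E) := hs
  let B := Module.Basis.extend hs'
  have hi : (i : E) ∈ hs'.extend (Set.subset_univ _) := hs'.subset_extend _ i.2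
  let f : E →ₗ[k] k := B.coord ⟨i, hi⟩
  have hf : ∀ j : s, f (j : E) = if j = i then 1 else 0 := fun j => by
    have hj : (j : E) ∈ hs'.extend (Set.subset_univ _) := hs'.subset_extend _ j.2
    have : (j : E) = B ⟨j, hj⟩ := (Module.Basis.extend_apply_self hs' ⟨_, hj⟩).symm
    conv_lhs => rw [this]
    rw [show f = B.coord ⟨i, hi⟩ from rfl, Module.Basis.coord_apply, Module.Basis.repr_self, Finsupp.single_apply]
    exact if_congr ⟨fun h => Subtype.ext (congrArg Subtype.val h :), fun h => Subtype.ext (congrArg Subtype.val h :)⟩ rfl rfl
  have h2 := congrArg (fun z => TensorProduct.rid k Kb (LinearMap.lTensor Kb f z)) hz'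
  simp only [map_sum, LinearMap.lTensor_tmul, TensorProduct.rid_tmul, map_zero, hf, ite_smul,
    one_smul, zero_smul, Finset.sum_ite_eq', Finset.mem_univ, if_true] at h2
  have h3 := hd i
  rw [h2, zero_pow hp.ne_zero, eq_comm, map_eq_zero] at h3
  exact h3

theorem formallySmooth_of_essFiniteType (K : Type u) (L : Type v) [Field K] [Field L] [Algebra K L]
    [Algebra.IsGeometricallyReduced K L] [Algebra.EssFiniteType K L] :
    Algebra.FormallySmooth K L := by
  obtain _ | ⟨p, hp, hpk⟩ := CharP.exists' K
  · exact Groth.Agent.PerfectFieldLib.formallySmooth_of_perfectField K L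
  have : ExpChar K p := .prime hp.out
  obtain ⟨s, hs, hsep⟩ := exists_isTranscendenceBasis_and_isSeparable_of_linearIndepOn_pow_of_essFiniteType
    (k := K) (K := L) p hp.out (linearIndepOn_pow p hp.out)
  have : Algebra.IsSeparable (↥(IntermediateField.adjoin K (Set.range ((↑) : s → L)))) L := by
    convert! hsep <;> simp
  exact Algebra.FormallySmooth.of_algebraicIndependent_of_isSeparable hs.1

open Algebra MvPolynomial KaehlerDifferential

theorem formallySmooth_of_isGeometricallyReduced (K : Type u) (L : Type v) [Field K]
    [Field L] [Algebra K L] [Algebra.IsGeometricallyReduced K L] :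
    Algebra.FormallySmooth K L := by
  have : Module.Projective L Ω[L⁄K] := inferInstance
  refine (Algebra.formallySmooth_iff K L).2 ⟨this, ?_⟩
  have : Algebra.FormallySmooth K (Generators.self K L).toExtension.Ring :=
    (inferInstance : Algebra.FormallySmooth K (MvPolynomial _ K))
  rw [← (Generators.self K L).toExtension.cotangentComplex_injective_iff, injective_iff_map_eq_zero]
  intro x hx
  obtain ⟨⟨f, hf⟩, rfl⟩ := Extension.Cotangent.mk_surjective x
  let E := IntermediateField.adjoin K ((MvPolynomial.vars (f : MvPolynomial L K)) : Set L)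
  have hsub : ((MvPolynomial.vars (f : MvPolynomial L K)) : Set L) ⊆ Set.range E.val := fun a ha =>
    ⟨⟨a, IntermediateField.subset_adjoin K _ ha⟩, rfl⟩
  obtain ⟨g, hg⟩ := exists_rename_eq_of_vars_subset_range (f : MvPolynomial L K) E.val E.val.injective hsub
  have : Algebra.EssFiniteType K E :=
    IntermediateField.essFiniteType_iff.2 (IntermediateField.fg_adjoin_finset _)
  have : Algebra.IsGeometricallyReduced K E :=
    Algebra.IsGeometricallyReduced.of_injective E.val E.val.injective
  have : Algebra.FormallySmooth K E := formallySmooth_of_essFiniteType K E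
  have : Algebra.FormallySmooth K (Generators.self K E).toExtension.Ring :=
    (inferInstance : Algebra.FormallySmooth K (MvPolynomial _ K))
  have hinj : Function.Injective (Generators.self K E).toExtension.cotangentComplex :=
    (Generators.self K E).toExtension.cotangentComplex_injective_iff.2 inferInstance
  have haev : ∀ h : MvPolynomial E K, aeval (id : L → L) (rename E.val h) = E.val (aeval (id : E → E) h) := by
    intro h
    rw [aeval_rename, comp_aeval_apply]
    rfl
  have hgker : g ∈ (Generators.self K E).toExtension.ker := by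
    show aeval (id : E → E) g = 0
    refine E.val.injective (((haev g).symm.trans ?_).trans (map_zero E.val).symm)
    rw [hg]
    exact hf
  have hz : Extension.Cotangent.mk (P := (Generators.self K E).toExtension) ⟨g, hgker⟩ = 0 := by
    apply hinj
    rw [map_zero, Extension.cotangentComplex_mk]
    apply (Generators.self K E).cotangentSpaceBasis.repr.injective
    rw [map_zero]
    refine Finsupp.ext fun e => ?_
    rw [Finsupp.zero_apply]
    refine ((Generators.self K E).cotangentSpaceBasis_repr_one_tmul g e).trans ?_
    refine E.val.injective (((haev (pderiv e g)).symm.trans ?_).trans (map_zero E.val).symm)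
    rw [← pderiv_rename (f := E.val) E.val.injective, hg]
    have := congrArg (fun z => (Generators.self K L).cotangentSpaceBasis.repr z (E.val e)) hx
    rw [Extension.cotangentComplex_mk] at this
    simp only [map_zero, Finsupp.zero_apply] at this
    exact ((Generators.self K L).cotangentSpaceBasis_repr_one_tmul f (E.val e)).symm.trans this
  rw [Extension.Cotangent.mk_eq_zero_iff] at hz ⊢
  show (f : MvPolynomial L K) ∈ _
  rw [← hg]
  have hle : (Generators.self K E).toExtension.ker ≤
      Ideal.comap (rename E.val : MvPolynomial E K →ₐ[K] MvPolynomial L K) (Generators.self K L).toExtension.ker := by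
    intro h hh
    exact (haev h).trans ((congrArg E.val hh).trans (map_zero _))
  exact Ideal.le_comap_pow _ 2 (Ideal.pow_right_mono hle 2 hz)


end CohenLib
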