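import Groth.Agent.CohenLib.FSRegular
import Groth.Agent.CohenLib.GeomRed
import Groth.Agent.CommAlgDim.RegularRing
import Mathlib.Algebra.Algebra.Rat
import Mathlib.Algebra.Field.ZMod
import Mathlib.RingTheory.Smooth.Fiber
import Mathlib.RingTheory.TensorProduct.Quotient
import Mathlib.RingTheory.Smooth.Flat

/-! Formally smooth algebras over fields are regular; smooth algebras over regular rings are regular. -/

set_option autoImplicit false

universe u v

open IsLocalRing TensorProduct

namespace CohenLib

theorem isRegularLocalRing_of_formallySmooth_aux {P : Type v} {A : Type u} [Field P] [PerfectField P] [CommRing A]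
    [IsLocalRing A] [IsNoetherianRing A] [Algebra P A] [Algebra.FormallySmooth P A] :
    IsRegularLocalRing A := by
  have : Algebra.FormallySmooth P (ResidueField A) :=
    Groth.Agent.PerfectFieldLib.formallySmooth_of_perfectField P (ResidueField A)
  refine isRegularLocalRing_of_liftsAdic (k := P) fun C _ _ J hJ ψ _ => ?_
  exact ⟨Algebra.FormallySmooth.lift J ⟨2, hJ⟩ ψ, Algebra.FormallySmooth.comp_lift J ⟨2, hJ⟩ ψ⟩

/-- A Noetherian local algebra formally smooth over a field is regular. -/
theorem isRegularLocalRing_of_formallySmooth {k : Type v} {A : Type u} [Field k] [CommRing A]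
    [IsLocalRing A] [IsNoetherianRing A] [Algebra k A] [Algebra.FormallySmooth k A] :
    IsRegularLocalRing A := by
  obtain ⟨P, _, _, _, hP⟩ : ∃ (P : Type) (_ : Field P) (_ : PerfectField P) (_ : Algebra P A),
      Algebra.FormallySmooth P A := by
    obtain _ | ⟨p, hp, hpk⟩ := CharP.exists' k
    · let _ : Algebra ℚ A := ((algebraMap k A).comp (algebraMap ℚ k)).toAlgebra
      have : IsScalarTower ℚ k A := IsScalarTower.of_algebraMap_eq fun _ => rfl
      have : Algebra.FormallySmooth ℚ k := Groth.Agent.PerfectFieldLib.formallySmooth_of_perfectField ℚ k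
      exact ⟨ℚ, inferInstance, inferInstance, inferInstance, Algebra.FormallySmooth.comp ℚ k A⟩
    · let _ : Algebra (ZMod p) k := (ZMod.castHom (dvd_refl p) k).toAlgebra
      let _ : Algebra (ZMod p) A := ((algebraMap k A).comp (algebraMap (ZMod p) k)).toAlgebra
      have : IsScalarTower (ZMod p) k A := IsScalarTower.of_algebraMap_eq fun _ => rfl
      have : Algebra.FormallySmooth (ZMod p) k :=
        Groth.Agent.PerfectFieldLib.formallySmooth_of_perfectField (ZMod p) k
      exact ⟨ZMod p, inferInstance, inferInstance, inferInstance, Algebra.FormallySmooth.comp (ZMod p) k A⟩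
  exact isRegularLocalRing_of_formallySmooth_aux (P := P)

theorem isRegularRing_of_formallySmooth {k : Type v} {S : Type u} [Field k] [CommRing S] [IsNoetherianRing S]
    [Algebra k S] [Algebra.FormallySmooth k S] : IsRegularRing S :=
  isRegularRing_iff.2 fun p _ => by
    have : Algebra.FormallySmooth S (Localization.AtPrime p) :=
      Algebra.FormallySmooth.of_isLocalization p.primeCompl
    have : Algebra.FormallySmooth k (Localization.AtPrime p) := Algebra.FormallySmooth.comp k S _
    have : IsNoetherianRing (Localization.AtPrime p) :=
      IsLocalization.isNoetherianRing p.primeCompl _ inferInstance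
    exact isRegularLocalRing_of_formallySmooth (k := k)

/-- Ascent of regularity along a flat local map with regular closed fibre. -/
theorem isRegularLocalRing_of_flat_of_regular_fibre (A B : Type u) [CommRing A] [IsRegularLocalRing A]
    [CommRing B] [IsLocalRing B] [IsNoetherianRing B] [Algebra A B] [IsLocalHom (algebraMap A B)]
    [Module.Flat A B] [IsRegularLocalRing (B ⧸ (maximalIdeal A).map (algebraMap A B))] :
    IsRegularLocalRing B := by
  classical
  let I := (maximalIdeal A).map (algebraMap A B)
  let F := B ⧸ I
  have hP : (maximalIdeal B).LiesOver (maximalIdeal A) := ⟨(maximalIdeal_comap (algebraMap A B)).symm⟩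
  have : Algebra.HasGoingDown A B := Algebra.HasGoingDown.of_flat
  have h := Ideal.height_eq_height_add_of_liesOver_of_hasGoingDown (maximalIdeal A) (maximalIdeal B)
  have hmax : (maximalIdeal B).map (Ideal.Quotient.mk I) = maximalIdeal F :=
    IsLocalRing.map_maximalIdeal_of_surjective _ Ideal.Quotient.mk_surjective
  rw [hmax] at h
  have hle : (maximalIdeal B).spanFinrank ≤ (maximalIdeal A).spanFinrank + (maximalIdeal F).spanFinrank := by
    have hfgA : (maximalIdeal A).FG := IsNoetherian.noetherian _
    have hfgF : (maximalIdeal F).FG := IsNoetherian.noetherian _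
    choose l hl using fun y : F => Ideal.Quotient.mk_surjective (I := I) y
    let GA := (maximalIdeal A).generators
    let GF := (maximalIdeal F).generators
    have hGA : Ideal.span GA = maximalIdeal A := Submodule.span_generators _
    have hGF : Ideal.span GF = maximalIdeal F := Submodule.span_generators _
    have hfA := Submodule.FG.finite_generators hfgA
    have hfF := Submodule.FG.finite_generators hfgF
    have h1 : maximalIdeal B = Ideal.span (algebraMap A B '' GA ∪ l '' GF) := by
      refine le_antisymm (fun b hb => ?_) ?_
      · rw [Ideal.span_union, ← Ideal.map_span, hGA]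
        have h2 := Ideal.mem_map_of_mem (Ideal.Quotient.mk I) hb
        rw [hmax, ← hGF, show GF = Ideal.Quotient.mk I '' (l '' GF) by
          rw [Set.image_image]; simp [hl], ← Ideal.map_span, Ideal.mem_quotient_iff_mem_sup, sup_comm] at h2
        exact h2
      · rw [Ideal.span_le, Set.union_subset_iff]
        refine ⟨?_, ?_⟩
        · rintro _ ⟨a, ha, rfl⟩
          exact map_nonunit (algebraMap A B) a (hGA ▸ Ideal.subset_span ha)
        · rintro _ ⟨y, hy, rfl⟩
          have : y ∈ maximalIdeal F := hGF ▸ Ideal.subset_span hy
          intro hu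
          exact this (hl y ▸ hu.map (Ideal.Quotient.mk I))
    rw [h1]
    refine (Submodule.spanFinrank_span_le_ncard_of_finite ((hfA.image _).union (hfF.image _))).trans ?_
    refine (Set.ncard_union_le _ _).trans (Nat.add_le_add ?_ ?_)
    · exact (Set.ncard_image_le hfA).trans (Submodule.FG.generators_ncard hfgA).le
    · exact (Set.ncard_image_le hfF).trans (Submodule.FG.generators_ncard hfgF).le
  refine IsRegularLocalRing.of_spanFinrank_maximalIdeal_le _ ?_
  rw [← maximalIdeal_height_eq_ringKrullDim, h, WithBot.coe_add, maximalIdeal_height_eq_ringKrullDim,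
    maximalIdeal_height_eq_ringKrullDim, ← (isRegularLocalRing_iff A).1 inferInstance,
    ← (isRegularLocalRing_iff F).1 inferInstance]
  exact_mod_cast hle

theorem formallySmooth_quotient (R S : Type u) [CommRing R] [CommRing S] [Algebra R S]
    [Algebra.FormallySmooth R S] (I : Ideal R) :
    Algebra.FormallySmooth (R ⧸ I) (S ⧸ I.map (algebraMap R S)) := by
  let e := (Algebra.TensorProduct.comm R (R ⧸ I) S).toRingEquiv.trans
    (Algebra.TensorProduct.quotIdealMapEquivTensorQuot S I).symm.toRingEquiv
  refine Algebra.FormallySmooth.of_equiv (AlgEquiv.ofRingEquiv (f := e) fun z => ?_ :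
    (R ⧸ I) ⊗[R] S ≃ₐ[R ⧸ I] S ⧸ I.map (algebraMap R S))
  obtain ⟨a, rfl⟩ := Ideal.Quotient.mk_surjective z
  show (Algebra.TensorProduct.quotIdealMapEquivTensorQuot S I).symm
    ((Algebra.TensorProduct.comm R (R ⧸ I) S) (algebraMap R _ a)) = _
  rw [AlgEquiv.commutes, IsScalarTower.algebraMap_apply R S (S ⊗[R] (R ⧸ I)), AlgEquiv.commutes]
  rfl

/-- A local formally smooth flat algebra over a regular local ring is regular. -/
theorem isRegularLocalRing_of_formallySmooth_flat (A B : Type u) [CommRing A] [IsRegularLocalRing A]
    [CommRing B] [IsLocalRing B] [IsNoetherianRing B] [Algebra A B] [IsLocalHom (algebraMap A B)]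
    [Module.Flat A B] [Algebra.FormallySmooth A B] : IsRegularLocalRing B := by
  let _ : Field (A ⧸ maximalIdeal A) := Ideal.Quotient.field _
  have := formallySmooth_quotient A B (maximalIdeal A)
  have hI : (maximalIdeal A).map (algebraMap A B) ≠ ⊤ := fun h => (maximalIdeal.isMaximal B).ne_top
    (top_le_iff.1 (h ▸ Ideal.map_le_iff_le_comap.2 fun a ha => map_nonunit _ a ha))
  have : Nontrivial (B ⧸ (maximalIdeal A).map (algebraMap A B)) := Ideal.Quotient.nontrivial_iff.2 hI
  have : IsLocalRing (B ⧸ (maximalIdeal A).map (algebraMap A B)) :=
    IsLocalRing.of_surjective' _ Ideal.Quotient.mk_surjective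
  have : IsRegularLocalRing (B ⧸ (maximalIdeal A).map (algebraMap A B)) :=
    isRegularLocalRing_of_formallySmooth (k := A ⧸ maximalIdeal A)
  exact isRegularLocalRing_of_flat_of_regular_fibre A B

/-- A smooth algebra over a regular ring is regular. -/
theorem isRegularRing_of_smooth (A B : Type u) [CommRing A] [IsRegularRing A] [CommRing B] [Algebra A B]
    [Algebra.Smooth A B] : IsRegularRing B := by
  have : IsNoetherianRing B := Algebra.FiniteType.isNoetherianRing A B
  refine isRegularRing_iff.2 fun q hq => ?_
  let p := q.under A
  let Bq := Localization.AtPrime q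
  let _ : Algebra (Localization.AtPrime p) Bq :=
    (Localization.localRingHom p q (algebraMap A B) rfl).toAlgebra
  have : IsScalarTower A (Localization.AtPrime p) Bq :=
    IsScalarTower.of_algebraMap_eq fun a => (Localization.localRingHom_to_map p q _ rfl a).symm
  have : IsLocalHom (algebraMap (Localization.AtPrime p) Bq) :=
    Localization.isLocalHom_localRingHom p q _ rfl
  have : IsNoetherianRing Bq := IsLocalization.isNoetherianRing q.primeCompl _ inferInstance
  have : Module.Flat A Bq := Module.Flat.trans A B Bq
  have : Module.Flat (Localization.AtPrime p) Bq :=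
    (Module.flat_iff_of_isLocalization (Localization.AtPrime p) p.primeCompl Bq).2 inferInstance
  have := (isRegularRing_iff.1 (inferInstance : IsRegularRing A)) p
  have : Algebra.FormallySmooth B Bq := Algebra.FormallySmooth.of_isLocalization q.primeCompl
  have : Algebra.FormallySmooth A Bq := Algebra.FormallySmooth.comp A B Bq
  have : Algebra.FormallySmooth (Localization.AtPrime p) Bq :=
    Algebra.FormallySmooth.localization_base p.primeCompl
  exact isRegularLocalRing_of_formallySmooth_flat (Localization.AtPrime p) Bq

end CohenLib
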