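import Groth.Agent.CohenLib.RegularField
import Mathlib.RingTheory.EssentialFiniteness
import Mathlib.RingTheory.Filtration
import Mathlib.RingTheory.Smooth.Local
import Mathlib.RingTheory.Kaehler.TensorProduct
import Mathlib.RingTheory.Kaehler.Polynomial
import Mathlib.LinearAlgebra.TensorProduct.Quotient

/-! Over a field, adic formal smoothness of an essentially of finite type local algebra is formal smoothness. -/

set_option autoImplicit false

universe u v

open IsLocalRing TensorProduct

namespace CohenLib

theorem injective_of_liftsAdic {k : Type v} {A P : Type u} [Field k] [CommRing A] [IsLocalRing A]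
    [Algebra k A] [CommRing P] [IsNoetherianRing P] [Algebra k P] [Algebra P A] [IsScalarTower k P A]
    (hs : Function.Surjective (algebraMap P A)) (h : LiftsAdic k A) :
    Function.Injective (KaehlerDifferential.cotangentComplexBaseChange k A P (ResidueField A)) := by
  let I := RingHom.ker (algebraMap P A)
  let m := (maximalIdeal A).comap (algebraMap P A)
  have hIm : I ≤ m := fun x hx => by
    show algebraMap P A x ∈ maximalIdeal A
    rw [show algebraMap P A x = 0 from hx]
    exact zero_mem _
  obtain ⟨c, hc⟩ := Ideal.exists_pow_inf_eq_pow_smul m I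
  have hAR : m ^ (c + 1) ⊓ I ≤ m * I := by
    have h1 := hc (c + 1) (Nat.le_succ c)
    simp only [smul_eq_mul, Ideal.mul_top, add_tsub_cancel_left, pow_one] at h1
    rw [h1]
    exact mul_le_mul' le_rfl inf_le_right
  let K : Ideal P := m * I ⊔ m ^ (c + 1)
  let J : Ideal (P ⧸ K) := I.map (Ideal.Quotient.mk K)
  have hJ : J ^ 2 = ⊥ := by
    rw [← Ideal.map_pow, Ideal.map_eq_bot_iff_le_ker, Ideal.mk_ker, pow_two]
    exact (mul_le_mul' hIm le_rfl).trans le_sup_left
  obtain ⟨g, hg⟩ : ∃ g : A →+* (P ⧸ K) ⧸ J,
      ∀ x, g (algebraMap P A x) = Ideal.Quotient.mk J (Ideal.Quotient.mk K x) :=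
    ⟨(algebraMap P A).liftOfSurjective hs ⟨(Ideal.Quotient.mk J).comp (Ideal.Quotient.mk K), fun x hx =>
        Ideal.Quotient.eq_zero_iff_mem.2 (Ideal.mem_map_of_mem _ hx)⟩,
      fun x => RingHom.liftOfRightInverse_comp_apply _ _ _ _ _⟩
  let ψ : A →ₐ[k] (P ⧸ K) ⧸ J :=
    { g with
      commutes' := fun x => by
        show g _ = _
        rw [IsScalarTower.algebraMap_apply k P A, hg]
        rfl }
  have hmm : maximalIdeal A = m.map (algebraMap P A) := (Ideal.map_comap_of_surjective _ hs _).symm
  obtain ⟨χ, hχ⟩ := h _ J hJ ψ ⟨c + 1, fun x hx => by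
    rw [hmm, ← Ideal.map_pow] at hx
    obtain ⟨y, hy, rfl⟩ := (Ideal.mem_map_iff_of_surjective _ hs).1 hx
    show g _ = 0
    rw [hg, Ideal.Quotient.eq_zero_iff_mem.2 (Submodule.mem_sup_right hy : y ∈ K), map_zero]⟩
  have hδ : ∀ x, Ideal.Quotient.mk K x - χ (algebraMap P A x) ∈ J := fun x => by
    rw [← Ideal.Quotient.eq_zero_iff_mem, map_sub, sub_eq_zero,
      show Ideal.Quotient.mk J (χ _) = ψ _ from AlgHom.congr_fun hχ _]
    exact (hg x).symm
  let δ' : P →ₗ[k] J :=
    { toFun := fun x => ⟨_, hδ x⟩
      map_add' := fun x y => Subtype.ext (by simp [map_add, add_sub_add_comm])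
      map_smul' := fun a x => Subtype.ext (by
        show Ideal.Quotient.mk K (a • x) - χ (algebraMap P A (a • x)) =
          a • (Ideal.Quotient.mk K x - χ (algebraMap P A x))
        rw [← Ideal.Quotient.mkₐ_eq_mk k, ← IsScalarTower.coe_toAlgHom' k P A, map_smul, map_smul,
          map_smul, smul_sub]) }
  let δ : Derivation k P J := Derivation.mk' δ' fun x y => Subtype.ext (by
    show Ideal.Quotient.mk K (x * y) - χ (algebraMap P A (x * y)) =
      x • (Ideal.Quotient.mk K y - χ (algebraMap P A y)) + y • (Ideal.Quotient.mk K x - χ (algebraMap P A x))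
    rw [Algebra.smul_def, Algebra.smul_def, Ideal.Quotient.algebraMap_eq, map_mul, map_mul, map_mul]
    have h1 := Ideal.mul_mem_mul (hδ x) (hδ y)
    rw [← pow_two, hJ, Ideal.mem_bot] at h1
    linear_combination -h1)
  have hδI : ∀ i : I, (δ.liftKaehlerDifferential (KaehlerDifferential.D k P i) : P ⧸ K) =
      Ideal.Quotient.mk K i := fun i => by
    rw [Derivation.liftKaehlerDifferential_comp_D]
    show Ideal.Quotient.mk K (i : P) - χ (algebraMap P A i) = _
    rw [show algebraMap P A (i : P) = 0 from i.2, map_zero, sub_zero]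
  have hres : Function.Surjective (algebraMap P (ResidueField A)) := by
    rw [IsScalarTower.algebraMap_eq P A (ResidueField A)]
    exact residue_surjective.comp hs
  rw [injective_iff_map_eq_zero]
  intro z hz
  obtain ⟨i, rfl⟩ := TensorProduct.mk_surjective P I (ResidueField A) hres z
  rw [TensorProduct.mk_apply] at hz ⊢
  rw [KaehlerDifferential.cotangentComplexBaseChange_tmul, KaehlerDifferential.kerToTensor_apply,
    one_smul] at hz
  have hker : ∀ x : P, algebraMap P (ResidueField A) x = 0 ↔ x ∈ m := fun x => by
    rw [IsScalarTower.algebraMap_apply P A (ResidueField A)]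
    exact residue_eq_zero_iff _
  have hm0 : LinearMap.ker (Algebra.linearMap P (ResidueField A)) = m := Submodule.ext hker
  let e : ResidueField A ≃ₗ[P] P ⧸ m :=
    (LinearMap.quotKerEquivOfSurjective (Algebra.linearMap P (ResidueField A)) hres).symm ≪≫ₗ
      Submodule.quotEquivOfEq _ _ hm0
  have he : e 1 = Submodule.Quotient.mk 1 := by
    refine e.symm.injective ?_
    rw [LinearEquiv.symm_apply_apply]
    exact (map_one (algebraMap P (ResidueField A))).symm
  have hDi : KaehlerDifferential.D k P (i : P) ∈ m • (⊤ : Submodule P Ω[P⁄k]) := by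
    rw [← Submodule.Quotient.mk_eq_zero]
    have h1 := congrArg (fun t => TensorProduct.quotTensorEquivQuotSMul Ω[P⁄k] m
      (TensorProduct.congr e (LinearEquiv.refl P _) t)) hz
    simpa [TensorProduct.congr_tmul, he, TensorProduct.quotTensorEquivQuotSMul_mk_tmul] using h1
  have hmem : δ.liftKaehlerDifferential (KaehlerDifferential.D k P (i : P)) ∈ m • (⊤ : Submodule P J) :=
    (Submodule.map_smul'' m ⊤ δ.liftKaehlerDifferential).le.trans
      (Submodule.smul_mono le_rfl le_top) (Submodule.mem_map_of_mem hDi)
  have hzero : ∀ y ∈ m • (⊤ : Submodule P J), (y : P ⧸ K) = 0 := by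
    intro y hy
    refine Submodule.smul_induction_on hy (fun a ha y _ => ?_) fun a b ha hb => by
      rw [Submodule.coe_add, ha, hb, add_zero]
    obtain ⟨y, hy⟩ := y
    obtain ⟨x, hx, rfl⟩ := (Ideal.mem_map_iff_of_surjective _ Ideal.Quotient.mk_surjective).1 hy
    show a • Ideal.Quotient.mk K x = 0
    rw [Algebra.smul_def, Ideal.Quotient.algebraMap_eq, ← map_mul, Ideal.Quotient.eq_zero_iff_mem]
    exact Submodule.mem_sup_left (Ideal.mul_mem_mul ha hx)
  have hiK : (i : P) ∈ K := by
    rw [← Ideal.Quotient.eq_zero_iff_mem, ← hδI i]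
    exact hzero _ hmem
  obtain ⟨a, ha, b, hb, hab⟩ := Submodule.mem_sup.1 hiK
  have hi : (i : P) ∈ m * I := by
    rw [← hab]
    refine add_mem ha (hAR ⟨hb, ?_⟩)
    rw [show b = (i : P) - a from (eq_sub_iff_add_eq'.2 hab)]
    exact sub_mem i.2 (Ideal.mul_le_right ha)
  have hmI : i ∈ m • (⊤ : Submodule P I) := by
    have h1 : (i : P) ∈ Submodule.map I.subtype (m • ⊤) := by
      rw [Submodule.map_smul'', Submodule.map_top, Submodule.range_subtype]
      exact hi
    obtain ⟨j, hj, hji⟩ := h1
    rwa [Subtype.ext hji] at hj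
  refine Submodule.smul_induction_on hmI (fun a ha y _ => ?_) fun a b ha hb => by
    rw [TensorProduct.tmul_add, ha, hb, add_zero]
  rw [TensorProduct.tmul_smul, TensorProduct.smul_tmul', Algebra.smul_def, (hker a).2 ha,
    mul_one, TensorProduct.zero_tmul]

/-- Over a field, adic formal smoothness of an essentially of finite type local algebra is formal smoothness. -/
theorem formallySmooth_of_liftsAdic {k A : Type u} [Field k] [CommRing A] [IsLocalRing A]
    [Algebra k A] [Algebra.EssFiniteType k A] (h : LiftsAdic k A) : Algebra.FormallySmooth k A := by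
  let A₀ := Algebra.EssFiniteType.subalgebra k A
  obtain ⟨n, f₀, hf₀⟩ := Algebra.FiniteType.iff_quotient_mvPolynomial''.mp
    (inferInstance : Algebra.FiniteType k A₀)
  let M := Algebra.EssFiniteType.submonoid k A
  let P := Localization (M.comap f₀)
  let fP : P →ₐ[k] A := IsLocalization.liftAlgHom (M := M.comap f₀) (S := P)
    (f := (IsScalarTower.toAlgHom k A₀ A).comp f₀) fun x =>
      IsLocalization.map_units (M := M) A ⟨f₀ x.1, x.2⟩
  have hs : Function.Surjective fP := by
    intro x
    obtain ⟨x, ⟨s, hs⟩, rfl⟩ := IsLocalization.exists_mk'_eq M x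
    obtain ⟨x, rfl⟩ := hf₀ x
    obtain ⟨s, rfl⟩ := hf₀ s
    refine ⟨IsLocalization.mk' P x (⟨s, hs⟩ : M.comap f₀), ?_⟩
    simp [fP, IsLocalization.lift_mk', Units.mul_inv_eq_iff_eq_mul, IsUnit.liftRight]
    exact (IsLocalization.mk'_spec A (f₀ x) (⟨f₀ s, hs⟩ : M)).symm
  algebraize [fP.toRingHom]
  have : IsScalarTower k P A := IsScalarTower.of_algebraMap_eq fun x => (fP.commutes x).symm
  have : IsNoetherianRing P := IsLocalization.isNoetherianRing (M.comap f₀) P inferInstance
  have : Algebra.FormallyEtale (MvPolynomial (Fin n) k) P := .of_isLocalization (M.comap f₀)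
  have : Algebra.FormallySmooth k P := .comp k (MvPolynomial (Fin n) k) P
  have : Module.Free P Ω[P⁄k] :=
    .of_equiv (KaehlerDifferential.tensorKaehlerEquivOfFormallyEtale k (MvPolynomial (Fin n) k) P)
  have : Module.Finite P Ω[P⁄k] :=
    .equiv (KaehlerDifferential.tensorKaehlerEquivOfFormallyEtale k (MvPolynomial (Fin n) k) P)
  exact (Algebra.FormallySmooth.iff_injective_cotangentComplexBaseChange_residueField P hs
    (IsNoetherian.noetherian _)).2 (injective_of_liftsAdic hs h)

/-- Regular essentially of finite type local algebras with separable residue field are formally smooth. -/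
theorem formallySmooth_of_regular {k A : Type u} [Field k] [CommRing A] [IsRegularLocalRing A]
    [Algebra k A] [Algebra.EssFiniteType k A] [Algebra.IsGeometricallyReduced k (ResidueField A)] :
    Algebra.FormallySmooth k A := by
  have := formallySmooth_of_isGeometricallyReduced k (ResidueField A)
  exact formallySmooth_of_liftsAdic (liftsAdic_of_regular k A)

theorem isSmoothAt_iff_isRegularLocalRing (k : Type u) [Field k] (S : Type u) [CommRing S] [Algebra k S]
    [Algebra.FiniteType k S] (q : Ideal S) [q.IsPrime] [Algebra.IsGeometricallyReduced k q.ResidueField] :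
    Algebra.IsSmoothAt k q ↔ IsRegularLocalRing (Localization.AtPrime q) := by
  have : IsNoetherianRing S := Algebra.FiniteType.isNoetherianRing k S
  have : IsNoetherianRing (Localization.AtPrime q) :=
    IsLocalization.isNoetherianRing q.primeCompl _ inferInstance
  constructor
  · intro h
    have : Algebra.FormallySmooth k (Localization.AtPrime q) := h
    exact isRegularLocalRing_of_formallySmooth (k := k)
  · intro h
    have : Algebra.EssFiniteType S (Localization.AtPrime q) :=
      Algebra.EssFiniteType.of_isLocalization _ q.primeCompl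
    have : Algebra.EssFiniteType k (Localization.AtPrime q) := Algebra.EssFiniteType.comp k S _
    have : Algebra.IsGeometricallyReduced k (ResidueField (Localization.AtPrime q)) :=
      (inferInstance : Algebra.IsGeometricallyReduced k q.ResidueField)
    exact formallySmooth_of_regular (k := k) (A := Localization.AtPrime q)

end CohenLib
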