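import Groth.Agent.CohenLib.PSHom
import Mathlib.RingTheory.LocalRing.MaximalIdeal.Basic
import Mathlib.Order.OrderIsoNat

/-! The maximal ideal of a power series ring over a local ring. -/

universe u

open IsLocalRing

namespace CohenLib

variable {Λ : Type u} [CommRing Λ]

/-- The maximal ideal of a power series ring over a local ring. -/
theorem maximalIdeal_mvPowerSeries [IsLocalRing Λ] (n : ℕ) :
    maximalIdeal (MvPowerSeries (Fin n) Λ) = (maximalIdeal Λ).map MvPowerSeries.C ⊔ varsIdeal Λ n := by
  refine le_antisymm (fun f hf => ?_) (sup_le ?_ ?_)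
  · have hc : MvPowerSeries.constantCoeff f ∈ maximalIdeal Λ := fun hu =>
      hf (MvPowerSeries.isUnit_iff_constantCoeff.2 hu)
    rw [← sub_add_cancel f (MvPowerSeries.C (MvPowerSeries.constantCoeff f)), add_comm]
    refine Submodule.add_mem_sup (Ideal.mem_map_of_mem _ hc) ?_
    rw [← ker_constantCoeff, RingHom.mem_ker, map_sub, MvPowerSeries.constantCoeff_C, sub_self]
  · rw [Ideal.map_le_iff_le_comap]
    intro c hc hu
    exact hc (by simpa using MvPowerSeries.isUnit_iff_constantCoeff.1 hu)
  · rw [← ker_constantCoeff]
    intro f hf hu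
    have h1 := MvPowerSeries.isUnit_iff_constantCoeff.1 hu
    rw [RingHom.mem_ker] at hf
    rw [hf] at h1
    exact not_isUnit_zero h1

/-- A surjective endomorphism of a Noetherian ring is injective. -/
theorem injective_of_surjective_ringEndo {S : Type*} [CommRing S] [IsNoetherianRing S]
    (φ : S →+* S) (hφ : Function.Surjective φ) : Function.Injective φ := by
  let f : ℕ → S →+* S := fun n => Nat.rec (RingHom.id S) (fun _ g => φ.comp g) n
  have hf : ∀ n, Function.Surjective (f n) := fun n => by
    induction n with
    | zero => exact Function.surjective_id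
    | succ n ih => exact hφ.comp ih
  have hmono : Monotone (fun n => RingHom.ker (f n)) := monotone_nat_of_le_succ fun n x hx => by
    show φ (f n x) = 0
    rw [show f n x = 0 from hx, map_zero]
  obtain ⟨n, hn⟩ := monotone_stabilizes_iff_noetherian.2 inferInstance ⟨_, hmono⟩
  rw [injective_iff_map_eq_zero]
  intro x hx
  obtain ⟨y, rfl⟩ := hf n x
  have h1 : y ∈ RingHom.ker (f (n + 1)) := hx
  rw [show RingHom.ker (f (n + 1)) = RingHom.ker (f n) from (hn (n + 1) (Nat.le_succ n)).symm] at h1
  exact h1

end CohenLib
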