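import Groth.Agent.CohenLib.Structure
import Groth.Agent.CohenLib.PSLocal
import Groth.Agent.CommAlgDim.RegularRing
import Mathlib.RingTheory.Ideal.KrullsHeightTheorem
import Mathlib.RingTheory.KrullDimension.NonZeroDivisors
import Mathlib.RingTheory.Ideal.GoingUp

/-! Complete local domains are finite over power series rings. -/

universe u

open IsLocalRing

namespace CohenLib

theorem ringKrullDim_le_of_isIntegral (S R : Type*) [CommRing S] [CommRing R] [Algebra S R]
    [Algebra.IsIntegral S R] : ringKrullDim R ≤ ringKrullDim S := by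
  refine Order.krullDim_le_of_strictMono
    (fun q => (⟨q.asIdeal.comap (algebraMap S R), Ideal.comap_isPrime _ _⟩ : PrimeSpectrum S)) ?_
  intro q q' h
  obtain ⟨x, hx', hx⟩ := SetLike.exists_of_lt (show q.asIdeal < q'.asIdeal from h)
  exact Ideal.comap_lt_comap_of_integral_mem_sdiff (le_of_lt h) ⟨hx', hx⟩ (Algebra.IsIntegral.isIntegral x)

/-- Elements generating an ideal primary for the maximal ideal, as many as the dimension. -/
theorem exists_primary_family (R : Type u) [CommRing R] [IsLocalRing R] [IsNoetherianRing R] :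
    ∃ (n : ℕ) (x : Fin n → R) (N : ℕ), maximalIdeal R ^ N ≤ Ideal.span (Set.range x) ∧
      (n : WithBot ℕ∞) = ringKrullDim R ∧ ∀ i, x i ∈ maximalIdeal R := by
  classical
  obtain ⟨s, hs, hcard⟩ := (maximalIdeal R).exists_finset_card_eq_height_of_isNoetherianRing
  let x : Fin s.card → R := fun i => (s.equivFin.symm i).1
  have hx : Set.range x = s := by
    ext y
    exact ⟨fun ⟨i, hi⟩ => hi ▸ (s.equivFin.symm i).2, fun hy => ⟨s.equivFin ⟨y, hy⟩, by simp [x]⟩⟩
  have hrad : maximalIdeal R ≤ (Ideal.span (Set.range x)).radical := by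
    rw [hx, Ideal.radical_eq_sInf]
    refine le_sInf fun P ⟨hP, hPp⟩ => ?_
    exact hs.2 ⟨hPp, hP⟩ (le_maximalIdeal hPp.ne_top)
  obtain ⟨N, hN⟩ := Ideal.exists_pow_le_of_le_radical_of_fg hrad (IsNoetherian.noetherian _)
  refine ⟨s.card, x, N, hN, ?_, fun i => hs.1.2 (Ideal.subset_span (s.equivFin.symm i).2)⟩
  rw [← maximalIdeal_height_eq_ringKrullDim, ← hcard]
  norm_cast

section finite
variable {P R : Type*} [CommRing P] [CommRing R] [IsLocalRing R] [IsNoetherianRing R] [Algebra P R]

theorem finite_of_pow_maximal_killed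
    (hres : Function.Surjective ((residue R).comp (algebraMap P R))) :
    ∀ (N : ℕ) (M : Type u) [AddCommGroup M] [Module R M] [Module P M] [IsScalarTower P R M]
      [Module.Finite R M], (maximalIdeal R ^ N • ⊤ : Submodule R M) = ⊥ → Module.Finite P M
  | 0, M, _, _, _, _, _, h => by
    rw [pow_zero, Ideal.one_eq_top, Submodule.top_smul] at h
    have : Subsingleton M := subsingleton_of_forall_eq 0 fun x => (Submodule.mem_bot R).1 (h ▸ Submodule.mem_top)
    infer_instance
  | N + 1, M, _, _, _, _, _, h => by
    let W : Submodule R M := maximalIdeal R • ⊤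
    have hW : Module.Finite P W := by
      have : Module.Finite R W := Module.Finite.iff_fg.2 (IsNoetherian.noetherian W)
      refine finite_of_pow_maximal_killed hres N W ?_
      apply Submodule.map_injective_of_injective W.injective_subtype
      rw [Submodule.map_smul'', Submodule.map_subtype_top, Submodule.map_bot, ← Submodule.mul_smul,
        ← pow_succ, h]
    have hQ : Module.Finite P (M ⧸ W) := by
      obtain ⟨r, s, hs⟩ := Module.Finite.exists_fin (R := R) (M := M ⧸ W)
      refine ⟨⟨(Set.finite_range s).toFinset, ?_⟩⟩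
      rw [Set.Finite.coe_toFinset, eq_top_iff]
      intro z _
      have hz : z ∈ Submodule.span R (Set.range s) := hs ▸ Submodule.mem_top
      refine Submodule.span_induction (fun y hy => Submodule.subset_span hy) (Submodule.zero_mem _)
        (fun _ _ _ _ => add_mem) (fun a y _ hy => ?_) hz
      obtain ⟨c, hc⟩ := hres (residue R a)
      have : a • y = c • y := by
        obtain ⟨y, rfl⟩ := Submodule.Quotient.mk_surjective _ y
        rw [← algebraMap_smul R c (Submodule.Quotient.mk y : M ⧸ W), ← Submodule.Quotient.mk_smul,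
          ← Submodule.Quotient.mk_smul, Submodule.Quotient.eq, ← sub_smul]
        refine Submodule.smul_mem_smul ?_ Submodule.mem_top
        rw [← residue_eq_zero_iff, map_sub, ← hc, RingHom.comp_apply, sub_self]
      rw [this]
      exact Submodule.smul_mem _ _ hy
    have h1 : Module.Finite P (W.restrictScalars P) := hW
    have h2 : Module.Finite P (M ⧸ W.restrictScalars P) :=
      Module.Finite.equiv (Submodule.Quotient.restrictScalarsEquiv P W).symm
    exact Module.Finite.of_submodule_quotient (W.restrictScalars P)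

end finite

/-- Noether normalisation for complete local domains. -/
theorem exists_finite_injective (R : Type u) [CommRing R] [IsDomain R] [IsLocalRing R]
    [IsNoetherianRing R] [IsAdicComplete (maximalIdeal R) R] :
    ∃ (Λ : Type u) (_ : CommRing Λ) (n : ℕ) (f : MvPowerSeries (Fin n) Λ →+* R),
      (IsField Λ ∨ CAlg.IsCohenRing Λ) ∧ Function.Injective f ∧ f.Finite ∧
      Function.Surjective ((residue R).comp f) := by
  classical
  obtain ⟨Λ, _, _, g, hg, hcase, hc, hN, hmap⟩ := exists_coefficient_ring' R
  obtain ⟨d, hd⟩ : ∃ d : ℕ, ringKrullDim R = d := CommAlgDim.exists_ringKrullDim_eq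
  obtain ⟨π, n, x, M, hxm, hmΛ, hM, hdim, hreg⟩ : ∃ (π : Λ) (n : ℕ) (x : Fin n → R) (M : ℕ),
      (∀ i, x i ∈ maximalIdeal R) ∧ maximalIdeal Λ = Ideal.span {π} ∧
      maximalIdeal R ^ M ≤ Ideal.span (insert (g π) (Set.range x)) ∧
      ((π = 0 ∧ n ≤ d) ∨ n + 1 ≤ d) ∧ IsRegularRing Λ := by
    rcases hcase with hF | ⟨hC, p, hp, hmp, hp0, hpm⟩
    · let _ : Field Λ := hF.toField
      obtain ⟨n, x, M, hM, hn, hx⟩ := exists_primary_family R
      refine ⟨0, n, x, M, hx, by rw [maximalIdeal_eq_bot, Ideal.span_singleton_eq_bot.2 rfl],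
        hM.trans (Ideal.span_mono (Set.subset_insert _ _)), .inl ⟨rfl, ?_⟩, inferInstance⟩
      rw [hd] at hn
      exact_mod_cast hn.le
    · obtain ⟨_, hdvr, -, -⟩ := hC
      have hne : Ideal.span {(p : R)} ≠ ⊤ := fun h => (maximalIdeal.isMaximal R).ne_top
        (top_le_iff.1 (h ▸ (Ideal.span_singleton_le_iff_mem _).2 hpm))
      have : Nontrivial (R ⧸ Ideal.span {(p : R)}) := Ideal.Quotient.nontrivial_iff.2 hne
      have : IsLocalRing (R ⧸ Ideal.span {(p : R)}) :=
        IsLocalRing.of_surjective' (Ideal.Quotient.mk _) Ideal.Quotient.mk_surjective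
      have hmq : maximalIdeal (R ⧸ Ideal.span {(p : R)}) = (maximalIdeal R).map (Ideal.Quotient.mk _) := by
        refine (IsLocalRing.eq_maximalIdeal ?_).symm
        exact Ideal.IsMaximal.map_of_surjective_of_ker_le Ideal.Quotient.mk_surjective
          (by rw [Ideal.mk_ker]; exact (Ideal.span_singleton_le_iff_mem _).2 hpm)
      obtain ⟨n, y, M, hM, hn, hy⟩ := exists_primary_family (R ⧸ Ideal.span {(p : R)})
      choose x hxy using fun i => Ideal.Quotient.mk_surjective (y i)
      refine ⟨p, n, x, M, fun i => fun hu => hy i (hxy i ▸ hu.map _), hmp, ?_, .inr ?_, inferInstance⟩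
      · intro r hr
        have h1 := Ideal.mem_map_of_mem (Ideal.Quotient.mk (Ideal.span {(p : R)})) hr
        rw [Ideal.map_pow, ← hmq] at h1
        have h2 := hM h1
        rw [show y = Ideal.Quotient.mk (Ideal.span {(p : R)}) ∘ x from funext fun i => (hxy i).symm,
          Set.range_comp, ← Ideal.map_span] at h2
        rw [← Ideal.mem_comap, Ideal.comap_map_of_surjective _ Ideal.Quotient.mk_surjective,
          ← RingHom.ker_eq_comap_bot, Ideal.mk_ker, sup_comm] at h2
        rw [map_natCast, Ideal.span_insert]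
        exact h2
      · have h1 := ringKrullDim_quotient_succ_le_of_nonZeroDivisor
          (mem_nonZeroDivisors_of_ne_zero hp0)
        rw [← hn, hd] at h1
        exact_mod_cast h1
  let f := psHom (maximalIdeal R) g x hxm
  let P := MvPowerSeries (Fin n) Λ
  have hP : IsRegularRing P := CommAlgDim.isRegularRing_mvPowerSeries Λ n
  have hPl : IsRegularLocalRing P := IsRegularLocalRing.of_isRegularRing_of_isLocalRing P
  have := isAdicComplete_sup_varsIdeal (n := n) Λ (maximalIdeal Λ)
  have hres : Function.Surjective ((residue R).comp f) := fun r => by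
    obtain ⟨c, hc⟩ := hg r
    exact ⟨MvPowerSeries.C c, by rw [RingHom.comp_apply, psHom_C]; exact hc⟩
  let J : Ideal R := (maximalIdeal P).map f
  have hJ : J = Ideal.span (insert (g π) (Set.range x)) := by
    show (maximalIdeal P).map f = _
    rw [maximalIdeal_mvPowerSeries, Ideal.map_sup, Ideal.map_map, varsIdeal, Ideal.map_span f,
      ← Set.range_comp,
      show f.comp MvPowerSeries.C = g from RingHom.ext fun c => psHom_C _ _ _ hxm c,
      show f ∘ MvPowerSeries.X = x from funext fun i => psHom_X _ _ _ hxm i, hmΛ, Ideal.map_span,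
      Set.image_singleton, ← Ideal.span_union, Set.singleton_union]
  have hJm : J ≤ maximalIdeal R := by
    rw [hJ, Ideal.span_le]
    rintro z (rfl | ⟨i, rfl⟩)
    · exact hmap (Ideal.mem_map_of_mem g (hmΛ ▸ Ideal.mem_span_singleton_self _))
    · exact hxm i
  have : IsHausdorff J R := ⟨fun z hz => IsHausdorff.haus (I := maximalIdeal R) inferInstance z fun k =>
    (hz k).mono (Submodule.smul_mono (Ideal.pow_right_mono hJm k) le_rfl)⟩
  let _ : Algebra P R := f.toAlgebra
  have hfinJ : Module.Finite P (R ⧸ J) := by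
    refine finite_of_pow_maximal_killed (P := P) hres M (R ⧸ J) ?_
    rw [eq_bot_iff]
    refine Submodule.smul_le.2 fun a ha z _ => ?_
    obtain ⟨z, rfl⟩ := Ideal.Quotient.mk_surjective z
    rw [Submodule.mem_bot, Algebra.smul_def, Ideal.Quotient.algebraMap_eq, ← map_mul,
      Ideal.Quotient.eq_zero_iff_mem]
    exact Ideal.mul_mem_right _ _ (hJ ▸ hM ha)
  have hfin : f.Finite := by
    refine finite_of_complete J ((maximalIdeal Λ).map MvPowerSeries.C ⊔ varsIdeal Λ n) f
      (by rw [← maximalIdeal_mvPowerSeries]) ?_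
    show (algebraMap P (R ⧸ J)).Finite
    exact RingHom.finite_algebraMap.2 hfinJ
  refine ⟨Λ, inferInstance, n, f, hcase.imp id And.left, ?_, hfin, hres⟩
  rw [RingHom.injective_iff_ker_eq_bot]
  by_contra hker
  let _ : Algebra (P ⧸ RingHom.ker f) R := (Ideal.Quotient.lift (RingHom.ker f) f fun _ h => h).toAlgebra
  have : IsScalarTower P (P ⧸ RingHom.ker f) R :=
    @IsScalarTower.of_algebraMap_eq P (P ⧸ RingHom.ker f) R _ _ _ _ _ _ fun _ => rfl
  have hfinA : Module.Finite P R := hfin
  have : Module.Finite (P ⧸ RingHom.ker f) R := Module.Finite.of_restrictScalars_finite P _ R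
  have h1 : ringKrullDim R ≤ ringKrullDim (P ⧸ RingHom.ker f) := ringKrullDim_le_of_isIntegral _ _
  have h2 := CommAlgDim.ringKrullDim_quotient_lt (R := P) (I := RingHom.ker f) hker
  have h3 : ringKrullDim P ≤ (d : WithBot ℕ∞) := by
    refine (ringKrullDim_le_spanFinrank_maximalIdeal P).trans ?_
    norm_cast
    have hgen : maximalIdeal P = Ideal.span (insert (MvPowerSeries.C π) (Set.range MvPowerSeries.X)) := by
      rw [maximalIdeal_mvPowerSeries, hmΛ, Ideal.map_span, Set.image_singleton, varsIdeal,
        Ideal.span_insert]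
    rcases hdim with ⟨rfl, hn⟩ | hn
    · rw [map_zero, Ideal.span_insert_zero] at hgen
      rw [hgen]
      refine (Submodule.spanFinrank_span_le_ncard_of_finite (Set.finite_range _)).trans ?_
      refine le_trans ?_ hn
      rw [← Set.image_univ]
      exact (Set.ncard_image_le (Set.finite_univ)).trans (by simp [Set.ncard_univ])
    · rw [hgen]
      refine (Submodule.spanFinrank_span_le_ncard_of_finite ((Set.finite_range _).insert _)).trans ?_
      refine (Set.ncard_insert_le _ _).trans (le_trans ?_ hn)
      rw [← Set.image_univ]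
      exact Nat.add_le_add_right ((Set.ncard_image_le (Set.finite_univ)).trans (by simp [Set.ncard_univ])) 1
  exact lt_irrefl _ ((h1.trans_lt h2).trans_le (h3.trans hd.ge))

end CohenLib
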