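import Groth.Agent.CompleteLib.CompletionHom
import Groth.Agent.CompleteLib.TwoIdeals
import Groth.Agent.CompleteLib.Noetherian
import Mathlib.RingTheory.MvPowerSeries.Equiv
import Mathlib.RingTheory.MvPowerSeries.Inverse
import Mathlib.RingTheory.AdicCompletion.Topology
import Mathlib.RingTheory.MvPolynomial.Ideal

/-! Homomorphisms out of power series rings into complete rings. -/

universe u v

open MvPowerSeries

namespace CohenLib

variable {n : ℕ} (Λ : Type u) [CommRing Λ]

/-- The ideal of the variables. -/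
noncomputable def varsIdeal (n : ℕ) : Ideal (MvPowerSeries (Fin n) Λ) :=
  Ideal.span (Set.range MvPowerSeries.X)

theorem map_idealOfVars_equiv :
    (varsIdeal Λ n).map (toAdicCompletionAlgEquiv (Fin n) Λ).toRingEquiv =
      (MvPolynomial.idealOfVars (Fin n) Λ).map
        (algebraMap (MvPolynomial (Fin n) Λ) (AdicCompletion _ (MvPolynomial (Fin n) Λ))) := by
  show (Ideal.span _).map _ = (Ideal.span _).map _
  rw [Ideal.map_span, Ideal.map_span, ← Set.range_comp,
    ← Set.range_comp]
  congr 2
  funext i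
  show toAdicCompletionAlgEquiv (Fin n) Λ (MvPowerSeries.X i) = _
  rw [show (MvPowerSeries.X i : MvPowerSeries (Fin n) Λ) =
    algebraMap (MvPolynomial (Fin n) Λ) (MvPowerSeries (Fin n) Λ) (MvPolynomial.X i) by
      rw [MvPowerSeries.algebraMap_apply']; simp, AlgEquiv.commutes]
  rfl

theorem fg_idealOfVars : (MvPolynomial.idealOfVars (Fin n) Λ).FG := by
  exact MvPolynomial.idealOfVars_fg (Fin n) Λ

theorem isAdicComplete_varsIdeal : IsAdicComplete (varsIdeal Λ n) (MvPowerSeries (Fin n) Λ) := by
  rw [← IsAdicComplete.congr_ringEquiv (varsIdeal Λ n) (toAdicCompletionAlgEquiv (Fin n) Λ).toRingEquiv,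
    map_idealOfVars_equiv]
  exact (IsAdicComplete.map_algebraMap_iff _ _).2
    (AdicCompletion.isAdicComplete (M := MvPolynomial (Fin n) Λ) (fg_idealOfVars Λ))

theorem ker_constantCoeff : RingHom.ker (MvPowerSeries.constantCoeff (σ := Fin n) (R := Λ)) =
    varsIdeal Λ n := by
  refine le_antisymm (fun f hf => ?_) ?_
  · let e := toAdicCompletionAlgEquiv (Fin n) Λ
    have h1 : e f ∈ RingHom.ker (AdicCompletion.evalOneₐ (MvPolynomial.idealOfVars (Fin n) Λ)).toRingHom := by
      have h2 : AdicCompletion.evalₐ (MvPolynomial.idealOfVars (Fin n) Λ) 1 (e f) = 0 := by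
        have h3 : (e f).val 1 = 0 := by
          rw [toAdicCompletionAlgEquiv_apply, toAdicCompletion_apply_eq_mk_truncTotal,
            Ideal.Quotient.eq_zero_iff_mem, smul_eq_mul, Ideal.mul_top,
            MvPolynomial.mem_pow_idealOfVars_iff']
          intro x hx
          have hx0 : x = 0 := (Finsupp.degree_eq_zero_iff x).1 (by omega)
          rw [MvPowerSeries.coeff_truncTotal _ hx, hx0, ← hf]
          rfl
        simp only [AdicCompletion.evalₐ, AlgHom.comp_apply]
        show Ideal.quotientEquivAlgOfEq _ _ ((e f).val 1) = 0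
        rw [h3, map_zero]
      rw [RingHom.mem_ker]
      show AdicCompletion.evalOneₐ _ (e f) = 0
      rw [← AdicCompletion.factorₐ_evalₐ_one, h2, map_zero]
    rw [AdicCompletion.ker_evalOneₐ_eq_map _ (fg_idealOfVars Λ), ← map_idealOfVars_equiv] at h1
    obtain ⟨g, hg, hgf⟩ := (Ideal.mem_map_iff_of_surjective _ e.toRingEquiv.surjective).1 h1
    rwa [← e.injective hgf]
  · rw [varsIdeal, Ideal.span_le]
    rintro _ ⟨i, rfl⟩
    exact MvPowerSeries.constantCoeff_X i

theorem constantCoeff_surjective :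
    Function.Surjective (MvPowerSeries.constantCoeff (σ := Fin n) (R := Λ)) :=
  fun a => ⟨MvPowerSeries.C a, MvPowerSeries.constantCoeff_C a⟩

/-- Power series over a Noetherian ring form a Noetherian ring. -/
theorem isNoetherianRing_mvPowerSeries [IsNoetherianRing Λ] :
    IsNoetherianRing (MvPowerSeries (Fin n) Λ) := by
  have := isAdicComplete_varsIdeal (n := n) Λ
  have : IsNoetherianRing (MvPowerSeries (Fin n) Λ ⧸ varsIdeal Λ n) :=
    isNoetherianRing_of_ringEquiv Λ ((Ideal.quotEquivOfEq (ker_constantCoeff Λ).symm).trans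
      (RingHom.quotientKerEquivOfSurjective (constantCoeff_surjective Λ))).symm
  exact CompleteLib.isNoetherianRing_of_isAdicComplete (varsIdeal Λ n)
    ⟨(Set.finite_range MvPowerSeries.X).toFinset, by rw [Set.Finite.coe_toFinset]; rfl⟩

/-- Completeness with respect to an ideal of coefficients together with the variables. -/
theorem isAdicComplete_sup_varsIdeal [IsNoetherianRing Λ] (a : Ideal Λ) [IsAdicComplete a Λ] :
    IsAdicComplete (a.map MvPowerSeries.C ⊔ varsIdeal Λ n) (MvPowerSeries (Fin n) Λ) := by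
  have := isAdicComplete_varsIdeal (n := n) Λ
  have := isNoetherianRing_mvPowerSeries (n := n) Λ
  let e : (MvPowerSeries (Fin n) Λ ⧸ varsIdeal Λ n) ≃+* Λ :=
    (Ideal.quotEquivOfEq (ker_constantCoeff Λ).symm).trans
      (RingHom.quotientKerEquivOfSurjective (constantCoeff_surjective Λ))
  have : IsAdicComplete ((a.map MvPowerSeries.C ⊔ varsIdeal Λ n).map
      (Ideal.Quotient.mk (varsIdeal Λ n))) (MvPowerSeries (Fin n) Λ ⧸ varsIdeal Λ n) := by
    rw [← IsAdicComplete.congr_ringEquiv _ e]
    suffices Ideal.map e ((a.map MvPowerSeries.C ⊔ varsIdeal Λ n).map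
        (Ideal.Quotient.mk (varsIdeal Λ n))) = a by rw [this]; infer_instance
    rw [Ideal.map_sup, Ideal.map_quotient_self, sup_bot_eq, Ideal.map_map, ← Ideal.map_coe e,
      Ideal.map_map]
    refine Eq.trans ?_ (Ideal.map_id a)
    congr 1
  exact CompleteLib.isAdicComplete_of_quotient (varsIdeal Λ n) _

variable {Λ} {R : Type v} [CommRing R] (I : Ideal R) [IsAdicComplete I R]

/-- Evaluation of power series in a complete ring. -/
noncomputable def psHom (g : Λ →+* R) (x : Fin n → R) (hx : ∀ i, x i ∈ I) :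
    MvPowerSeries (Fin n) Λ →+* R :=
  (CompleteLib.completionLift (MvPolynomial.idealOfVars (Fin n) Λ) I (MvPolynomial.eval₂Hom g x)
    (by
      show (Ideal.span _).map _ ≤ I
      rw [Ideal.map_span, Ideal.span_le]
      rintro _ ⟨_, ⟨i, rfl⟩, rfl⟩
      rw [MvPolynomial.eval₂Hom_X']
      exact hx i)).comp (toAdicCompletionAlgEquiv (Fin n) Λ).toRingEquiv.toRingHom

theorem psHom_coe (g : Λ →+* R) (x : Fin n → R) (hx : ∀ i, x i ∈ I) (q : MvPolynomial (Fin n) Λ) :
    psHom I g x hx (algebraMap (MvPolynomial (Fin n) Λ) (MvPowerSeries (Fin n) Λ) q) =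
      MvPolynomial.eval₂Hom g x q := by
  show CompleteLib.completionLift _ _ _ _ (toAdicCompletionAlgEquiv (Fin n) Λ _) = _
  rw [AlgEquiv.commutes, CompleteLib.completionLift_algebraMap]

theorem psHom_C (g : Λ →+* R) (x : Fin n → R) (hx : ∀ i, x i ∈ I) (c : Λ) :
    psHom I g x hx (MvPowerSeries.C c) = g c := by
  rw [show (MvPowerSeries.C c : MvPowerSeries (Fin n) Λ) =
    algebraMap (MvPolynomial (Fin n) Λ) _ (MvPolynomial.C c) by
      rw [MvPowerSeries.algebraMap_apply']; simp, psHom_coe, MvPolynomial.eval₂Hom_C]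

theorem psHom_X (g : Λ →+* R) (x : Fin n → R) (hx : ∀ i, x i ∈ I) (i : Fin n) :
    psHom I g x hx (MvPowerSeries.X i) = x i := by
  rw [show (MvPowerSeries.X i : MvPowerSeries (Fin n) Λ) =
    algebraMap (MvPolynomial (Fin n) Λ) _ (MvPolynomial.X i) by
      rw [MvPowerSeries.algebraMap_apply']; simp, psHom_coe, MvPolynomial.eval₂Hom_X']

omit [IsAdicComplete I R] in
/-- Surjectivity is detected modulo a generated ideal. -/
theorem surjective_of_complete {P : Type u} [CommRing P] (a : Ideal P) [IsPrecomplete a P]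
    (φ : P →+* R) (hI : a.map φ = I) [IsHausdorff I R]
    (h : ∀ r, ∃ q, r - φ q ∈ I) : Function.Surjective φ := by
  let _ : Algebra P R := φ.toAlgebra
  have hsm : ∀ m : ℕ, (a ^ m • ⊤ : Submodule P R) = ((I ^ m : Ideal R).restrictScalars P) := fun m => by
    rw [Ideal.smul_top_eq_map, Ideal.map_pow]
    congr 2
  have h1 := (CompleteLib.approx_filtration_eq (I := a) (fun _ : Unit => (1 : R))
    (fun m => (a ^ m • ⊤ : Submodule P R)) (fun i j hij => CompleteLib.pow_smul_top_anti hij)
    (fun z hz => IsHausdorff.haus (I := I) inferInstance z fun m => by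
      rw [SModEq.zero, smul_eq_mul, Ideal.mul_top]
      have := hz m
      rwa [hsm, Submodule.restrictScalars_mem] at this)
    (fun m => le_rfl) (fun m => by
      have hgen : (⊤ : Submodule P R) ≤ Submodule.span P (Set.range fun _ : Unit => (1 : R)) ⊔ a • ⊤ := by
        intro r _
        obtain ⟨q, hq⟩ := h r
        rw [show r = q • (1 : R) + (r - φ q) by rw [Algebra.smul_def, mul_one]; exact (add_sub_cancel _ _).symm]
        refine Submodule.add_mem_sup (Submodule.smul_mem _ _ (Submodule.subset_span ⟨(), rfl⟩)) ?_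
        rw [← pow_one a, hsm, Submodule.restrictScalars_mem, pow_one]
        exact hq
      refine (Submodule.smul_mono le_rfl hgen).trans ?_
      rw [Submodule.smul_sup, ← Submodule.mul_smul, ← pow_succ])
    (by rw [pow_zero, Ideal.one_eq_top, Submodule.top_smul])).1
  intro r
  have h2 : r ∈ Submodule.span P (Set.range fun _ : Unit => (1 : R)) := h1 ▸ Submodule.mem_top
  rw [Set.range_const, Submodule.mem_span_singleton] at h2
  obtain ⟨q, rfl⟩ := h2
  exact ⟨q, by rw [Algebra.smul_def, mul_one]; rfl⟩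

omit [IsAdicComplete I R] in
/-- Finiteness is detected modulo a generated ideal. -/
theorem finite_of_complete {P : Type u} [CommRing P] (a : Ideal P) [IsPrecomplete a P]
    (φ : P →+* R) (hI : a.map φ = I) [IsHausdorff I R]
    (h : ((Ideal.Quotient.mk I).comp φ).Finite) : φ.Finite := by
  let _ : Algebra P R := φ.toAlgebra
  have hH : IsHausdorff a R := (IsHausdorff.map_algebraMap_iff (I := a) (S := R) (M := R)).1
    (by rw [show a.map (algebraMap P R) = I from hI]; infer_instance)
  refine CompleteLib.finite_of_quotient_finite (I := a) ?_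
  have heq : (a • ⊤ : Submodule P R) = I.restrictScalars P := by
    rw [Ideal.smul_top_eq_map]
    congr 1
  rw [heq]
  let _ : Algebra P (R ⧸ I) := ((Ideal.Quotient.mk I).comp φ).toAlgebra
  have hfin : Module.Finite P (R ⧸ I) := h
  exact Module.Finite.equiv
    { (AddEquiv.refl (R ⧸ I) : R ⧸ I ≃+ (R ⧸ I.restrictScalars P)) with
      map_smul' := fun q z => by
        obtain ⟨z, rfl⟩ := Ideal.Quotient.mk_surjective z
        rfl }

/-- Every power series is a polynomial modulo a power of the ideal of the variables. -/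
theorem exists_polynomial_sub_mem {Λ : Type u} [CommRing Λ] (N : ℕ) (f : MvPowerSeries (Fin n) Λ) :
    ∃ q : MvPolynomial (Fin n) Λ,
      f - algebraMap (MvPolynomial (Fin n) Λ) _ q ∈ varsIdeal Λ n ^ N := by
  let e := toAdicCompletionAlgEquiv (Fin n) Λ
  let Iv := MvPolynomial.idealOfVars (Fin n) Λ
  obtain ⟨q, hq⟩ := Submodule.Quotient.mk_surjective (Iv ^ N • ⊤ : Submodule _ _) ((e f).val N)
  refine ⟨q, ?_⟩
  have h1 : e (f - algebraMap _ _ q) ∈ (Iv ^ N • ⊤ : Submodule (MvPolynomial (Fin n) Λ)
      (AdicCompletion Iv (MvPolynomial (Fin n) Λ))) := by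
    rw [AdicCompletion.pow_smul_top_eq_ker_eval (fg_idealOfVars Λ), LinearMap.mem_ker, map_sub,
      AlgEquiv.commutes, map_sub, sub_eq_zero, AdicCompletion.eval_apply, AdicCompletion.eval_apply,
      ← hq]
    rfl
  rw [Ideal.smul_top_eq_map, Submodule.restrictScalars_mem, Ideal.map_pow,
    ← map_idealOfVars_equiv, ← Ideal.map_pow] at h1
  obtain ⟨g, hg, hgf⟩ := (Ideal.mem_map_iff_of_surjective _ e.toRingEquiv.surjective).1 h1
  rwa [← e.injective hgf]

/-- Homomorphisms killing a power of the ideal of variables are determined by constants and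
variables. -/
theorem ps_hom_ext {Λ : Type u} [CommRing Λ] {S : Type*} [CommRing S]
    (φ ψ : MvPowerSeries (Fin n) Λ →+* S) (hC : ∀ c, φ (MvPowerSeries.C c) = ψ (MvPowerSeries.C c))
    (hX : ∀ i, φ (MvPowerSeries.X i) = ψ (MvPowerSeries.X i)) (N : ℕ)
    (hφ : ∀ f ∈ varsIdeal Λ n ^ N, φ f = 0) (hψ : ∀ f ∈ varsIdeal Λ n ^ N, ψ f = 0) : φ = ψ := by
  refine RingHom.ext fun f => ?_
  obtain ⟨q, hq⟩ := exists_polynomial_sub_mem N f
  have h1 := hφ _ hq
  have h2 := hψ _ hq
  rw [map_sub, sub_eq_zero] at h1 h2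
  rw [h1, h2]
  have : φ.comp (algebraMap (MvPolynomial (Fin n) Λ) _) =
      ψ.comp (algebraMap (MvPolynomial (Fin n) Λ) _) := MvPolynomial.ringHom_ext
    (fun c => by
      rw [RingHom.comp_apply, RingHom.comp_apply, show algebraMap (MvPolynomial (Fin n) Λ)
        (MvPowerSeries (Fin n) Λ) (MvPolynomial.C c) = MvPowerSeries.C c by
          rw [MvPowerSeries.algebraMap_apply']; simp, hC])
    (fun i => by
      rw [RingHom.comp_apply, RingHom.comp_apply, show algebraMap (MvPolynomial (Fin n) Λ)
        (MvPowerSeries (Fin n) Λ) (MvPolynomial.X i) = MvPowerSeries.X i by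
          rw [MvPowerSeries.algebraMap_apply']; simp, hX])
  exact RingHom.congr_fun this q

theorem isAdicComplete_of_isNilpotent {S : Type*} [CommRing S] (I : Ideal S) (hI : IsNilpotent I) :
    IsAdicComplete I S := by
  obtain ⟨N, hN⟩ := hI
  refine { haus' := fun x hx => ?_, prec' := fun f hf => ⟨f N, fun m => ?_⟩ }
  · have := hx N
    rw [SModEq.zero, smul_eq_mul, Ideal.mul_top, hN] at this
    exact this
  · rcases le_total m N with h | h
    · exact hf h
    · have h1 := hf h
      rw [SModEq.sub_mem, smul_eq_mul, Ideal.mul_top, hN] at h1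
      rw [sub_eq_zero.1 (show f N - f m = 0 from h1)]

end CohenLib
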