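import Groth.Agent.CohenLib.Lifts
import Groth.Agent.CohenLib.PSHom
import Groth.Agent.S0578
import Groth.Agent.S0579
import Groth.Prelude.Def_Found
import Mathlib.RingTheory.LocalRing.ResidueField.Basic
import Mathlib.RingTheory.Filtration

/-! Cohen structure theorems. -/

universe u

open IsLocalRing

namespace CohenLib

/-- The basic facts about a Cohen ring. -/
theorem cohen_props {Λ : Type u} [CommRing Λ] [IsLocalRing Λ] (h : CAlg.IsCohenRing Λ) :
    ∃ p : ℕ, Fact p.Prime ∧ maximalIdeal Λ = Ideal.span {(p : Λ)} ∧ IsAdicComplete (maximalIdeal Λ) Λ ∧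
      IsDomain Λ ∧ CharZero Λ ∧ IsNoetherianRing Λ ∧ CharP (ResidueField Λ) p ∧
      HasPadicLifts Λ p := by
  obtain ⟨_, hdvr, hc, p, hp, hm⟩ := h
  have hpF : Fact p.Prime := ⟨hp⟩
  have hres : CharP (ResidueField Λ) p := by
    refine (CharP.charP_iff_prime_eq_zero hp).2 ?_
    rw [← map_natCast (residue Λ), residue_eq_zero_iff, hm]
    exact Ideal.mem_span_singleton_self _
  have hp0 : (p : Λ) ≠ 0 := fun h0 => IsDiscreteValuationRing.not_a_field Λ (by
    rw [hm, h0, Ideal.span_singleton_eq_bot])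
  have : CharZero Λ := by
    rcases CharP.exists Λ with ⟨q, hq⟩
    rcases Nat.eq_zero_or_pos q with rfl | hqpos
    · exact CharP.charP_to_charZero Λ
    · exfalso
      have h1 : (q : ResidueField Λ) = 0 := by
        rw [← map_natCast (residue Λ), CharP.cast_eq_zero, map_zero]
      have hpq : p ∣ q := (CharP.cast_eq_zero_iff (ResidueField Λ) p q).1 h1
      have hqp : q.Prime := (CharP.char_is_prime_or_zero Λ q).resolve_right hqpos.ne'
      rw [(Nat.prime_dvd_prime_iff_eq hp hqp).1 hpq] at hp0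
      exact hp0 (CharP.cast_eq_zero Λ q)
  exact ⟨p, hpF, hm, hc, inferInstance, this, inferInstance, hres,
    hasPadicLifts (hm ▸ maximalIdeal.isMaximal Λ)⟩

/-- A homomorphism to the residue field of a complete local ring lifts. -/
theorem exists_lift_residue {Λ R : Type u} [CommRing Λ] [CommRing R] [IsLocalRing R]
    [IsAdicComplete (maximalIdeal R) R] {p : ℕ} (h : HasPadicLifts Λ p)
    (hp : (p : ResidueField R) = 0) (u : Λ →+* ResidueField R) :
    ∃ v : Λ →+* R, (residue R).comp v = u :=
  h.exists_lift_complete (maximalIdeal R) (by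
    rw [← residue_eq_zero_iff, map_natCast]; exact hp) (maximalIdeal R) le_rfl
    (fun x hx => by simpa using hx 1) u

/-- A coefficient ring: a field or a Cohen ring surjecting onto the residue field. -/
theorem exists_coefficient_ring (R : Type u) [CommRing R] [IsLocalRing R]
    [IsAdicComplete (maximalIdeal R) R] :
    ∃ (Λ : Type u) (_ : CommRing Λ) (_ : IsLocalRing Λ) (g : Λ →+* R),
      Function.Surjective ((residue R).comp g) ∧
      ((IsField Λ ∧ CharZero (ResidueField R)) ∨ (CAlg.IsCohenRing Λ ∧ ¬ CharZero (ResidueField R))) ∧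
      IsAdicComplete (maximalIdeal Λ) Λ ∧ IsNoetherianRing Λ ∧
      (maximalIdeal Λ).map g ≤ maximalIdeal R := by
  rcases CharP.exists (ResidueField R) with ⟨p, hp⟩
  rcases (CharP.char_is_prime_or_zero (ResidueField R) p).symm with rfl | hpp
  · have : CharZero (ResidueField R) := CharP.charP_to_charZero _
    obtain ⟨s, hs⟩ := Groth.Agent.S0579.result R
    refine ⟨ResidueField R, inferInstance, inferInstance, s, fun x => ⟨x, RingHom.congr_fun hs x⟩,
      .inl ⟨Field.toIsField _, this⟩, ?_, inferInstance, ?_⟩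
    · rw [maximalIdeal_eq_bot]
      exact isAdicComplete_of_isNilpotent ⊥ ⟨1, pow_one _⟩
    · rw [maximalIdeal_eq_bot, Ideal.map_bot]
      exact bot_le
  · have : Fact p.Prime := ⟨hpp⟩
    obtain ⟨Λ, _, _, hΛ, ⟨e⟩⟩ := Groth.Agent.S0578.result p (ResidueField R)
    obtain ⟨q, hq, hm, hc, _, _, _, hres, hl⟩ := cohen_props hΛ
    have hqp : q = p := (CharP.eq (ResidueField Λ) hres
      (charP_of_injective_ringHom (f := e.symm.toRingHom) e.symm.injective p))
    subst hqp
    obtain ⟨g, hg⟩ := exists_lift_residue hl (CharP.cast_eq_zero _ _) (e.toRingHom.comp (residue Λ))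
    refine ⟨Λ, inferInstance, inferInstance, g, ?_, .inr ⟨hΛ, fun h0 => ?_⟩, hc, inferInstance, ?_⟩
    · rw [hg]
      exact e.surjective.comp residue_surjective
    · exact hpp.ne_zero (CharP.eq (ResidueField R) hp (CharP.ofCharZero _))
    · rw [hm, Ideal.map_span, Set.image_singleton, map_natCast, Ideal.span_singleton_le_iff_mem,
        ← residue_eq_zero_iff, map_natCast]
      exact CharP.cast_eq_zero _ _

/-- A coefficient field, or a Cohen ring whose prime is nonzero in the ring. -/
theorem exists_coefficient_ring' (R : Type u) [CommRing R] [IsLocalRing R]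
    [IsAdicComplete (maximalIdeal R) R] :
    ∃ (Λ : Type u) (_ : CommRing Λ) (_ : IsLocalRing Λ) (g : Λ →+* R),
      Function.Surjective ((residue R).comp g) ∧
      (IsField Λ ∨ (CAlg.IsCohenRing Λ ∧ ∃ p : ℕ, p.Prime ∧
        maximalIdeal Λ = Ideal.span {(p : Λ)} ∧ (p : R) ≠ 0 ∧ (p : R) ∈ maximalIdeal R)) ∧
      IsAdicComplete (maximalIdeal Λ) Λ ∧ IsNoetherianRing Λ ∧
      (maximalIdeal Λ).map g ≤ maximalIdeal R := by
  obtain ⟨Λ, _, _, g, hg, hcase, hc, hN, hmap⟩ := exists_coefficient_ring R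
  rcases hcase with ⟨hF, -⟩ | ⟨hC, -⟩
  · exact ⟨Λ, inferInstance, inferInstance, g, hg, .inl hF, hc, hN, hmap⟩
  obtain ⟨p, hp, hm, -, -, -, -, -, -⟩ := cohen_props hC
  have hpm : (p : R) ∈ maximalIdeal R := by
    rw [← map_natCast g]
    exact hmap (Ideal.mem_map_of_mem g (hm ▸ Ideal.mem_span_singleton_self _))
  by_cases hp0 : (p : R) = 0
  · let g' : ResidueField Λ →+* R := Ideal.Quotient.lift (maximalIdeal Λ) g fun z hz => by
      rw [hm, Ideal.mem_span_singleton] at hz
      obtain ⟨w, rfl⟩ := hz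
      rw [map_mul, map_natCast, hp0, zero_mul]
    refine ⟨ResidueField Λ, inferInstance, inferInstance, g', fun x => ?_,
      .inl (Field.toIsField _), ?_, inferInstance, ?_⟩
    · obtain ⟨c, hc⟩ := hg x
      exact ⟨residue Λ c, hc⟩
    · rw [maximalIdeal_eq_bot]
      exact isAdicComplete_of_isNilpotent ⊥ ⟨1, pow_one _⟩
    · rw [maximalIdeal_eq_bot, Ideal.map_bot]
      exact bot_le
  · exact ⟨Λ, inferInstance, inferInstance, g, hg, .inr ⟨hC, p, hp.out, hm, hp0, hpm⟩, hc, hN, hmap⟩

/-- A surjective power series presentation. -/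
theorem exists_surjective_psHom (R : Type u) [CommRing R] [IsLocalRing R]
    [IsAdicComplete (maximalIdeal R) R] (hfg : (maximalIdeal R).FG) :
    ∃ (Λ : Type u) (_ : CommRing Λ) (_ : IsLocalRing Λ) (n : ℕ)
      (f : MvPowerSeries (Fin n) Λ →+* R),
      ((IsField Λ ∧ CharZero (ResidueField R)) ∨ (CAlg.IsCohenRing Λ ∧ ¬ CharZero (ResidueField R))) ∧
      IsNoetherianRing Λ ∧ Function.Surjective f := by
  obtain ⟨Λ, _, _, g, hg, hcase, hc, hN, hmap⟩ := exists_coefficient_ring R
  obtain ⟨n, x, hx⟩ := Submodule.fg_iff_exists_fin_generating_family.1 hfg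
  have hxm : ∀ i, x i ∈ maximalIdeal R := fun i => hx ▸ Submodule.subset_span ⟨i, rfl⟩
  have := isAdicComplete_sup_varsIdeal (n := n) Λ (maximalIdeal Λ)
  refine ⟨Λ, inferInstance, inferInstance, n, psHom (maximalIdeal R) g x hxm, hcase, hN, ?_⟩
  refine surjective_of_complete (maximalIdeal R)
    ((maximalIdeal Λ).map MvPowerSeries.C ⊔ varsIdeal Λ n) _ ?_ fun r => ?_
  · rw [Ideal.map_sup, Ideal.map_map, varsIdeal, Ideal.map_span, ← Set.range_comp]
    rw [show (psHom (maximalIdeal R) g x hxm).comp MvPowerSeries.C = g from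
      RingHom.ext fun c => psHom_C _ _ _ hxm c,
      show (psHom (maximalIdeal R) g x hxm) ∘ MvPowerSeries.X = x from
      funext fun i => psHom_X _ _ _ hxm i]
    rw [show Ideal.span (Set.range x) = maximalIdeal R from hx]
    exact sup_eq_right.2 hmap
  · obtain ⟨c, hc⟩ := hg (residue R r)
    refine ⟨MvPowerSeries.C c, ?_⟩
    rw [psHom_C, ← residue_eq_zero_iff, map_sub, ← hc, RingHom.comp_apply, sub_self]

/-- Isomorphisms of residue fields of Cohen rings lift. -/
theorem exists_equiv_of_residue {W W' : Type u} [CommRing W] [IsLocalRing W] [CommRing W']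
    [IsLocalRing W'] (hW : CAlg.IsCohenRing W) (hW' : CAlg.IsCohenRing W')
    (e : ResidueField W ≃+* ResidueField W') :
    ∃ v : W ≃+* W', ∀ x, residue W' (v x) = e (residue W x) := by
  obtain ⟨p, hp, hm, hc, _, _, _, hres, hl⟩ := cohen_props hW
  obtain ⟨q, hq, hm', hc', _, _, _, hres', -⟩ := cohen_props hW'
  have hpq : p = q := CharP.eq (ResidueField W') (charP_of_injective_ringHom (f := e.toRingHom)
    e.injective p) hres'
  subst hpq
  obtain ⟨v, hv⟩ := exists_lift_residue hl (CharP.cast_eq_zero _ _) (e.toRingHom.comp (residue W))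
  have hmap : (maximalIdeal W).map v = maximalIdeal W' := by
    rw [hm, hm', Ideal.map_span, Set.image_singleton, map_natCast]
  have hsurj : Function.Surjective v := surjective_of_complete (maximalIdeal W') (maximalIdeal W) v hmap
    fun r => by
      obtain ⟨z, hz⟩ := e.surjective (residue W' r)
      obtain ⟨w, rfl⟩ := residue_surjective z
      refine ⟨w, ?_⟩
      rw [← residue_eq_zero_iff, map_sub, ← RingHom.comp_apply, hv, ← hz]
      exact sub_self _
  have hinj : Function.Injective v := by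
    rw [injective_iff_map_eq_zero]
    intro x hx
    by_contra hx0
    obtain ⟨_, hdvr, -, -⟩ := hW
    obtain ⟨n, u, rfl⟩ := IsDiscreteValuationRing.eq_unit_mul_pow_irreducible hx0
      ((IsDiscreteValuationRing.irreducible_iff_uniformizer _).2 hm)
    rw [map_mul, map_pow, map_natCast] at hx
    have h1 := (u.isUnit.map v).mul_right_eq_zero.1 hx
    exact hp.out.ne_zero (Nat.cast_eq_zero.1 (pow_eq_zero_iff'.1 h1).1)
  exact ⟨RingEquiv.ofBijective v ⟨hinj, hsurj⟩, fun x => RingHom.congr_fun hv x⟩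

end CohenLib
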