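import Groth.Agent.CohenLib.GeomRed
import Groth.Agent.CohenLib.PSHom
import Mathlib.RingTheory.Smooth.AdicCompletion
import Mathlib.RingTheory.Ideal.Cotangent
import Mathlib.LinearAlgebra.Dual.Lemmas
import Mathlib.RingTheory.LocalProperties.Reduced
import Mathlib.RingTheory.LocalRing.ResidueField.Basic
import Mathlib.RingTheory.Artinian.Ring
import Mathlib.RingTheory.HopkinsLevitzki
import Mathlib.RingTheory.Unramified.Field
import Mathlib.RingTheory.Polynomial.Basic
import Mathlib.RingTheory.Localization.Submodule
import Mathlib.Algebra.Field.ZMod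
import Mathlib.Algebra.Algebra.Rat

/-! Formally smooth local algebras with nilpotent maximal ideal over perfect fields are fields;
formally smooth field extensions are geometrically reduced. -/

set_option autoImplicit false
universe u v

open IsLocalRing

namespace CohenLib

open scoped TensorProduct

theorem isField_of_formallySmooth {P : Type v} {B : Type u} [Field P] [PerfectField P] [CommRing B]
    [IsLocalRing B] [Algebra P B] [Algebra.FormallySmooth P B] (hnil : IsNilpotent (maximalIdeal B)) :
    IsField B := by
  classical
  have : Algebra.FormallySmooth P (ResidueField B) :=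
    Groth.Agent.PerfectFieldLib.formallySmooth_of_perfectField P (ResidueField B)
  obtain ⟨σ, hσ⟩ : ∃ σ : ResidueField B →ₐ[P] B, ∀ x, residue B (σ x) = x := by
    obtain ⟨s, hs⟩ := Algebra.FormallySmooth.exists_lift (maximalIdeal B) hnil
      (AlgHom.id P (ResidueField B) : ResidueField B →ₐ[P] B ⧸ maximalIdeal B)
    exact ⟨s, fun x => AlgHom.congr_fun hs x⟩
  by_contra hF
  have hne : maximalIdeal B ≠ ⊥ := fun h => hF (IsLocalRing.isField_iff_maximalIdeal_eq.2 h)
  obtain ⟨M, hM⟩ := hnil
  obtain ⟨x, hx, hx2⟩ : ∃ x ∈ maximalIdeal B, x ∉ maximalIdeal B ^ 2 := by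
    by_contra h
    push Not at h
    have h2 : maximalIdeal B * maximalIdeal B = maximalIdeal B :=
      le_antisymm Ideal.mul_le_left fun y hy => pow_two (maximalIdeal B) ▸ h y hy
    have : ∀ k, 1 ≤ k → maximalIdeal B ^ k = maximalIdeal B := fun k hk => by
      induction k, hk using Nat.le_induction with
      | base => exact pow_one _
      | succ k _ ih => rw [pow_succ, ih, h2]
    rcases Nat.eq_zero_or_pos M with hM0 | hM0
    · rw [hM0, pow_zero] at hM
      exact one_ne_zero (α := Ideal B) hM
    · exact hne ((this M hM0).symm.trans hM)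
  let v : CotangentSpace B := (maximalIdeal B).toCotangent ⟨x, hx⟩
  have hv : v ≠ 0 := fun h => hx2 ((Ideal.toCotangent_eq_zero _ _).1 h)
  obtain ⟨f, hf⟩ := Module.Projective.exists_dual_ne_zero (ResidueField B) hv
  let f₁ := (f v)⁻¹ • f
  have hf₁ : f₁ v = 1 := by
    show (f v)⁻¹ • f v = 1
    rw [smul_eq_mul, inv_mul_cancel₀ hf]
  let δ : B → maximalIdeal B := fun y => ⟨y - σ (residue B y), by
    rw [← residue_eq_zero_iff, map_sub, hσ, sub_self]⟩
  let d : B → ResidueField B := fun y => f₁ ((maximalIdeal B).toCotangent (δ y))
  have hd_add : ∀ a b, d (a + b) = d a + d b := fun a b => by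
    show f₁ _ = f₁ _ + f₁ _
    rw [← map_add, ← map_add]
    congr 2
    refine Subtype.ext ?_
    simp only [δ, map_add, AddMemClass.coe_add]
    ring
  have hd_mul : ∀ a b, d (a * b) = residue B a * d b + residue B b * d a := fun a b => by
    have h1 : δ (a * b) = a • δ b + σ (residue B b) • δ a := Subtype.ext (by
      simp only [δ, map_mul, Submodule.coe_add, SetLike.val_smul, smul_eq_mul]
      ring)
    show f₁ _ = _
    rw [h1, map_add, map_smul, map_smul, map_add, ← IsScalarTower.algebraMap_smul (ResidueField B) a,
      ← IsScalarTower.algebraMap_smul (ResidueField B) (σ (residue B b)), map_smul, map_smul,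
      smul_eq_mul, smul_eq_mul, ResidueField.algebraMap_eq, hσ]
  have hd_P : ∀ r : P, d (algebraMap P B r) = 0 := fun r => by
    show f₁ _ = 0
    rw [show δ (algebraMap P B r) = 0 from Subtype.ext (by
      show algebraMap P B r - σ (residue B (algebraMap P B r)) = 0
      rw [show residue B (algebraMap P B r) = algebraMap P (ResidueField B) r from rfl, σ.commutes,
        sub_self]), map_zero, map_zero]
  let L := ResidueField B
  let C := Polynomial L ⧸ Ideal.span {(Polynomial.X : Polynomial L) ^ (M + 2)}
  let t : C := Ideal.Quotient.mk _ Polynomial.X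
  let ι : L →+* C := (Ideal.Quotient.mk _).comp Polynomial.C
  let J : Ideal C := Ideal.span {t ^ 2}
  have ht : ∀ a b : L, ∀ a' b' : L, Ideal.Quotient.mk J ((ι a + ι b * t) * (ι a' + ι b' * t)) =
      Ideal.Quotient.mk J (ι (a * a') + ι (a * b' + a' * b) * t) := fun a b a' b' => by
    refine Ideal.Quotient.eq.2 (Ideal.mem_span_singleton.2 ⟨ι b * ι b', ?_⟩)
    simp only [map_mul, map_add]
    ring
  have hJ : IsNilpotent J := by
    refine ⟨M + 2, ?_⟩
    rw [Ideal.span_singleton_pow, Ideal.zero_eq_bot, Ideal.span_singleton_eq_bot, ← pow_mul,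
      ← map_pow, Ideal.Quotient.eq_zero_iff_mem]
    exact Ideal.mem_span_singleton.2 (pow_dvd_pow _ (by omega))
  let u : B →+* C ⧸ J :=
    { toFun := fun y => Ideal.Quotient.mk J (ι (residue B y) + ι (d y) * t)
      map_one' := by
        have h1 : d 1 = 0 := by rw [← map_one (algebraMap P B)]; exact hd_P 1
        rw [h1, map_one, map_one, map_zero, zero_mul, add_zero, map_one]
      map_mul' := fun a b => by
        rw [map_mul, hd_mul, ← map_mul (Ideal.Quotient.mk J), ht]
      map_zero' := by
        have h1 : d 0 = 0 := by rw [← map_zero (algebraMap P B)]; exact hd_P 0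
        rw [h1, map_zero, map_zero, zero_mul, add_zero, map_zero]
      map_add' := fun a b => by
        rw [hd_add]
        simp only [map_add, add_mul]
        ring }
  let u' : B →ₐ[P] C ⧸ J :=
    { u with
      commutes' := fun r => by
        show Ideal.Quotient.mk J (ι (residue B (algebraMap P B r)) + ι (d (algebraMap P B r)) * t) = _
        rw [hd_P, map_zero, zero_mul, add_zero]
        rfl }
  obtain ⟨w, hw⟩ := Algebra.FormallySmooth.exists_lift J hJ u'
  have hwx : w x - t ∈ J := by
    rw [← Ideal.Quotient.eq]
    refine (AlgHom.congr_fun hw x).trans ?_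
    show Ideal.Quotient.mk J (ι (residue B x) + ι (d x) * t) = _
    have h1 : d x = 1 := by
      show f₁ _ = 1
      rw [show δ x = ⟨x, hx⟩ from Subtype.ext (by
        show x - σ (residue B x) = x
        rw [(residue_eq_zero_iff _).2 hx, map_zero, sub_zero])]
      exact hf₁
    rw [h1, (residue_eq_zero_iff _).2 hx, map_zero, map_one, one_mul, zero_add]
  obtain ⟨c, hc⟩ := Ideal.mem_span_singleton.1 hwx
  have h0 : (t * (1 + t * c)) ^ M = 0 := by
    rw [show t * (1 + t * c) = w x by rw [eq_add_of_sub_eq hc]; ring, ← map_pow,
      show x ^ M = 0 from by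
        have := Ideal.pow_mem_pow hx M
        rwa [hM, Ideal.zero_eq_bot, Ideal.mem_bot] at this, map_zero]
  have hu : IsUnit (1 + t * c) := by
    refine IsNilpotent.isUnit_one_add (Commute.isNilpotent_mul_right (Commute.all t c) ⟨M + 2, ?_⟩)
    rw [← map_pow, Ideal.Quotient.eq_zero_iff_mem]
    exact Ideal.mem_span_singleton_self _
  rw [mul_pow, (hu.pow M).mul_left_eq_zero, ← map_pow, Ideal.Quotient.eq_zero_iff_mem,
    Ideal.mem_span_singleton] at h0
  obtain ⟨g, hg⟩ := h0
  have := congrArg Polynomial.natDegree hg
  by_cases hg0 : g = 0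
  · rw [hg0, mul_zero] at hg
    exact pow_ne_zero M Polynomial.X_ne_zero hg
  rw [Polynomial.natDegree_pow, Polynomial.natDegree_mul (pow_ne_zero _ Polynomial.X_ne_zero) hg0,
    Polynomial.natDegree_pow, Polynomial.natDegree_X] at this
  omega

/-- An Artinian ring, formally smooth over a field, is reduced. -/
theorem isReduced_of_artinian_formallySmooth (B T : Type u) [Field B] [CommRing T] [Algebra B T]
    [Algebra.FormallySmooth B T] [IsArtinianRing T] : IsReduced T := by
  obtain ⟨P, _, _, _, hPT⟩ : ∃ (P : Type) (_ : Field P) (_ : PerfectField P) (_ : Algebra P T),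
      Algebra.FormallySmooth P T := by
    obtain _ | ⟨p, hp, hpk⟩ := CharP.exists' B
    · let _ : Algebra ℚ T := ((algebraMap B T).comp (algebraMap ℚ B)).toAlgebra
      have : IsScalarTower ℚ B T := IsScalarTower.of_algebraMap_eq' rfl
      have : Algebra.FormallySmooth ℚ B :=
        Groth.Agent.PerfectFieldLib.formallySmooth_of_perfectField _ _
      exact ⟨ℚ, inferInstance, inferInstance, inferInstance, Algebra.FormallySmooth.comp ℚ B T⟩
    · let _ : Algebra (ZMod p) B := (ZMod.castHom (dvd_refl p) B).toAlgebra
      let _ : Algebra (ZMod p) T := ((algebraMap B T).comp (algebraMap (ZMod p) B)).toAlgebra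
      have : IsScalarTower (ZMod p) B T := IsScalarTower.of_algebraMap_eq' rfl
      have : Algebra.FormallySmooth (ZMod p) B :=
        Groth.Agent.PerfectFieldLib.formallySmooth_of_perfectField _ _
      exact ⟨ZMod p, inferInstance, inferInstance, inferInstance, Algebra.FormallySmooth.comp (ZMod p) B T⟩
  refine isReduced_ofLocalizationMaximal T fun M hM => ?_
  have : Algebra.FormallySmooth T (Localization.AtPrime M) :=
    Algebra.FormallySmooth.of_isLocalization M.primeCompl
  have : Algebra.FormallySmooth P (Localization.AtPrime M) :=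
    Algebra.FormallySmooth.comp P T _
  have hnil : IsNilpotent (maximalIdeal (Localization.AtPrime M)) := by
    have h1 := IsArtinianRing.isNilpotent_jacobson_bot (R := Localization.AtPrime M)
    exact (IsLocalRing.jacobson_eq_maximalIdeal (R := Localization.AtPrime M) ⊥ bot_ne_top) ▸ h1
  exact (IsLocalRing.isField_iff_maximalIdeal_eq (R := Localization.AtPrime M)).1
    (isField_of_formallySmooth (P := P) (B := Localization.AtPrime M) hnil) |> fun h =>
      ⟨fun x hx => by
        have hmem : x ∈ maximalIdeal (Localization.AtPrime M) := fun hu =>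
          not_isUnit_zero (M₀ := Localization.AtPrime M) (by
            obtain ⟨n, hn⟩ := hx
            exact hn ▸ hu.pow n)
        rwa [h, Ideal.mem_bot] at hmem⟩

/-- A formally smooth field extension is geometrically reduced. -/
theorem isGeometricallyReduced_of_formallySmooth {k K : Type u} [Field k] [Field K] [Algebra k K]
    [Algebra.FormallySmooth k K] : Algebra.IsGeometricallyReduced k K := by
  rw [Algebra.isGeometricallyReduced_field_iff]
  suffices IsReduced (K ⊗[k] AlgebraicClosure k) from
    isReduced_of_injective (Algebra.TensorProduct.comm k (AlgebraicClosure k) K).toRingEquiv.toRingHom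
      (Algebra.TensorProduct.comm k (AlgebraicClosure k) K).injective
  refine IsReduced.tensorProduct_of_flat_of_forall_fg fun B hB => ?_
  have : Algebra.IsAlgebraic k B := Algebra.IsAlgebraic.of_injective B.val Subtype.val_injective
  have hBf : IsField B := (Algebra.IsIntegral.isField_iff_isField (R := k) (S := B)
    (algebraMap k B).injective).1 (Field.toIsField k)
  let _ : Field B := hBf.toField
  have : Algebra.FiniteType k B := (Subalgebra.fg_iff_finiteType B).1 hB
  have : Module.Finite k B := Algebra.IsIntegral.finite
  suffices IsReduced (B ⊗[k] K) from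
    isReduced_of_injective (Algebra.TensorProduct.comm k K B).toRingEquiv.toRingHom
      (Algebra.TensorProduct.comm k K B).injective
  let T := B ⊗[k] K
  have : IsArtinianRing (K ⊗[k] B) := isArtinian_of_tower K inferInstance
  have : IsArtinianRing T :=
    (Algebra.TensorProduct.comm k K B).toRingEquiv.isArtinianRing
  exact isReduced_of_artinian_formallySmooth B T

end CohenLib
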