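import Groth.Agent.CompleteLib.Noetherian
import Mathlib.RingTheory.AdicCompletion.AsTensorProduct
import Mathlib.RingTheory.AdicCompletion.Completeness
import Mathlib.RingTheory.AdicCompletion.LocalRing
import Mathlib.RingTheory.Flat.FaithfullyFlat.Algebra
import Mathlib.RingTheory.Ideal.GoingDown
import Mathlib.RingTheory.Ideal.KrullsHeightTheorem
import Mathlib.RingTheory.RegularLocalRing.Defs
import Mathlib.RingTheory.Nakayama

/-! Flat local extensions with trivial closed fibre: dimension and regularity. -/

universe u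

open IsLocalRing

namespace CohenLib

theorem ringKrullDim_eq_of_flat_unramified (A B : Type u) [CommRing A] [IsLocalRing A]
    [IsNoetherianRing A] [CommRing B] [IsLocalRing B] [IsNoetherianRing B] [Algebra A B]
    [Module.Flat A B] (hm : (maximalIdeal A).map (algebraMap A B) = maximalIdeal B) :
    ringKrullDim B = ringKrullDim A := by
  have hP : (maximalIdeal B).LiesOver (maximalIdeal A) := ⟨by
    refine ((maximalIdeal.isMaximal A).eq_of_le ?_ ?_)
    · exact (Ideal.comap_isPrime _ _).ne_top
    · exact Ideal.map_le_iff_le_comap.1 hm.le⟩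
  have : Algebra.HasGoingDown A B := Algebra.HasGoingDown.of_flat
  have h := Ideal.height_eq_height_add_of_liesOver_of_hasGoingDown (maximalIdeal A) (maximalIdeal B)
  have h0 : ((maximalIdeal B).map (Ideal.Quotient.mk ((maximalIdeal A).map (algebraMap A B)))).height = 0 := by
    have hmax : ((maximalIdeal A).map (algebraMap A B)).IsMaximal := hm ▸ maximalIdeal.isMaximal B
    rw [show (maximalIdeal B).map (Ideal.Quotient.mk ((maximalIdeal A).map (algebraMap A B))) = ⊥ by
      rw [← hm, Ideal.map_quotient_self]]
    let _ : Field (B ⧸ (maximalIdeal A).map (algebraMap A B)) := Ideal.Quotient.field _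
    exact Ideal.height_bot
  rw [← maximalIdeal_height_eq_ringKrullDim, ← maximalIdeal_height_eq_ringKrullDim, h, h0, add_zero]

theorem spanFinrank_eq_of_flat_unramified (A B : Type u) [CommRing A] [IsLocalRing A]
    [IsNoetherianRing A] [CommRing B] [IsLocalRing B] [IsNoetherianRing B] [Algebra A B]
    [Module.Flat A B] [IsLocalHom (algebraMap A B)]
    (hm : (maximalIdeal A).map (algebraMap A B) = maximalIdeal B)
    (hres : ∀ b : B, ∃ a : A, b - algebraMap A B a ∈ maximalIdeal B) :
    (maximalIdeal B).spanFinrank = (maximalIdeal A).spanFinrank := by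
  have hfgA : (maximalIdeal A).FG := IsNoetherian.noetherian _
  have hfgB : (maximalIdeal B).FG := IsNoetherian.noetherian _
  refine le_antisymm ?_ ?_
  · have h1 : maximalIdeal B = Ideal.span (algebraMap A B '' (maximalIdeal A).generators) := by
      rw [← Ideal.map_span, show Ideal.span (maximalIdeal A).generators = maximalIdeal A from
        Submodule.span_generators _, hm]
    rw [h1]
    refine (Submodule.spanFinrank_span_le_ncard_of_finite ((Submodule.FG.finite_generators hfgA).image _)).trans ?_
    exact (Set.ncard_image_le (Submodule.FG.finite_generators hfgA)).trans (Submodule.FG.generators_ncard hfgA).le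
  · let G := (maximalIdeal B).generators
    have hG : Ideal.span G = maximalIdeal B := Submodule.span_generators _
    have hmem : ∀ b ∈ maximalIdeal B, ∃ a ∈ maximalIdeal A, b - algebraMap A B a ∈ maximalIdeal B ^ 2 := by
      intro b hb
      rw [← hm] at hb
      refine Submodule.span_induction ?_ ⟨0, zero_mem _, by simp⟩ ?_ ?_ hb
      · rintro _ ⟨a, ha, rfl⟩
        exact ⟨a, ha, by simp⟩
      · rintro y z - - ⟨a, ha, h⟩ ⟨a', ha', h'⟩
        exact ⟨a + a', add_mem ha ha', by rw [map_add, add_sub_add_comm]; exact add_mem h h'⟩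
      · rintro r y - ⟨a, ha, h⟩
        obtain ⟨c, hc⟩ := hres r
        refine ⟨c * a, Ideal.mul_mem_left _ _ ha, ?_⟩
        rw [smul_eq_mul, show r * y - algebraMap A B (c * a) =
          r * (y - algebraMap A B a) + (r - algebraMap A B c) * algebraMap A B a by rw [map_mul]; ring]
        refine add_mem (Ideal.mul_mem_left _ _ h) ?_
        rw [pow_two]
        exact Ideal.mul_mem_mul hc (hm ▸ Ideal.mem_map_of_mem _ ha)
    choose! a ha ha' using hmem
    have hGfin : G.Finite := (Submodule.FG.finite_generators hfgB)
    let I := Ideal.span (a '' G)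
    have hI : I ≤ maximalIdeal A := Ideal.span_le.2 (by
      rintro _ ⟨g, hg, rfl⟩
      exact ha g (hG ▸ Ideal.subset_span hg))
    have h2 : maximalIdeal B ≤ I.map (algebraMap A B) ⊔ maximalIdeal B • maximalIdeal B := by
      conv_lhs => rw [← hG]
      rw [Ideal.span_le]
      intro g hg
      have hg' : g ∈ maximalIdeal B := hG ▸ Ideal.subset_span hg
      rw [SetLike.mem_coe, show g = algebraMap A B (a g) + (g - algebraMap A B (a g)) from
        (add_sub_cancel _ _).symm]
      refine Submodule.add_mem_sup (Ideal.mem_map_of_mem _ (Ideal.subset_span ⟨g, hg, rfl⟩)) ?_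
      rw [smul_eq_mul, ← pow_two]
      exact ha' g hg'
    have h3 : maximalIdeal B ≤ I.map (algebraMap A B) :=
      Submodule.le_of_le_smul_of_le_jacobson_bot hfgB (maximalIdeal_le_jacobson _) h2
    have : Module.FaithfullyFlat A B := Module.FaithfullyFlat.of_flat_of_isLocalHom
    have h4 : maximalIdeal A = I := by
      refine le_antisymm ?_ hI
      rw [← Ideal.comap_map_eq_self_of_faithfullyFlat (B := B) I]
      exact Ideal.map_le_iff_le_comap.1 (hm.le.trans h3)
    rw [h4]
    refine (Submodule.spanFinrank_span_le_ncard_of_finite (hGfin.image _)).trans ?_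
    exact (Set.ncard_image_le hGfin).trans (Submodule.FG.generators_ncard hfgB).le

theorem isRegularLocalRing_iff_of_flat_unramified (A B : Type u) [CommRing A] [IsLocalRing A]
    [IsNoetherianRing A] [CommRing B] [IsLocalRing B] [IsNoetherianRing B] [Algebra A B]
    [Module.Flat A B] [IsLocalHom (algebraMap A B)]
    (hm : (maximalIdeal A).map (algebraMap A B) = maximalIdeal B)
    (hres : ∀ b : B, ∃ a : A, b - algebraMap A B a ∈ maximalIdeal B) :
    IsRegularLocalRing A ↔ IsRegularLocalRing B := by
  rw [isRegularLocalRing_iff, isRegularLocalRing_iff, ringKrullDim_eq_of_flat_unramified A B hm,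
    spanFinrank_eq_of_flat_unramified A B hm hres]

/-- The completion of a Noetherian local ring along a proper ideal. -/
theorem completion_facts (A : Type u) [CommRing A] [IsLocalRing A] [IsNoetherianRing A] (I : Ideal A)
    (hI : I ≠ ⊤) :
    ∃ (_ : IsLocalRing (AdicCompletion I A)) (_ : IsNoetherianRing (AdicCompletion I A))
      (_ : IsLocalHom (algebraMap A (AdicCompletion I A))),
      (maximalIdeal A).map (algebraMap A (AdicCompletion I A)) = maximalIdeal (AdicCompletion I A) ∧
      ∀ b, ∃ a, b - algebraMap A (AdicCompletion I A) a ∈ maximalIdeal (AdicCompletion I A) := by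
  have hfg : I.FG := IsNoetherian.noetherian _
  have hker := AdicCompletion.ker_evalOneₐ_eq_map I hfg
  have hIm : I ≤ maximalIdeal A := le_maximalIdeal hI
  have hc : IsAdicComplete (I.map (algebraMap A (AdicCompletion I A))) (AdicCompletion I A) :=
    (IsAdicComplete.map_algebraMap_iff _ _).2 (AdicCompletion.isAdicComplete (M := A) hfg)
  have hN : IsNoetherianRing (AdicCompletion I A) := by
    have : IsNoetherianRing (AdicCompletion I A ⧸ I.map (algebraMap A (AdicCompletion I A))) :=
      isNoetherianRing_of_ringEquiv (A ⧸ I)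
        ((Ideal.quotEquivOfEq hker.symm).trans
          (RingHom.quotientKerEquivOfSurjective (AdicCompletion.evalOneₐ_surjective I))).symm
    exact CompleteLib.isNoetherianRing_of_isAdicComplete (I.map (algebraMap A (AdicCompletion I A)))
      (Ideal.FG.map hfg _)
  let ψ : AdicCompletion I A →+* ResidueField A :=
    (Ideal.Quotient.factor hIm).comp (AdicCompletion.evalOneₐ I).toRingHom
  have hψs : Function.Surjective ψ :=
    (Ideal.Quotient.factor_surjective hIm).comp (AdicCompletion.evalOneₐ_surjective I)
  have hψu : ∀ b, ψ b ≠ 0 → IsUnit b := by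
    intro b hb
    by_contra hu
    obtain ⟨M, hM, hbM⟩ := exists_max_ideal_of_mem_nonunits hu
    have hIM : I.map (algebraMap A (AdicCompletion I A)) ≤ M :=
      (IsAdicComplete.le_jacobson_bot _).trans (sInf_le ⟨bot_le, hM⟩)
    have hMmax : (M.map (AdicCompletion.evalOneₐ I).toRingHom).IsMaximal :=
      Ideal.IsMaximal.map_of_surjective_of_ker_le (AdicCompletion.evalOneₐ_surjective I)
        (by show RingHom.ker (AdicCompletion.evalOneₐ I).toRingHom ≤ M; rw [hker]; exact hIM)
    have : Nontrivial (A ⧸ I) := Ideal.Quotient.nontrivial_iff.2 hI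
    have hq : IsLocalRing (A ⧸ I) := IsLocalRing.of_surjective' _ Ideal.Quotient.mk_surjective
    have h1 : AdicCompletion.evalOneₐ I b ∈ maximalIdeal (A ⧸ I) := by
      rw [← IsLocalRing.eq_maximalIdeal hMmax]
      exact Ideal.mem_map_of_mem _ hbM
    obtain ⟨a, ha⟩ := Ideal.Quotient.mk_surjective (AdicCompletion.evalOneₐ I b)
    refine hb ?_
    show Ideal.Quotient.factor hIm (AdicCompletion.evalOneₐ I b) = 0
    rw [← ha, Ideal.Quotient.factor_mk]
    refine Ideal.Quotient.eq_zero_iff_mem.2 fun hau => ?_
    rw [← ha] at h1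
    exact h1 (hau.map _)
  have : Nontrivial (AdicCompletion I A) := ψ.domain_nontrivial
  have hloc : IsLocalRing (AdicCompletion I A) := IsLocalRing.of_nonunits_add fun x y hx hy hu => by
    have h1 := (hu.map ψ).ne_zero
    rw [map_add, not_imp_comm.1 (hψu x) hx, not_imp_comm.1 (hψu y) hy, add_zero] at h1
    exact h1 rfl
  have hmax : ∀ b, b ∈ maximalIdeal (AdicCompletion I A) ↔ ψ b = 0 := fun b =>
    ⟨fun hb => not_imp_comm.1 (hψu b) hb, fun h0 hu => (hu.map ψ).ne_zero h0⟩
  have hψa : ∀ a, ψ (algebraMap A _ a) = residue A a := fun a => by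
    show Ideal.Quotient.factor hIm (AdicCompletion.evalOneₐ I (algebraMap A _ a)) = _
    rw [AlgHom.commutes]
    rfl
  refine ⟨hloc, hN, ⟨fun a ha => ?_⟩, le_antisymm ?_ ?_, fun b => ?_⟩
  · by_contra hu
    exact (ha.map ψ).ne_zero (by rw [hψa]; exact (residue_eq_zero_iff a).2 hu)
  · rw [Ideal.map_le_iff_le_comap]
    intro a ha
    rw [Ideal.mem_comap, hmax, hψa]
    exact (residue_eq_zero_iff a).2 ha
  · intro b hb
    obtain ⟨a, ha⟩ := Ideal.Quotient.mk_surjective (AdicCompletion.evalOneₐ I b)
    have ham : a ∈ maximalIdeal A := by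
      have h1 := (hmax b).1 hb
      show a ∈ maximalIdeal A
      rw [← residue_eq_zero_iff, ← h1]
      show residue A a = Ideal.Quotient.factor hIm (AdicCompletion.evalOneₐ I b)
      rw [← ha, Ideal.Quotient.factor_mk]
      rfl
    have h2 : b - algebraMap A _ a ∈ I.map (algebraMap A (AdicCompletion I A)) := by
      rw [← hker, RingHom.mem_ker, map_sub]
      show AdicCompletion.evalOneₐ I b - AdicCompletion.evalOneₐ I (algebraMap A _ a) = 0
      rw [AlgHom.commutes, ← ha]
      exact sub_self _
    rw [show b = (b - algebraMap A _ a) + algebraMap A _ a from (sub_add_cancel _ _).symm]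
    exact add_mem (Ideal.map_mono hIm h2) (Ideal.mem_map_of_mem _ ham)
  · obtain ⟨a, ha⟩ := residue_surjective (ψ b)
    exact ⟨a, by rw [hmax, map_sub, hψa, ha, sub_self]⟩

theorem ringKrullDim_adicCompletion (A : Type u) [CommRing A] [IsLocalRing A] [IsNoetherianRing A]
    (I : Ideal A) (hI : I ≠ ⊤) : ringKrullDim (AdicCompletion I A) = ringKrullDim A := by
  obtain ⟨_, _, _, hm, -⟩ := completion_facts A I hI
  exact ringKrullDim_eq_of_flat_unramified A _ hm

theorem isRegularLocalRing_adicCompletion_iff (A : Type u) [CommRing A] [IsLocalRing A]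
    [IsNoetherianRing A] (I : Ideal A) (hI : I ≠ ⊤) :
    IsRegularLocalRing A ↔ IsRegularLocalRing (AdicCompletion I A) := by
  obtain ⟨_, _, _, hm, hres⟩ := completion_facts A I hI
  exact isRegularLocalRing_iff_of_flat_unramified A _ hm hres

end CohenLib
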