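import Groth.Agent.CohenLib.SmoothLift
import Groth.Agent.PerfectFieldLib.FormallySmooth
import Mathlib.RingTheory.DiscreteValuationRing.Basic
import Mathlib.RingTheory.Flat.TorsionFree
import Mathlib.RingTheory.AdicCompletion.RingHom
import Mathlib.FieldTheory.Perfect
import Mathlib.Algebra.Field.ZMod
import Mathlib.Algebra.Algebra.Rat
import Mathlib.RingTheory.Localization.FractionRing
import Mathlib.RingTheory.Ideal.Quotient.Operations

/-! Lifting homomorphisms out of Cohen rings. -/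

universe u

namespace CohenLib

variable (W : Type u) [CommRing W] (p : ℕ)

/-- `W` lifts across nilpotent extensions of rings in which `p` is nilpotent. -/
def HasPadicLifts : Prop :=
  ∀ (B : Type u) [CommRing B] (K : Ideal B), IsNilpotent K → IsNilpotent (p : B) →
    ∀ u : W →+* B ⧸ K, ∃ v : W →+* B, (Ideal.Quotient.mk K).comp v = u

variable {W p}

theorem flat_int_of_isDomain_charZero [IsDomain W] [CharZero W] : Module.Flat ℤ W := by
  have : Module.IsTorsionFree ℤ W := inferInstance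
  exact inferInstance

/-- Formal smoothness of `W ⧸ p ^ N` over `ZMod (p ^ N)`. -/
theorem formallySmooth_zmod [Fact p.Prime] [IsDomain W] [CharZero W]
    (hW : (Ideal.span {(p : W)}).IsMaximal) (N : ℕ) (hN : 1 ≤ N)
    [Algebra (ZMod (p ^ N)) (W ⧸ Ideal.span {(p : W) ^ N})] :
    Algebra.FormallySmooth (ZMod (p ^ N)) (W ⧸ Ideal.span {(p : W) ^ N}) := by
  let A := W ⧸ Ideal.span {(p : W) ^ N}
  have hflatW : Module.Flat ℤ W := flat_int_of_isDomain_charZero
  have hflat : Module.Flat (ZMod (p ^ N)) A := by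
    refine flat_of_surjective (R := ℤ) (M := W) (Int.castRingHom (ZMod (p ^ N)))
      ZMod.intCast_surjective (Ideal.Quotient.mk (Ideal.span {(p : W) ^ N})).toAddMonoidHom
      Ideal.Quotient.mk_surjective (fun r x => ?_) fun x hx => ?_
    · show Ideal.Quotient.mk _ (r • x) = (Int.castRingHom (ZMod (p ^ N)) r) • Ideal.Quotient.mk _ x
      rw [zsmul_eq_mul, map_mul, Algebra.smul_def, map_intCast, eq_intCast, map_intCast]
    · obtain ⟨w, rfl⟩ := Ideal.mem_span_singleton.1 (Ideal.Quotient.eq_zero_iff_mem.1 hx)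
      have h1 : ((p ^ N : ℕ) : ℤ) ∈ RingHom.ker (Int.castRingHom (ZMod (p ^ N))) := by
        rw [RingHom.mem_ker, map_natCast, ZMod.natCast_self]
      have h2 := Submodule.smul_mem_smul h1 (Submodule.mem_top (x := w))
      rwa [zsmul_eq_mul, Int.cast_natCast, Nat.cast_pow] at h2
  let k := W ⧸ Ideal.span {(p : W)}
  let _ : Field k := Ideal.Quotient.field _
  have : CharP k p := by
    refine (CharP.charP_iff_prime_eq_zero Fact.out).2 ?_
    rw [← map_natCast (Ideal.Quotient.mk (Ideal.span {(p : W)})), Ideal.Quotient.eq_zero_iff_mem]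
    exact Ideal.mem_span_singleton_self _
  let _ : Algebra (ZMod p) k := (ZMod.castHom dvd_rfl k).toAlgebra
  have : Algebra.FormallySmooth (ZMod p) k :=
    Groth.Agent.PerfectFieldLib.formallySmooth_of_perfectField (ZMod p) k
  let q : A →+* k := Ideal.Quotient.factor
    (Ideal.span_singleton_le_span_singleton.2 (dvd_pow_self _ (by omega)))
  have hq : Function.Surjective q := Ideal.Quotient.factor_surjective _
  have hdvd : p ∣ p ^ N := dvd_pow_self p (by omega)
  have hkerρ : RingHom.ker (ZMod.castHom hdvd (ZMod p)) = Ideal.span {(p : ZMod (p ^ N))} := by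
    ext x
    obtain ⟨z, rfl⟩ := ZMod.intCast_surjective x
    rw [RingHom.mem_ker, map_intCast, ZMod.intCast_zmod_eq_zero_iff_dvd, Ideal.mem_span_singleton]
    constructor
    · rintro ⟨c, rfl⟩
      exact ⟨(c : ZMod (p ^ N)), by push_cast; rfl⟩
    · rintro ⟨c, hc⟩
      obtain ⟨c, rfl⟩ := ZMod.intCast_surjective c
      have : ((z - p * c : ℤ) : ZMod (p ^ N)) = 0 := by push_cast; rw [hc]; ring
      rw [ZMod.intCast_zmod_eq_zero_iff_dvd, Nat.cast_pow] at this
      have h2 : (p : ℤ) ∣ z - p * c := (dvd_pow_self _ (by omega)).trans this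
      exact (dvd_sub_left (dvd_mul_right _ _)).1 h2
  refine formallySmooth_of_flat_of_quotient (R' := ZMod p) (A' := k) (ZMod.castHom hdvd (ZMod p))
    (ZMod.castHom_surjective _) q hq (RingHom.ext_zmod _ _) ?_ ?_
  · rw [hkerρ]
    exact ⟨N, by rw [Ideal.span_singleton_pow, ← Nat.cast_pow, ZMod.natCast_self,
      Ideal.span_singleton_eq_bot.2 rfl]; rfl⟩
  · rw [hkerρ, Ideal.map_span, Set.image_singleton, map_natCast]
    show RingHom.ker (Ideal.Quotient.factor _) = _
    rw [Ideal.Quotient.factor_ker, Ideal.map_span, Set.image_singleton, map_natCast]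

/-- Cohen rings lift. -/
theorem hasPadicLifts [Fact p.Prime] [IsDomain W] [CharZero W]
    (hW : (Ideal.span {(p : W)}).IsMaximal) : HasPadicLifts W p := by
  intro B _ K hK hp u
  obtain ⟨M, hM⟩ := hp
  let N := M + 1
  have hB : ((p ^ N : ℕ) : B) = 0 := by rw [Nat.cast_pow, pow_succ, hM, zero_mul]
  let A := W ⧸ Ideal.span {(p : W) ^ N}
  let _ : Algebra (ZMod (p ^ N)) A :=
    (ZMod.castHom (m := ringChar A) (ringChar.dvd (by
      rw [← map_natCast (Ideal.Quotient.mk (Ideal.span {(p : W) ^ N})),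
        Ideal.Quotient.eq_zero_iff_mem, Nat.cast_pow]
      exact Ideal.mem_span_singleton_self _)) A).toAlgebra
  have := formallySmooth_zmod (p := p) hW N (Nat.succ_pos M)
  let _ : Algebra (ZMod (p ^ N)) B :=
    (ZMod.castHom (m := ringChar B) (ringChar.dvd hB) B).toAlgebra
  let u₁ : A →+* B ⧸ K := Ideal.Quotient.lift _ u fun z hz => by
    obtain ⟨w, rfl⟩ := Ideal.mem_span_singleton.1 hz
    rw [map_mul, map_pow, map_natCast, ← map_natCast (Ideal.Quotient.mk K), ← map_pow,
      ← Nat.cast_pow, hB, map_zero, zero_mul]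
  let u₂ : A →ₐ[ZMod (p ^ N)] B ⧸ K :=
    { u₁ with commutes' := fun z => RingHom.congr_fun (RingHom.ext_zmod
        (u₁.comp (algebraMap (ZMod (p ^ N)) A)) (algebraMap (ZMod (p ^ N)) (B ⧸ K))) z }
  obtain ⟨v, hv⟩ := Algebra.FormallySmooth.exists_lift K hK u₂
  exact ⟨v.toRingHom.comp (Ideal.Quotient.mk _), RingHom.ext fun w => AlgHom.congr_fun hv _⟩

/-- Fields of characteristic zero lift across nilpotent extensions. -/
theorem hasPadicLifts_rat (W : Type u) [Field W] [CharZero W] : HasPadicLifts W 0 := by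
  intro B _ K hK _ u
  obtain ⟨N, hN⟩ := hK
  have hu : ∀ z : ℤ, z ≠ 0 → IsUnit (z : B) := fun z hz => by
    have h1 : IsUnit ((z : B ⧸ K)) := by
      rw [← map_intCast u]
      exact (IsUnit.mk0 _ (Int.cast_ne_zero.2 hz)).map u
    obtain ⟨y, hy⟩ := h1.exists_right_inv
    obtain ⟨y, rfl⟩ := Ideal.Quotient.mk_surjective y
    rw [← map_intCast (Ideal.Quotient.mk K), ← map_mul, ← map_one (Ideal.Quotient.mk K),
      Ideal.Quotient.eq] at hy
    have hnil : IsNilpotent ((z : B) * y - 1) :=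
      ⟨N, by simpa [hN] using Ideal.pow_mem_pow hy N⟩
    have h2 := hnil.isUnit_one_add
    rw [add_sub_cancel] at h2
    exact isUnit_of_mul_isUnit_left h2
  let _ : Algebra ℚ B := (IsLocalization.lift (M := nonZeroDivisors ℤ) (g := Int.castRingHom B)
    fun y => hu _ (nonZeroDivisors.coe_ne_zero y)).toAlgebra
  have : Algebra.FormallySmooth ℚ W :=
    Groth.Agent.PerfectFieldLib.formallySmooth_of_perfectField ℚ W
  obtain ⟨v, hv⟩ := Algebra.FormallySmooth.exists_lift K ⟨N, hN⟩
    ({ u with commutes' := fun q => RingHom.congr_fun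
                (RingHom.ext_rat (u.comp (algebraMap ℚ W)) (algebraMap ℚ (B ⧸ K))) q } : W →ₐ[ℚ] B ⧸ K)
  exact ⟨v.toRingHom, RingHom.ext fun w => AlgHom.congr_fun hv w⟩

/-- Two congruences modulo comaximal-free ideals can be glued. -/
theorem exists_glue {C : Type u} [CommRing C] (a b : Ideal C) (f : W →+* C ⧸ a) (g : W →+* C ⧸ b)
    (h : (Ideal.Quotient.factor (le_sup_left (b := b))).comp f =
      (Ideal.Quotient.factor (le_sup_right (a := a))).comp g) :
    ∃ e : W →+* C ⧸ a ⊓ b, (Ideal.Quotient.factor inf_le_left).comp e = f ∧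
      (Ideal.Quotient.factor inf_le_right).comp e = g := by
  have hex : ∀ w, ∃ c : C, Ideal.Quotient.mk a c = f w ∧ Ideal.Quotient.mk b c = g w := fun w => by
    obtain ⟨c₁, hc₁⟩ := Ideal.Quotient.mk_surjective (f w)
    obtain ⟨c₂, hc₂⟩ := Ideal.Quotient.mk_surjective (g w)
    have := RingHom.congr_fun h w
    rw [RingHom.comp_apply, RingHom.comp_apply, ← hc₁, ← hc₂, Ideal.Quotient.factor_mk,
      Ideal.Quotient.factor_mk, Ideal.Quotient.eq, Submodule.mem_sup] at this
    obtain ⟨x, hx, y, hy, hxy⟩ := this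
    refine ⟨c₁ - x, ?_, ?_⟩
    · rw [map_sub, Ideal.Quotient.eq_zero_iff_mem.2 hx, sub_zero, hc₁]
    · rw [← hc₂, Ideal.Quotient.eq, show c₁ - x - c₂ = y by rw [sub_right_comm, ← hxy, add_sub_cancel_left]]
      exact hy
  choose c hca hcb using hex
  have hext : ∀ x y : C, Ideal.Quotient.mk a x = Ideal.Quotient.mk a y →
      Ideal.Quotient.mk b x = Ideal.Quotient.mk b y →
      Ideal.Quotient.mk (a ⊓ b) x = Ideal.Quotient.mk (a ⊓ b) y := fun x y h1 h2 =>
    Ideal.Quotient.eq.2 ⟨Ideal.Quotient.eq.1 h1, Ideal.Quotient.eq.1 h2⟩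
  refine ⟨RingHom.mk' ⟨⟨fun w => Ideal.Quotient.mk (a ⊓ b) (c w), ?_⟩, ?_⟩ ?_, RingHom.ext hca,
    RingHom.ext hcb⟩
  · rw [← map_one (Ideal.Quotient.mk (a ⊓ b))]
    exact hext _ _ (by rw [hca, map_one, map_one]) (by rw [hcb, map_one, map_one])
  · intro x y
    show _ = Ideal.Quotient.mk (a ⊓ b) (c x) * Ideal.Quotient.mk (a ⊓ b) (c y)
    rw [← map_mul]
    exact hext _ _ (by rw [hca, map_mul, map_mul, hca, hca]) (by rw [hcb, map_mul, map_mul, hcb, hcb])
  · intro x y
    show Ideal.Quotient.mk (a ⊓ b) (c (x + y)) = Ideal.Quotient.mk (a ⊓ b) (c x) + Ideal.Quotient.mk (a ⊓ b) (c y)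
    rw [← map_add]
    exact hext _ _ (by rw [hca, map_add, map_add, hca, hca]) (by rw [hcb, map_add, map_add, hcb, hcb])

/-- Lifting to a complete ring from the quotient by a closed ideal. -/
theorem HasPadicLifts.exists_lift_complete (hW : HasPadicLifts W p) {C : Type u} [CommRing C]
    (I : Ideal C) [IsAdicComplete I C] (hp : (p : C) ∈ I) (J : Ideal C) (hIJ : J ≤ I)
    (hclosed : ∀ x, (∀ n, x ∈ J ⊔ I ^ n) → x ∈ J) (u : W →+* C ⧸ J) :
    ∃ v : W →+* C, (Ideal.Quotient.mk J).comp v = u := by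
  let G : ℕ → Type u := fun n => { f : W →+* C ⧸ I ^ (n + 1) //
    (Ideal.Quotient.factor (le_sup_right (a := J))).comp f =
      (Ideal.Quotient.factor (le_sup_left (b := I ^ (n + 1)))).comp u }
  have h0 : Nonempty (G 0) := by
    refine ⟨⟨(Ideal.Quotient.factor (show J ≤ I ^ (0 + 1) by simpa using hIJ)).comp u,
      RingHom.ext fun w => ?_⟩⟩
    obtain ⟨c, hc⟩ := Ideal.Quotient.mk_surjective (u w)
    simp [← hc]
  have hs : ∀ n (x : G n), ∃ y : G (n + 1),
      (Ideal.Quotient.factor (Ideal.pow_le_pow_right (Nat.le_succ (n + 1)))).comp y.1 = x.1 := by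
    intro n x
    let a := I ^ (n + 1)
    let b := J ⊔ I ^ (n + 1 + 1)
    have hab : a ⊔ b = J ⊔ I ^ (n + 1) := by
      show I ^ (n + 1) ⊔ (J ⊔ I ^ (n + 1 + 1)) = _
      rw [sup_left_comm, sup_eq_left.2 (Ideal.pow_le_pow_right (Nat.le_succ (n + 1)) : I ^ (n + 1 + 1) ≤ I ^ (n + 1))]
    obtain ⟨e, he₁, he₂⟩ := exists_glue a b x.1 ((Ideal.Quotient.factor le_sup_left).comp u) (by
      refine RingHom.ext fun w => ?_
      have h := RingHom.congr_fun x.2 w
      obtain ⟨c₁, hc₁⟩ := Ideal.Quotient.mk_surjective (x.1 w)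
      obtain ⟨c₂, hc₂⟩ := Ideal.Quotient.mk_surjective (u w)
      simp only [RingHom.comp_apply, ← hc₁, ← hc₂, Ideal.Quotient.factor_mk, Ideal.Quotient.eq] at h ⊢
      exact Ideal.Quotient.eq.2 (hab.ge h))
    have hle : I ^ (n + 1 + 1) ≤ a ⊓ b := le_inf (Ideal.pow_le_pow_right (Nat.le_succ _)) le_sup_right
    let K : Ideal (C ⧸ I ^ (n + 1 + 1)) := (a ⊓ b).map (Ideal.Quotient.mk _)
    have hK : IsNilpotent K := by
      refine ⟨n + 1 + 1, ?_⟩
      rw [← Ideal.map_pow, Ideal.zero_eq_bot, Ideal.map_eq_bot_iff_le_ker, Ideal.mk_ker]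
      refine (Ideal.pow_right_mono (inf_le_left.trans (Ideal.pow_le_self (Nat.succ_ne_zero n))) _)
    have hp' : IsNilpotent (p : C ⧸ I ^ (n + 1 + 1)) := by
      refine ⟨n + 1 + 1, ?_⟩
      rw [← map_natCast (Ideal.Quotient.mk _), ← map_pow, Ideal.Quotient.eq_zero_iff_mem]
      exact Ideal.pow_mem_pow hp _
    obtain ⟨v, hv⟩ := hW (C ⧸ I ^ (n + 1 + 1)) K hK hp'
      ((DoubleQuot.quotQuotEquivQuotOfLE hle).symm.toRingHom.comp e)
    have hv' : (Ideal.Quotient.factor hle).comp v = e := by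
      refine RingHom.ext fun w => ?_
      have := congrArg (DoubleQuot.quotQuotEquivQuotOfLE hle) (RingHom.congr_fun hv w)
      simp only [RingHom.comp_apply, RingEquiv.toRingHom_eq_coe, RingHom.coe_coe,
        RingEquiv.apply_symm_apply] at this
      rw [← this, RingHom.comp_apply]
      obtain ⟨c, hc⟩ := Ideal.Quotient.mk_surjective (v w)
      rw [← hc]
      rfl
    refine ⟨⟨v, ?_⟩, ?_⟩
    · rw [← he₂, ← hv', ← RingHom.comp_assoc, Ideal.Quotient.factor_comp]
    · show (Ideal.Quotient.factor _).comp v = x.1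
      rw [← he₁, ← hv', ← RingHom.comp_assoc, Ideal.Quotient.factor_comp]
  choose st hst using hs
  let F : ∀ n, G n := fun n => Nat.rec (motive := G) h0.some (fun n x => st n x) n
  let f : ∀ n, W →+* C ⧸ I ^ n := fun n =>
    (Ideal.Quotient.factor (Ideal.pow_le_pow_right (Nat.le_succ n))).comp (F n).1
  have hF : ∀ n, (Ideal.Quotient.factor (Ideal.pow_le_pow_right (Nat.le_succ (n + 1)))).comp
      (F (n + 1)).1 = (F n).1 := fun n => hst n (F n)
  have hF' : ∀ {m n} (hle : m ≤ n), (Ideal.Quotient.factor (Ideal.pow_le_pow_right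
      (Nat.succ_le_succ hle))).comp (F n).1 = (F m).1 := by
    intro m n hle
    induction hle with
    | refl =>
      refine RingHom.ext fun w => ?_
      obtain ⟨c, hc⟩ := Ideal.Quotient.mk_surjective ((F m).1 w)
      simp [← hc]
    | step h ih => rw [← ih, ← hF, ← RingHom.comp_assoc, Ideal.Quotient.factor_comp]
  have hf : ∀ {m n : ℕ} (hle : m ≤ n), (Ideal.Quotient.factorPow I hle).comp (f n) = f m := by
    intro m n hle
    show (Ideal.Quotient.factor _).comp ((Ideal.Quotient.factor _).comp (F n).1) =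
      (Ideal.Quotient.factor _).comp (F m).1
    rw [← hF' hle, ← RingHom.comp_assoc, ← RingHom.comp_assoc, Ideal.Quotient.factor_comp,
      Ideal.Quotient.factor_comp]
  refine ⟨IsAdicComplete.liftRingHom I f hf, RingHom.ext fun w => ?_⟩
  obtain ⟨c, hc⟩ := Ideal.Quotient.mk_surjective (u w)
  rw [RingHom.comp_apply, ← hc, Ideal.Quotient.eq]
  refine hclosed _ fun n => ?_
  have h1 := IsAdicComplete.mk_liftRingHom I f hf n w
  obtain ⟨d, hd⟩ := Ideal.Quotient.mk_surjective ((F n).1 w)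
  have h2 := RingHom.congr_fun (F n).2 w
  simp only [f, RingHom.comp_apply, ← hd, ← hc, Ideal.Quotient.factor_mk, Ideal.Quotient.eq] at h1 h2
  have h3 : d - c ∈ J ⊔ I ^ n := sup_le_sup_left (Ideal.pow_le_pow_right (Nat.le_succ n)) J h2
  have := add_mem (Submodule.mem_sup_right (S := J) h1) h3
  rwa [sub_add_sub_cancel] at this

end CohenLib
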