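import Groth.Agent.CohenLib.FSRegular
import Groth.Agent.CohenLib.Lifts
import Groth.Prelude.Def_EGA41
import Groth.Prelude.Def_CAlgX

/-! General lifting properties of adic formal smoothness. -/

set_option autoImplicit false

universe u

namespace CohenLib

variable {A B : Type u} [CommRing A] [CommRing B] [Algebra A B]

theorem isFormallySmoothAdic_bot_iff (𝔫 : Ideal B) :
    CAlgX.IsAdicFormallySmooth A B 𝔫 ↔ EGA41.IsFormallySmoothAdic A ⊥ B 𝔫 := by
  refine ⟨fun h => ?_, fun h C _ _ J hJ u hu => h C J ⟨2, hJ⟩ ⟨1, by simp⟩ u hu⟩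
  intro C _ _ J hJ _ u hu
  revert u
  obtain ⟨n, hn⟩ := hJ
  induction n using Nat.strong_induction_on generalizing C with
  | _ n ih =>
  intro u hu
  rcases Nat.lt_or_ge n 3 with h3 | h3
  · refine h C J ?_ u hu
    rw [Ideal.zero_eq_bot] at hn
    exact eq_bot_mono (Ideal.pow_le_pow_right (by omega : n ≤ 2)) hn
  · let K := J ^ (n - 1)
    let Cb := C ⧸ K
    let Jb : Ideal Cb := J.map (Ideal.Quotient.mk K)
    have hKJ : K ≤ J := Ideal.pow_le_self (by omega)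
    let e := DoubleQuot.quotQuotEquivQuotOfLEₐ A hKJ
    obtain ⟨k, hk⟩ := hu
    obtain ⟨w, hw⟩ := ih (n - 1) (by omega) Cb Jb ⟨1, by simp⟩
      (by rw [← Ideal.map_pow, Ideal.map_quotient_self]; rfl)
      (e.symm.toAlgHom.comp u) ⟨k, fun x hx => by show e.symm (u x) = 0; rw [hk x hx, map_zero]⟩
    have hw' : ∀ x, Ideal.Quotient.factor hKJ (w x) = u x := fun x => by
      have h1 : e ((Ideal.Quotient.mkₐ A Jb).comp w x) = e ((e.symm.toAlgHom.comp u) x) :=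
        congrArg e (AlgHom.congr_fun hw x)
      rw [show e ((e.symm.toAlgHom.comp u) x) = u x from e.apply_symm_apply _] at h1
      rw [← h1]
      obtain ⟨c, hc⟩ := Ideal.Quotient.mk_surjective (w x)
      rw [AlgHom.comp_apply, ← hc]
      rfl
    have hwk : ∀ x ∈ 𝔫 ^ (k * n), w x = 0 := fun x hx => by
      have h1 : (𝔫 ^ k).map w ≤ Jb := Ideal.map_le_iff_le_comap.2 fun y hy => by
        obtain ⟨c, hc⟩ := Ideal.Quotient.mk_surjective (w y)
        have h2 := hw' y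
        rw [hk y hy, ← hc, Ideal.Quotient.factor_mk, Ideal.Quotient.eq_zero_iff_mem] at h2
        rw [Ideal.mem_comap, ← hc]
        exact Ideal.mem_map_of_mem _ h2
      have h2 := Ideal.pow_right_mono h1 n
      rw [← Ideal.map_pow, ← Ideal.map_pow, ← pow_mul, hn, Ideal.zero_eq_bot, Ideal.map_bot] at h2
      exact h2 (Ideal.mem_map_of_mem w hx)
    have hK2 : K ^ 2 = ⊥ := by
      rw [← pow_mul]
      rw [Ideal.zero_eq_bot] at hn
      exact eq_bot_mono (Ideal.pow_le_pow_right (by omega : n ≤ (n - 1) * 2)) hn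
    obtain ⟨v, hv⟩ := h C K hK2 w ⟨k * n, hwk⟩
    exact ⟨v, AlgHom.ext fun x => by
      rw [← hw' x, ← hv]
      rfl⟩

/-- Gluing algebra maps into a quotient by an intersection. -/
theorem exists_glueₐ {C : Type u} [CommRing C] [Algebra A C] (a b : Ideal C) (f : B →ₐ[A] C ⧸ a)
    (g : B →ₐ[A] C ⧸ b)
    (h : ∀ x, Ideal.Quotient.factor (le_sup_left (b := b)) (f x) =
      Ideal.Quotient.factor (le_sup_right (a := a)) (g x)) :
    ∃ e : B →ₐ[A] C ⧸ a ⊓ b, (∀ x, Ideal.Quotient.factor inf_le_left (e x) = f x) ∧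
      ∀ x, Ideal.Quotient.factor inf_le_right (e x) = g x := by
  obtain ⟨e, he1, he2⟩ := exists_glue (W := B) a b f.toRingHom g.toRingHom (RingHom.ext h)
  have hext : ∀ z w : C ⧸ a ⊓ b, Ideal.Quotient.factor inf_le_left z = Ideal.Quotient.factor (inf_le_left (b := b)) w →
      Ideal.Quotient.factor inf_le_right z = Ideal.Quotient.factor (inf_le_right (a := a)) w → z = w := by
    intro z w
    obtain ⟨z, rfl⟩ := Ideal.Quotient.mk_surjective z
    obtain ⟨w, rfl⟩ := Ideal.Quotient.mk_surjective w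
    simp only [Ideal.Quotient.factor_mk, Ideal.Quotient.eq]
    exact fun h1 h2 => ⟨h1, h2⟩
  refine ⟨{ e with commutes' := fun r => ?_ }, RingHom.congr_fun he1, RingHom.congr_fun he2⟩
  refine hext _ _ ((RingHom.congr_fun he1 _).trans ?_) ((RingHom.congr_fun he2 _).trans ?_)
  · exact (f.commutes r).trans rfl
  · exact (g.commutes r).trans rfl

/-- Lifting to an adically complete algebra along a closed ideal with topologically nilpotent powers. -/
theorem exists_lift_adicComplete {C : Type u} [CommRing C] [Algebra A C] (𝔞 : Ideal A) (𝔟 : Ideal B)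
    (𝔠 : Ideal C) (hB : EGA41.IsFormallySmoothAdic A 𝔞 B 𝔟) [IsAdicComplete 𝔠 C]
    (hAC : ∃ k : ℕ, (𝔞 ^ k).map (algebraMap A C) ≤ 𝔠) (J : Ideal C) (hJ : ∃ t : ℕ, J ^ t ≤ 𝔠)
    [IsHausdorff (𝔠.map (Ideal.Quotient.mk J)) (C ⧸ J)] (u : B →ₐ[A] C ⧸ J)
    (hu : ∃ k : ℕ, (𝔟 ^ k).map u.toRingHom ≤ 𝔠.map (Ideal.Quotient.mk J)) :
    ∃ v : B →ₐ[A] C, (∃ k : ℕ, (𝔟 ^ k).map v.toRingHom ≤ 𝔠) ∧ (Ideal.Quotient.mkₐ A J).comp v = u := by
  obtain ⟨kA, hkA⟩ := hAC
  obtain ⟨t, ht⟩ := hJ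
  obtain ⟨ku, hku⟩ := hu
  have hcont : ∀ n, ∃ k : ℕ, (𝔞 ^ k).map (algebraMap A (C ⧸ 𝔠 ^ n)) = ⊥ := fun n => by
    refine ⟨kA * n, ?_⟩
    rw [IsScalarTower.algebraMap_eq A C (C ⧸ 𝔠 ^ n), ← Ideal.map_map, Ideal.Quotient.algebraMap_eq,
      Ideal.map_eq_bot_iff_le_ker, Ideal.mk_ker, pow_mul, Ideal.map_pow]
    exact Ideal.pow_right_mono hkA n
  -- a lift of a map modulo an ideal with nilpotent image
  have lift : ∀ (n : ℕ) (a : Ideal C) (_ : ∃ N : ℕ, a ^ N ≤ 𝔠 ^ n) (hle : 𝔠 ^ n ≤ a) (f : B →ₐ[A] C ⧸ a),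
      (∃ k, ∀ x ∈ 𝔟 ^ k, f x = 0) → ∃ g : B →ₐ[A] C ⧸ 𝔠 ^ n,
        (∀ x, Ideal.Quotient.factor hle (g x) = f x) ∧ ∃ k, ∀ x ∈ 𝔟 ^ k, g x = 0 := by
    rintro n a ⟨N, hN⟩ hle f ⟨k, hk⟩
    let e := DoubleQuot.quotQuotEquivQuotOfLEₐ A hle
    have hnil : (a.map (Ideal.Quotient.mk (𝔠 ^ n))) ^ N = ⊥ := by
      rw [← Ideal.map_pow, Ideal.map_eq_bot_iff_le_ker, Ideal.mk_ker]
      exact hN
    obtain ⟨g, hg⟩ := hB (C ⧸ 𝔠 ^ n) (a.map (Ideal.Quotient.mk (𝔠 ^ n))) ⟨N, hnil⟩ (hcont n)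
      (e.symm.toAlgHom.comp f) ⟨k, fun x hx => by show e.symm (f x) = 0; rw [hk x hx, map_zero]⟩
    have hg' : ∀ x, Ideal.Quotient.factor hle (g x) = f x := fun x => by
      have h1 : e ((Ideal.Quotient.mkₐ A _).comp g x) = e ((e.symm.toAlgHom.comp f) x) :=
        congrArg e (AlgHom.congr_fun hg x)
      rw [show e ((e.symm.toAlgHom.comp f) x) = f x from e.apply_symm_apply _] at h1
      rw [← h1]
      obtain ⟨c, hc⟩ := Ideal.Quotient.mk_surjective (g x)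
      rw [AlgHom.comp_apply, ← hc]
      rfl
    refine ⟨g, hg', k * N, fun x hx => ?_⟩
    have h1 : (𝔟 ^ k).map g ≤ a.map (Ideal.Quotient.mk (𝔠 ^ n)) := Ideal.map_le_iff_le_comap.2 fun y hy => by
      obtain ⟨c, hc⟩ := Ideal.Quotient.mk_surjective (g y)
      have h2 := hg' y
      rw [hk y hy, ← hc, Ideal.Quotient.factor_mk, Ideal.Quotient.eq_zero_iff_mem] at h2
      rw [Ideal.mem_comap, ← hc]
      exact Ideal.mem_map_of_mem _ h2
    have h2 := Ideal.pow_right_mono h1 N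
    rw [← Ideal.map_pow, ← pow_mul, hnil] at h2
    exact h2 (Ideal.mem_map_of_mem g hx)
  let ub : ∀ n, B →ₐ[A] C ⧸ J ⊔ 𝔠 ^ n := fun n => (Ideal.Quotient.factorₐ A le_sup_left).comp u
  have hub : ∀ n, ∀ x ∈ 𝔟 ^ (ku * n), ub n x = 0 := by
    intro n x hx
    obtain ⟨c, hc⟩ := Ideal.Quotient.mk_surjective (u x)
    have h1 := Ideal.pow_right_mono hku n
    rw [← Ideal.map_pow, ← Ideal.map_pow, ← pow_mul] at h1
    have h2 : u x ∈ (𝔠 ^ n).map (Ideal.Quotient.mk J) := h1 (Ideal.mem_map_of_mem u.toRingHom hx)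
    rw [← hc, Ideal.mem_quotient_iff_mem_sup, sup_comm] at h2
    show Ideal.Quotient.factor le_sup_left (u x) = 0
    rw [← hc, Ideal.Quotient.factor_mk, Ideal.Quotient.eq_zero_iff_mem]
    exact h2
  let G : ℕ → Type u := fun n => { f : B →ₐ[A] C ⧸ 𝔠 ^ (n + 1) //
    (∀ x, Ideal.Quotient.factor (le_sup_right (a := J)) (f x) = ub (n + 1) x) ∧
      ∃ k, ∀ x ∈ 𝔟 ^ k, f x = 0 }
  have h0 : Nonempty (G 0) := by
    obtain ⟨g, hg, hk⟩ := lift 1 (J ⊔ 𝔠 ^ 1)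
      ⟨t, by
        rw [pow_one]
        suffices ((J ⊔ 𝔠) ^ t).map (Ideal.Quotient.mk 𝔠) = ⊥ by
          rwa [Ideal.map_eq_bot_iff_le_ker, Ideal.mk_ker] at this
        rw [Ideal.map_pow, Ideal.map_sup, Ideal.map_quotient_self, sup_bot_eq, ← Ideal.map_pow,
          Ideal.map_eq_bot_iff_le_ker, Ideal.mk_ker]
        exact ht⟩ le_sup_right (ub 1) ⟨_, hub 1⟩
    exact ⟨⟨g, hg, hk⟩⟩
  have hs : ∀ n (f : G n), ∃ g : G (n + 1), ∀ x,
      Ideal.Quotient.factor (Ideal.pow_le_pow_right (Nat.le_succ (n + 1))) (g.1 x) = f.1 x := by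
    rintro n ⟨f, hf, kf, hkf⟩
    obtain ⟨e, he1, he2⟩ := exists_glueₐ (𝔠 ^ (n + 1)) (J ⊔ 𝔠 ^ (n + 1 + 1)) f (ub (n + 1 + 1)) fun x => by
      obtain ⟨c, hc⟩ := Ideal.Quotient.mk_surjective (f x)
      obtain ⟨d, hd⟩ := Ideal.Quotient.mk_surjective (u x)
      have h1 := hf x
      change Ideal.Quotient.factor _ (f x) = Ideal.Quotient.factor le_sup_left (u x) at h1
      show _ = Ideal.Quotient.factor _ (Ideal.Quotient.factor le_sup_left (u x))
      rw [← hc, ← hd, Ideal.Quotient.factor_mk, Ideal.Quotient.factor_mk, Ideal.Quotient.eq] at h1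
      rw [← hc, ← hd, Ideal.Quotient.factor_mk, Ideal.Quotient.factor_mk, Ideal.Quotient.factor_mk,
        Ideal.Quotient.eq]
      refine (sup_le ?_ le_sup_left : J ⊔ 𝔠 ^ (n + 1) ≤ _) h1
      exact le_sup_left.trans le_sup_right
    have hle : 𝔠 ^ (n + 1 + 1) ≤ 𝔠 ^ (n + 1) ⊓ (J ⊔ 𝔠 ^ (n + 1 + 1)) :=
      le_inf (Ideal.pow_le_pow_right (Nat.le_succ _)) le_sup_right
    obtain ⟨g, hg, hk⟩ := lift (n + 1 + 1) _ ⟨2, (Ideal.pow_right_mono inf_le_left 2).trans (by rw [← pow_mul]; exact Ideal.pow_le_pow_right (by omega))⟩ hle e ⟨max kf (ku * (n + 1 + 1)), fun x hx => by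
      obtain ⟨c, hc⟩ := Ideal.Quotient.mk_surjective (e x)
      have h1 := he1 x
      have h2 := he2 x
      rw [hkf x (Ideal.pow_le_pow_right (le_max_left _ _) hx), ← hc, Ideal.Quotient.factor_mk,
        Ideal.Quotient.eq_zero_iff_mem] at h1
      rw [hub _ x (Ideal.pow_le_pow_right (le_max_right _ _) hx), ← hc, Ideal.Quotient.factor_mk,
        Ideal.Quotient.eq_zero_iff_mem] at h2
      rw [← hc, Ideal.Quotient.eq_zero_iff_mem]
      exact ⟨h1, h2⟩⟩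
    refine ⟨⟨g, fun x => ?_, hk⟩, fun x => ?_⟩
    · rw [← he2 x, ← hg x, Ideal.Quotient.factor_comp_apply]
    · rw [← he1 x, ← hg x, Ideal.Quotient.factor_comp_apply]
  choose st hst using hs
  let F : ∀ n, G n := fun n => Nat.rec (motive := G) h0.some (fun n f => st n f) n
  have ha : StrictMono (fun n => n + 1) := fun _ _ h => Nat.add_lt_add_right h 1
  have hF : ∀ {m : ℕ}, (Ideal.Quotient.factorPow 𝔠 (ha.monotone m.le_succ)).comp (F (m + 1)).1.toRingHom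
      = (F m).1.toRingHom := RingHom.ext fun x => hst _ (F _) x
  let g := IsAdicComplete.StrictMono.liftRingHom 𝔠 ha (fun n => (F n).1.toRingHom) hF
  have hg : ∀ n x, Ideal.Quotient.mk (𝔠 ^ (n + 1)) (g x) = (F n).1 x := fun n x =>
    IsAdicComplete.StrictMono.mk_liftRingHom 𝔠 ha (fun n => (F n).1.toRingHom) hF x
  refine ⟨{ g with commutes' := fun c => ?_ }, ?_, AlgHom.ext fun x => ?_⟩
  · refine sub_eq_zero.1 (IsHausdorff.haus (I := 𝔠) inferInstance _ fun n => ?_)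
    rw [SModEq.zero, smul_eq_mul, Ideal.mul_top]
    refine Ideal.pow_le_pow_right (Nat.le_add_right n 1) ?_
    rw [← Ideal.Quotient.eq_zero_iff_mem, map_sub, sub_eq_zero]
    refine (hg n _).trans ?_
    rw [AlgHom.commutes]
    rfl
  · obtain ⟨k, hk⟩ := (F 0).2.2
    refine ⟨k, Ideal.map_le_iff_le_comap.2 fun x hx => ?_⟩
    have h1 := hg 0 x
    rw [hk x hx, Ideal.Quotient.eq_zero_iff_mem] at h1
    show g x ∈ 𝔠
    exact Ideal.pow_le_self (Nat.succ_ne_zero 0) h1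
  · show Ideal.Quotient.mk J (g x) = u x
    refine sub_eq_zero.1 (IsHausdorff.haus (I := 𝔠.map (Ideal.Quotient.mk J)) inferInstance _ fun n => ?_)
    rw [SModEq.zero, smul_eq_mul, Ideal.mul_top, ← Ideal.map_pow]
    obtain ⟨d, hd⟩ := Ideal.Quotient.mk_surjective (u x)
    rw [← hd, ← map_sub, Ideal.mem_quotient_iff_mem_sup]
    have h1 := (F n).2.1 x
    rw [← hg n x, Ideal.Quotient.factor_mk] at h1
    change Ideal.Quotient.mk _ (g x) = Ideal.Quotient.factor le_sup_left (u x) at h1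
    rw [← hd, Ideal.Quotient.factor_mk, Ideal.Quotient.eq] at h1
    exact (sup_le le_sup_right ((Ideal.pow_le_pow_right (Nat.le_succ n)).trans le_sup_left) :
      J ⊔ 𝔠 ^ (n + 1) ≤ _) h1

end CohenLib
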