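import Groth.Agent.CohenLib.PRadical
import Groth.Agent.CohenLib.RegularField
import Groth.Agent.CohenLib.FSAdic
import Mathlib.RingTheory.Adjoin.Field
import Mathlib.RingTheory.TensorProduct.Finite
import Mathlib.RingTheory.Flat.Basic
import Mathlib.RingTheory.Ideal.Quotient.Nilpotent

/-! Adic formal smoothness over a field, geometric regularity, and radicial base changes. -/

set_option autoImplicit false

universe u

open IsLocalRing Polynomial TensorProduct

namespace CohenLib

variable {k A : Type u} [Field k] [CommRing A] [IsLocalRing A] [Algebra k A]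

theorem isNoetherianRing_baseChange [IsNoetherianRing A] (k' : Type u) [Field k'] [Algebra k k']
    [Module.Finite k k'] : IsNoetherianRing (A ⊗[k] k') :=
  IsNoetherianRing.of_finite A (A ⊗[k] k')

/-- A radicial base change of a local ring is local. -/
theorem isLocalRing_baseChange (p : ℕ) [Fact p.Prime] [CharP k p] (k' : Type u) [Field k'] [Algebra k k']
    [Module.Finite k k'] (hk' : ∀ x : k', x ^ p ∈ (algebraMap k k').range) :
    IsLocalRing (A ⊗[k] k') ∧ IsLocalHom (algebraMap A (A ⊗[k] k')) := by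
  let R := A ⊗[k] k'
  have : Algebra.IsIntegral A R := Algebra.IsIntegral.of_finite A R
  have hinj : Function.Injective (algebraMap A R) :=
    Algebra.TensorProduct.includeLeft_injective (S := A) (algebraMap k k').injective
  have : Nontrivial R := hinj.nontrivial
  have : CharP R p := charP_of_injective_algebraMap (algebraMap k R).injective p
  have hpow : ∀ x : R, ∃ a : A, x ^ p = algebraMap A R a := by
    intro x
    induction x using TensorProduct.induction_on with
    | zero => exact ⟨0, by rw [zero_pow (Fact.out : p.Prime).ne_zero, map_zero]⟩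
    | add x y hx hy =>
      obtain ⟨a, ha⟩ := hx
      obtain ⟨b, hb⟩ := hy
      exact ⟨a + b, by rw [add_pow_char, ha, hb, map_add]⟩
    | tmul a y =>
      obtain ⟨c, hc⟩ := hk' y
      refine ⟨c • a ^ p, ?_⟩
      rw [Algebra.TensorProduct.tmul_pow, ← hc, Algebra.algebraMap_eq_smul_one, ← TensorProduct.smul_tmul]
      rfl
  have hnu : ∀ a : A, ¬ IsUnit a → ¬ IsUnit (algebraMap A R a) := by
    intro a ha hu
    obtain ⟨M, hM⟩ := Ideal.exists_maximal R
    have hMm : M.comap (algebraMap A R) = maximalIdeal A :=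
      IsLocalRing.eq_maximalIdeal (Ideal.isMaximal_comap_of_isIntegral_of_isMaximal M)
    have h1 : algebraMap A R a ∈ M := by
      rw [← Ideal.mem_comap, hMm]
      exact ha
    exact hM.ne_top (Ideal.eq_top_of_isUnit_mem _ h1 hu)
  have hiff : ∀ (x : R) (a : A), x ^ p = algebraMap A R a → (IsUnit x ↔ IsUnit a) := fun x a h =>
    ⟨fun hx => by_contra fun ha => hnu a ha (h ▸ hx.pow p),
      fun ha => (isUnit_pow_iff (Fact.out : p.Prime).ne_zero).1 (h ▸ ha.map _)⟩
  refine ⟨IsLocalRing.of_nonunits_add fun x y hx hy => ?_, ⟨fun a ha => ?_⟩⟩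
  · obtain ⟨a, ha⟩ := hpow x
    obtain ⟨b, hb⟩ := hpow y
    intro hu
    have h1 := (hiff (x + y) (a + b) (by rw [add_pow_char, ha, hb, map_add])).1 hu
    have ha' : a ∈ maximalIdeal A := fun h => hx ((hiff x a ha).2 h)
    have hb' : b ∈ maximalIdeal A := fun h => hy ((hiff y b hb).2 h)
    exact (add_mem ha' hb' : a + b ∈ maximalIdeal A) h1
  · by_contra h
    exact hnu a h ha

theorem isRegularLocalRing_baseChange [IsNoetherianRing A] (p : ℕ) [Fact p.Prime] [CharP k p] (k' : Type u)
    [Field k'] [Algebra k k'] [Module.Finite k k'] (hk' : ∀ x : k', x ^ p ∈ (algebraMap k k').range)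
    (h : IsRegularRing (k' ⊗[k] A)) : IsRegularLocalRing (A ⊗[k] k') := by
  have := isNoetherianRing_baseChange (k := k) (A := A) k'
  have := (isLocalRing_baseChange (A := A) p k' hk').1
  have : IsRegularRing (A ⊗[k] k') :=
    IsRegularRing.of_ringEquiv (Algebra.TensorProduct.comm k k' A).toRingEquiv
  exact IsRegularLocalRing.of_isRegularRing_of_isLocalRing _

theorem pow_mem_range_adjoinRoot (p : ℕ) [Fact p.Prime] [CharP k p] (k₁ : Type u) [Field k₁] [Algebra k k₁]
    (hpk₁ : ∀ x : k₁, x ^ p ∈ (algebraMap k k₁).range) (c : k)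
    [Fact (Irreducible (X ^ p - Polynomial.C (algebraMap k k₁ c)))]
    (y : AdjoinRoot (X ^ p - Polynomial.C (algebraMap k k₁ c))) :
    y ^ p ∈ (algebraMap k (AdjoinRoot (X ^ p - Polynomial.C (algebraMap k k₁ c)))).range := by
  have : CharP (AdjoinRoot (X ^ p - Polynomial.C (algebraMap k k₁ c))) p :=
    charP_of_injective_algebraMap (algebraMap k _).injective p
  have h0 := AdjoinRoot.eval₂_root (X ^ p - Polynomial.C (algebraMap k k₁ c))
  rw [Polynomial.eval₂_sub, Polynomial.eval₂_pow, Polynomial.eval₂_X, Polynomial.eval₂_C, sub_eq_zero] at h0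
  obtain ⟨g, rfl⟩ := AdjoinRoot.mk_surjective y
  induction g using Polynomial.induction_on' with
  | add f g hf hg => rw [map_add, add_pow_char]; exact add_mem hf hg
  | monomial i a =>
    obtain ⟨w, hw⟩ := hpk₁ a
    refine ⟨w * c ^ i, ?_⟩
    rw [← Polynomial.C_mul_X_pow_eq_monomial, map_mul (AdjoinRoot.mk _), map_pow (AdjoinRoot.mk _),
      AdjoinRoot.mk_C, AdjoinRoot.mk_X, mul_pow, ← map_pow, ← hw, ← pow_mul, mul_comm i p, pow_mul, h0,
      map_mul, map_pow,
      IsScalarTower.algebraMap_apply k k₁ (AdjoinRoot (X ^ p - Polynomial.C (algebraMap k k₁ c))) w,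
      IsScalarTower.algebraMap_apply k k₁ (AdjoinRoot (X ^ p - Polynomial.C (algebraMap k k₁ c))) c]
    rfl

theorem map_X_pow_sub_C_includeRight (p : ℕ) (k₁ : Type u) [Field k₁] [Algebra k k₁] (c₁ : k₁) :
    (X ^ p - Polynomial.C c₁).map (Algebra.TensorProduct.includeRight : k₁ →ₐ[k] A ⊗[k] k₁).toRingHom =
      X ^ p - Polynomial.C ((1 : A) ⊗ₜ[k] c₁) := by
  simp

theorem exists_derivation_ne_zero [IsNoetherianRing A] (p : ℕ) [Fact p.Prime] [CharP k p]
    (h : ∀ (k' : Type u) [Field k'] [Algebra k k'], Module.Finite k k' →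
      (∀ x : k', x ^ p ∈ (algebraMap k k').range) → IsRegularRing (k' ⊗[k] A))
    (k₁ : Type u) [Field k₁] [Algebra k k₁] [Module.Finite k k₁]
    (hpk₁ : ∀ x : k₁, x ^ p ∈ (algebraMap k k₁).range) (c : k)
    (hirr : Irreducible (X ^ p - Polynomial.C (algebraMap k k₁ c))) [IsLocalRing (A ⊗[k] k₁)] :
    ∃ D : Derivation ℤ (A ⊗[k] k₁) (ResidueField (A ⊗[k] k₁)), D ((1 : A) ⊗ₜ[k] algebraMap k k₁ c) ≠ 0 := by
  classical
  by_contra hD
  push Not at hD
  have hp : p.Prime := Fact.out
  have : Fact (Irreducible (X ^ p - Polynomial.C (algebraMap k k₁ c))) := ⟨hirr⟩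
  have : Module.Finite k₁ (AdjoinRoot (X ^ p - Polynomial.C (algebraMap k k₁ c))) :=
    (monic_X_pow_sub_C _ hp.ne_zero).finite_adjoinRoot
  have : Module.Finite k (AdjoinRoot (X ^ p - Polynomial.C (algebraMap k k₁ c))) := Module.Finite.trans k₁ _
  have hpk₂ := pow_mem_range_adjoinRoot p k₁ hpk₁ c
  have : IsRegularLocalRing (A ⊗[k] k₁) := isRegularLocalRing_baseChange p k₁ hpk₁ (h k₁ inferInstance hpk₁)
  have hR₂ := isRegularLocalRing_baseChange p _ hpk₂
    (h (AdjoinRoot (X ^ p - Polynomial.C (algebraMap k k₁ c))) inferInstance hpk₂)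
  have hR' := IsRegularLocalRing.of_ringEquiv
    (AdjoinRoot.tensorAlgEquiv (R := k) (T := A) (X ^ p - Polynomial.C (algebraMap k k₁ c))
      (X ^ p - Polynomial.C ((1 : A) ⊗ₜ[k] algebraMap k k₁ c))
      (map_X_pow_sub_C_includeRight p k₁ _)).toRingEquiv
  have : IsNoetherianRing (A ⊗[k] k₁) := isNoetherianRing_baseChange k₁
  have hpR : (p : A ⊗[k] k₁) = 0 := by
    rw [← map_natCast (algebraMap k (A ⊗[k] k₁)), CharP.cast_eq_zero, map_zero]
  obtain ⟨b, hb⟩ := exists_sub_pow_mem_sq p (k := k) ((1 : A) ⊗ₜ[k] algebraMap k k₁ c) hD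
  exact not_isRegularLocalRing_adjoinRoot p hp hpR _ b hb hR'

theorem derivation_eq_zero_of_roots (p : ℕ) [CharP k p] (k₁ : Type u) [Field k₁] [Algebra k k₁]
    [IsLocalRing (A ⊗[k] k₁)] [IsLocalHom (algebraMap A (A ⊗[k] k₁))] (s : Finset k)
    (lam : k → ResidueField A) (c : k) (hcs : c ∈ s) (hlc : lam c ≠ 0)
    (hker : ∀ D : Derivation ℤ A (ResidueField A), ∑ x ∈ s, lam x * D (algebraMap k A x) = 0)
    (hroot : ∀ x ∈ s, x ≠ c → ∃ y : k₁, y ^ p = algebraMap k k₁ x)
    (D : Derivation ℤ (A ⊗[k] k₁) (ResidueField (A ⊗[k] k₁))) :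
    D ((1 : A) ⊗ₜ[k] algebraMap k k₁ c) = 0 := by
  classical
  let _ : Algebra (ResidueField A) (ResidueField (A ⊗[k] k₁)) :=
    (ResidueField.map (algebraMap A (A ⊗[k] k₁))).toAlgebra
  have : IsScalarTower A (ResidueField A) (ResidueField (A ⊗[k] k₁)) :=
    IsScalarTower.of_algebraMap_eq fun a => rfl
  let D' : Derivation ℤ A (ResidueField (A ⊗[k] k₁)) := D.compAlgebraMap A
  have hcR : ∀ x : k, algebraMap A (A ⊗[k] k₁) (algebraMap k A x) = (1 : A) ⊗ₜ[k] algebraMap k k₁ x := fun x =>
    Algebra.TensorProduct.tmul_one_eq_one_tmul x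
  have ht0 : ∀ x ∈ s, x ≠ c → D' (algebraMap k A x) = 0 := fun x hx hxc => by
    show D (algebraMap A (A ⊗[k] k₁) (algebraMap k A x)) = 0
    obtain ⟨y, hy⟩ := hroot x hx hxc
    rw [hcR, ← hy, show (1 : A) ⊗ₜ[k] (y ^ p) = ((1 : A) ⊗ₜ[k] y : A ⊗[k] k₁) ^ p by
        rw [Algebra.TensorProduct.tmul_pow, one_pow],
      Derivation.leibniz_pow, ← Nat.cast_smul_eq_nsmul (A ⊗[k] k₁) p,
      show (p : A ⊗[k] k₁) = 0 by
        rw [← map_natCast (algebraMap k (A ⊗[k] k₁)), CharP.cast_eq_zero, map_zero],
      zero_smul]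
  refine (Module.forall_dual_apply_eq_zero_iff (ResidueField A) _).1 fun f => ?_
  have h1 := hker ((f.restrictScalars A).compDer D')
  rw [Finset.sum_eq_single c] at h1
  · rw [← hcR]
    exact (mul_eq_zero.1 h1).resolve_left hlc
  · intro x hx hxc
    show lam x * f (D' (algebraMap k A x)) = 0
    rw [ht0 x hx hxc, map_zero, mul_zero]
  · exact fun hn => absurd hcs hn

/-- Regularity after radicial base changes lets derivations extend. -/
theorem injective_of_pRadical_regular [IsNoetherianRing A] (p : ℕ) [Fact p.Prime] [CharP k p]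
    (h : ∀ (k' : Type u) [Field k'] [Algebra k k'], Module.Finite k k' →
      (∀ x : k', x ^ p ∈ (algebraMap k k').range) → IsRegularRing (k' ⊗[k] A)) :
    Function.Injective ((KaehlerDifferential.mapBaseChange ℤ k A).lTensor (ResidueField A)) := by
  classical
  let L := ResidueField A
  have hp : p.Prime := Fact.out
  have key : ∀ (n : ℕ) (s : Finset k) (lam : k → L), s.card = n →
      (∀ D : Derivation ℤ A L, ∑ c ∈ s, lam c * D (algebraMap k A c) = 0) →
      ∀ D : Derivation ℤ k L, ∑ c ∈ s, lam c * D c = 0 := by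
    intro n
    induction n using Nat.strong_induction_on with
    | _ n ih =>
    intro s lam hs hker D₀
    by_cases hall : ∀ c ∈ s, lam c = 0
    · exact Finset.sum_eq_zero fun c hc => by rw [hall c hc, zero_mul]
    push Not at hall
    obtain ⟨c, hcs, hlc⟩ := hall
    let t := s.erase c
    have hsum : ∀ F : k → L, ∑ x ∈ s, lam x * F x = lam c * F c + ∑ x ∈ t, lam x * F x := fun F =>
      (Finset.add_sum_erase s (fun x => lam x * F x) hcs).symm
    let dk : k → Ω[k⁄ℤ] := fun x => KaehlerDifferential.D ℤ k x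
    let S : Submodule k Ω[k⁄ℤ] := Submodule.span k (dk '' t)
    by_cases hcW : dk c ∈ S
    · obtain ⟨μ, hμt, hμ⟩ := (Finsupp.mem_span_image_iff_linearCombination k).1 hcW
      have hexp : ∀ D : Derivation ℤ k L, D c = ∑ x ∈ t, algebraMap k L (μ x) * D x := fun D => by
        have h1 := congrArg D.liftKaehlerDifferential hμ
        rw [Finsupp.linearCombination_apply, Finsupp.sum_of_support_subset μ hμt _ (fun _ _ => by simp),
          map_sum, Derivation.liftKaehlerDifferential_comp_D] at h1
        rw [← h1]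
        refine Finset.sum_congr rfl fun x _ => ?_
        rw [map_smul, Derivation.liftKaehlerDifferential_comp_D, Algebra.smul_def]
      have hnew : ∀ D : Derivation ℤ k L,
          ∑ x ∈ s, lam x * D x = ∑ x ∈ t, (lam x + lam c * algebraMap k L (μ x)) * D x := fun D => by
        rw [hsum, hexp, Finset.mul_sum, ← Finset.sum_add_distrib]
        exact Finset.sum_congr rfl fun x _ => by ring
      rw [hnew]
      refine ih t.card (hs ▸ Finset.card_erase_lt_of_mem hcs) t _ rfl (fun D => ?_) D₀
      exact (hnew (D.compAlgebraMap k)).symm.trans (hker D)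
    · exfalso
      let kb := AlgebraicClosure k
      have : CharP kb p := charP_of_injective_algebraMap (algebraMap k kb).injective p
      have hroot : ∀ x : k, ∃ y : kb, y ^ p = algebraMap k kb x := fun x =>
        IsAlgClosed.exists_pow_nat_eq _ hp.pos
      choose rt hrt using hroot
      let k₁ := IntermediateField.adjoin k (rt '' t)
      have hk₁ : ∀ y : kb, y ∈ k₁ → ∃ w : k, dk w ∈ S ∧ algebraMap k kb w = y ^ p := by
        intro y hy
        refine IntermediateField.adjoin_induction k (p := fun y _ => ∃ w : k, dk w ∈ S ∧ algebraMap k kb w = y ^ p)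
          ?_ ?_ ?_ ?_ ?_ hy
        · rintro _ ⟨x, hx, rfl⟩
          exact ⟨x, Submodule.subset_span ⟨x, hx, rfl⟩, (hrt x).symm⟩
        · intro x
          refine ⟨x ^ p, ?_, map_pow _ _ _⟩
          show KaehlerDifferential.D ℤ k (x ^ p) ∈ S
          rw [Derivation.leibniz_pow, ← Nat.cast_smul_eq_nsmul k p, CharP.cast_eq_zero k p, zero_smul]
          exact zero_mem _
        · rintro x y - - ⟨v, hv, hv'⟩ ⟨w, hw, hw'⟩
          refine ⟨v + w, ?_, by rw [map_add, hv', hw', add_pow_char]⟩
          show KaehlerDifferential.D ℤ k (v + w) ∈ S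
          rw [map_add]
          exact add_mem hv hw
        · rintro x - ⟨v, hv, hv'⟩
          refine ⟨v⁻¹, ?_, by rw [map_inv₀, hv', inv_pow]⟩
          show KaehlerDifferential.D ℤ k v⁻¹ ∈ S
          rw [Derivation.leibniz_inv]
          exact Submodule.smul_mem _ _ hv
        · rintro x y - - ⟨v, hv, hv'⟩ ⟨w, hw, hw'⟩
          refine ⟨v * w, ?_, by rw [map_mul, hv', hw', mul_pow]⟩
          show KaehlerDifferential.D ℤ k (v * w) ∈ S
          rw [Derivation.leibniz]
          exact add_mem (Submodule.smul_mem _ _ hw) (Submodule.smul_mem _ _ hv)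
      have hpk₁ : ∀ y : k₁, y ^ p ∈ (algebraMap k k₁).range := fun y => by
        obtain ⟨w, -, hw⟩ := hk₁ y.1 y.2
        exact ⟨w, Subtype.ext hw⟩
      have : Finite (rt '' (t : Set k)) := (t.finite_toSet.image rt).to_subtype
      have : Module.Finite k k₁ := IntermediateField.finiteDimensional_adjoin fun x _ => by
        exact Algebra.IsIntegral.isIntegral x
      let c₁ : k₁ := algebraMap k k₁ c
      have hirr : Irreducible (X ^ p - Polynomial.C c₁) := X_pow_sub_C_irreducible_of_prime hp fun b hb => hcW (by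
        obtain ⟨w, hw, hwb⟩ := hk₁ b.1 b.2
        have h1 : algebraMap k kb w = algebraMap k kb c := by
          rw [hwb]
          exact congrArg Subtype.val hb
        rwa [(algebraMap k kb).injective h1] at hw)
      have := (isLocalRing_baseChange (A := A) p k₁ hpk₁).1
      have := (isLocalRing_baseChange (A := A) p k₁ hpk₁).2
      obtain ⟨D, hD⟩ := exists_derivation_ne_zero p h k₁ hpk₁ c hirr
      exact hD (derivation_eq_zero_of_roots p k₁ s lam c hcs hlc hker (fun x hx hxc =>
        ⟨⟨rt x, IntermediateField.subset_adjoin k _ ⟨x, Finset.mem_erase.2 ⟨hxc, hx⟩, rfl⟩⟩,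
          Subtype.ext (hrt x)⟩) D)
  rw [injective_iff_map_eq_zero]
  intro z hz
  refine (Module.forall_dual_apply_eq_zero_iff L z).1 fun φ => ?_
  obtain ⟨s, lam, hrep⟩ : ∃ (s : Finset k) (lam : k → L),
      z = ∑ c ∈ s, lam c ⊗ₜ[A] ((1 : A) ⊗ₜ[k] KaehlerDifferential.D ℤ k c) := by
    let T := L ⊗[A] (A ⊗[k] Ω[k⁄ℤ])
    let v : k → T := fun c => (1 : L) ⊗ₜ[A] ((1 : A) ⊗ₜ[k] KaehlerDifferential.D ℤ k c)
    have hv : z ∈ Submodule.span L (Set.range v) := by
      clear hz
      induction z using TensorProduct.induction_on with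
      | zero => exact zero_mem _
      | add x y hx hy => exact add_mem hx hy
      | tmul l x =>
        induction x using TensorProduct.induction_on with
        | zero => rw [TensorProduct.tmul_zero]; exact zero_mem _
        | add x y hx hy => rw [TensorProduct.tmul_add]; exact add_mem hx hy
        | tmul a w =>
          have hw : w ∈ Submodule.span k (Set.range (KaehlerDifferential.D ℤ k)) := by
            rw [KaehlerDifferential.span_range_derivation]; trivial
          induction hw using Submodule.span_induction generalizing a with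
          | mem y hy =>
            obtain ⟨c, rfl⟩ := hy
            rw [show l ⊗ₜ[A] (a ⊗ₜ[k] KaehlerDifferential.D ℤ k c) = (a • l) • v c by
              rw [show (a • l) • v c = (a • l) ⊗ₜ[A] ((1 : A) ⊗ₜ[k] KaehlerDifferential.D ℤ k c) by
                  rw [TensorProduct.smul_tmul', smul_eq_mul, mul_one],
                TensorProduct.smul_tmul, TensorProduct.smul_tmul', smul_eq_mul, mul_one]]
            exact Submodule.smul_mem _ _ (Submodule.subset_span ⟨c, rfl⟩)
          | zero => rw [TensorProduct.tmul_zero, TensorProduct.tmul_zero]; exact zero_mem _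
          | add x y _ _ hx hy => rw [TensorProduct.tmul_add, TensorProduct.tmul_add]; exact add_mem (hx a) (hy a)
          | smul e y _ hy =>
            rw [TensorProduct.tmul_smul, TensorProduct.smul_tmul']
            exact hy (e • a)
    obtain ⟨co, hco⟩ := (Finsupp.mem_span_range_iff_exists_finsupp).1 hv
    refine ⟨co.support, fun c => co c, ?_⟩
    rw [← hco, Finsupp.sum]
    refine Finset.sum_congr rfl fun c _ => ?_
    rw [TensorProduct.smul_tmul', smul_eq_mul, mul_one]
  let D₀ : Derivation ℤ k L :=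
    (((φ.restrictScalars A).comp (TensorProduct.mk A L (A ⊗[k] Ω[k⁄ℤ]) 1)).restrictScalars k).comp
      (TensorProduct.mk k A Ω[k⁄ℤ] 1) |>.compDer (KaehlerDifferential.D ℤ k)
  have hval : φ z = ∑ c ∈ s, lam c * D₀ c := by
    rw [hrep, map_sum]
    refine Finset.sum_congr rfl fun c _ => ?_
    show φ (lam c ⊗ₜ[A] _) = lam c * φ ((1 : L) ⊗ₜ[A] ((1 : A) ⊗ₜ[k] KaehlerDifferential.D ℤ k c))
    rw [← smul_eq_mul, ← map_smul, TensorProduct.smul_tmul', smul_eq_mul, mul_one]
  rw [hval]
  refine key _ s lam rfl (fun D => ?_) D₀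
  have h1 := congrArg (D.liftKaehlerDifferential.liftBaseChange L) hz
  rw [map_zero, hrep, map_sum, map_sum] at h1
  rw [← h1]
  refine Finset.sum_congr rfl fun c _ => ?_
  rw [LinearMap.lTensor_tmul, KaehlerDifferential.mapBaseChange_tmul, one_smul, KaehlerDifferential.map_D,
    LinearMap.liftBaseChange_tmul, Derivation.liftKaehlerDifferential_comp_D, smul_eq_mul]

/-- Formal smoothness passes to localisations of finite field base changes. -/
theorem LiftsAdic.localization_baseChange [IsNoetherianRing A] (h : LiftsAdic k A) (k' : Type u) [Field k']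
    [Algebra k k'] [Module.Finite k k'] (M : Ideal (k' ⊗[k] A)) [M.IsMaximal] :
    LiftsAdic k' (Localization.AtPrime M) := by
  let ι : A →+* k' ⊗[k] A := (Algebra.TensorProduct.includeRight : A →ₐ[k] k' ⊗[k] A).toRingHom
  have hfin : ι.IsIntegral := by
    intro x
    obtain ⟨y, rfl⟩ := (Algebra.TensorProduct.comm k A k').surjective x
    obtain ⟨g, hg, hg'⟩ := (Algebra.IsIntegral.of_finite A (A ⊗[k] k')).isIntegral y
    refine ⟨g, hg, ?_⟩
    have h1 := congrArg (Algebra.TensorProduct.comm k A k').toRingEquiv.toRingHom hg'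
    rw [map_zero, Polynomial.hom_eval₂] at h1
    rw [show ι = (Algebra.TensorProduct.comm k A k').toRingEquiv.toRingHom.comp (algebraMap A (A ⊗[k] k')) from
      RingHom.ext fun a => by simp [ι]]
    exact h1
  have hMm : M.comap ι = maximalIdeal A :=
    IsLocalRing.eq_maximalIdeal (Ideal.isMaximal_comap_of_isIntegral_of_isMaximal' ι hfin M)
  intro C _ _ J hJ ψ hψ
  obtain ⟨l, hl⟩ := hψ
  let _ : Algebra k C := ((algebraMap k' C).comp (algebraMap k k')).toAlgebra
  have : IsScalarTower k k' C := IsScalarTower.of_algebraMap_eq fun _ => rfl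
  let ψB : (k' ⊗[k] A) →ₐ[k'] C ⧸ J := ψ.comp (IsScalarTower.toAlgHom k' _ (Localization.AtPrime M))
  let ψA : A →ₐ[k] C ⧸ J := (ψB.restrictScalars k).comp Algebra.TensorProduct.includeRight
  obtain ⟨v, hv⟩ := h C J hJ ψA ⟨l, fun x hx => hl _ (by
    have h1 : (maximalIdeal A).map ((algebraMap (k' ⊗[k] A) (Localization.AtPrime M)).comp ι) ≤
        maximalIdeal (Localization.AtPrime M) := by
      rw [← hMm, ← Ideal.map_map]
      refine (Ideal.map_mono Ideal.map_comap_le).trans (le_of_eq ?_)
      exact Localization.AtPrime.map_eq_maximalIdeal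
    have h2 := Ideal.pow_right_mono h1 l
    rw [← Ideal.map_pow] at h2
    exact h2 (Ideal.mem_map_of_mem _ hx))⟩
  let vB : (k' ⊗[k] A) →ₐ[k'] C := Algebra.TensorProduct.lift (Algebra.ofId k' C) v (fun _ _ => Commute.all _ _)
  have hvB : ∀ x, Ideal.Quotient.mk J (vB x) = ψB x := by
    intro x
    induction x using TensorProduct.induction_on with
    | zero => rw [map_zero, map_zero, map_zero]
    | add x y hx hy => rw [map_add, map_add, map_add, hx, hy]
    | tmul a b =>
      have h1 := AlgHom.congr_fun hv b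
      rw [Algebra.TensorProduct.lift_tmul, map_mul, show Ideal.Quotient.mk J (v b) = ψB ((1 : k') ⊗ₜ[k] b) from h1,
        show ψB (a ⊗ₜ[k] b) = ψB (a • ((1 : k') ⊗ₜ[k] b)) by rw [TensorProduct.smul_tmul', smul_eq_mul, mul_one],
        map_smul, Algebra.smul_def]
      rfl
  have hunit : ∀ s : M.primeCompl, IsUnit (vB s) := fun s => by
    have h1 : IsUnit (Ideal.Quotient.mk J (vB s)) := by
      rw [hvB]
      exact (IsLocalization.map_units (Localization.AtPrime M) s).map ψ
    exact (IsNilpotent.isUnit_quotient_mk_iff ⟨2, hJ⟩).1 h1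
  refine ⟨IsLocalization.liftAlgHom (M := M.primeCompl) (f := vB) hunit, ?_⟩
  refine IsLocalization.algHom_ext M.primeCompl (AlgHom.ext fun x => ?_)
  show Ideal.Quotient.mk J (IsLocalization.lift hunit (algebraMap _ (Localization.AtPrime M) x)) = _
  rw [IsLocalization.lift_eq]
  exact hvB x

/-- Formal smoothness implies geometric regularity. -/
theorem LiftsAdic.isRegularRing_baseChange [IsNoetherianRing A] (h : LiftsAdic k A) (k' : Type u) [Field k']
    [Algebra k k'] [Module.Finite k k'] : IsRegularRing (k' ⊗[k] A) := by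
  have := isNoetherianRing_baseChange (k := k) (A := A) k'
  have : IsNoetherianRing (k' ⊗[k] A) :=
    isNoetherianRing_of_ringEquiv _ (Algebra.TensorProduct.comm k A k').toRingEquiv
  refine CommAlgDim.isRegularRing_of_isMaximal fun M hM => ?_
  have : IsNoetherianRing (Localization.AtPrime M) :=
    IsLocalization.isNoetherianRing M.primeCompl _ inferInstance
  exact isRegularLocalRing_of_liftsAdic' (h.localization_baseChange k' M)

theorem liftsAdic_iff_pRadical [IsNoetherianRing A] (p : ℕ) [ExpChar k p] :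
    LiftsAdic k A ↔ ∀ (k' : Type u) [Field k'] [Algebra k k'], Module.Finite k k' →
      (∀ x : k', x ^ p ∈ (algebraMap k k').range) → IsRegularRing (k' ⊗[k] A) := by
  refine ⟨fun h k' _ _ _ _ => h.isRegularRing_baseChange k', fun h => ?_⟩
  have hreg : IsRegularLocalRing A := by
    have := h k inferInstance fun x => ⟨x ^ p, rfl⟩
    have : IsRegularRing A := IsRegularRing.of_ringEquiv (Algebra.TensorProduct.lid k A).toRingEquiv
    exact IsRegularLocalRing.of_isRegularRing_of_isLocalRing _
  rcases ‹ExpChar k p› with _ | ⟨hp⟩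
  · have : Algebra.FormallySmooth k (ResidueField A) :=
      Groth.Agent.PerfectFieldLib.formallySmooth_of_perfectField k (ResidueField A)
    exact liftsAdic_of_regular k A
  · have : Fact p.Prime := ⟨hp⟩
    exact liftsAdic_of_injective (injective_of_pRadical_regular p h)

end CohenLib
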