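import Mathlib.RingTheory.Smooth.Basic
import Mathlib.RingTheory.Flat.EquationalCriterion
import Mathlib.RingTheory.Polynomial.Basic
import Mathlib.RingTheory.Ideal.Quotient.Operations

/-! Formal smoothness: elementary criterion, and lifting along nilpotent ideals for flat algebras. -/

universe u v

open MvPolynomial

namespace CohenLib

section criterion
variable {R A P : Type*} [CommRing R] [CommRing A] [Algebra R A] [CommRing P] [Algebra R P]
  [Algebra.FormallySmooth R P] (π : P →ₐ[R] A)

/-- `A` is formally smooth as soon as an endomorphism of a formally smooth cover over `A` maps the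
kernel into its square. -/
theorem formallySmooth_of_endo (hπ : Function.Surjective π) (σ : P →ₐ[R] P) (hσ : π.comp σ = π)
    (hker : ∀ j ∈ RingHom.ker π, σ j ∈ RingHom.ker π.toRingHom ^ 2) :
    Algebra.FormallySmooth R A := by
  let f : P →ₐ[R] P ⧸ RingHom.ker π.toRingHom ^ 2 := (Ideal.Quotient.mkₐ R _).comp σ
  let g : A →ₐ[R] P ⧸ RingHom.ker π.toRingHom ^ 2 :=
    (Ideal.Quotient.liftₐ (RingHom.ker π) f fun j hj => by
      show Ideal.Quotient.mk _ (σ j) = 0
      exact Ideal.Quotient.eq_zero_iff_mem.2 (hker j hj)).comp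
      (Ideal.quotientKerAlgEquivOfSurjective hπ).symm.toAlgHom
  refine Algebra.FormallySmooth.of_split π g (AlgHom.ext fun a => ?_)
  obtain ⟨p, rfl⟩ := hπ a
  have h1 : (Ideal.quotientKerAlgEquivOfSurjective hπ).symm (π p) = Ideal.Quotient.mk _ p := by
    rw [AlgEquiv.symm_apply_eq]
    rfl
  simp only [g, AlgHom.comp_apply, AlgEquiv.toAlgHom_eq_coe, AlgHom.coe_coe, AlgHom.id_apply]
  erw [h1]
  show π (σ p) = π p
  rw [← AlgHom.comp_apply, hσ]

/-- Conversely, for a polynomial cover. -/
theorem exists_endo_of_formallySmooth {ι : Type*} (π : MvPolynomial ι R →ₐ[R] A)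
    (hπ : Function.Surjective π) [Algebra.FormallySmooth R A] :
    ∃ σ : MvPolynomial ι R →ₐ[R] MvPolynomial ι R, π.comp σ = π ∧
      ∀ j ∈ RingHom.ker π, σ j ∈ RingHom.ker π.toRingHom ^ 2 := by
  obtain ⟨g, hg⟩ := (Algebra.FormallySmooth.iff_split_surjection π hπ).1 inferInstance
  choose y hy using fun i => Ideal.Quotient.mk_surjective (g (π (X i)))
  have h1 : (Ideal.Quotient.mkₐ R (RingHom.ker π.toRingHom ^ 2)).comp (MvPolynomial.aeval y) =
      g.comp π := MvPolynomial.algHom_ext fun i => by
      rw [AlgHom.comp_apply, AlgHom.comp_apply, aeval_X]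
      exact hy i
  refine ⟨MvPolynomial.aeval y, MvPolynomial.algHom_ext fun i => ?_, fun j hj => ?_⟩
  · have := AlgHom.congr_fun hg (π (X i))
    rw [AlgHom.comp_apply, ← hy] at this
    rw [AlgHom.comp_apply, aeval_X]
    exact this
  · have := AlgHom.congr_fun h1 j
    rw [AlgHom.comp_apply, AlgHom.comp_apply, show π j = 0 from hj, map_zero] at this
    exact Ideal.Quotient.eq_zero_iff_mem.1 this

end criterion

/-- For a flat algebra, `IP ∩ J = IJ` where `J` is the kernel of a surjection onto the algebra. -/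
theorem mem_map_mul_of_flat {R A P : Type*} [CommRing R] [CommRing A] [Algebra R A] [CommRing P]
    [Algebra R P] [Module.Flat R A] (π : P →ₐ[R] A) (hπ : Function.Surjective π) (I : Ideal R)
    {x : P} (hI : x ∈ I.map (algebraMap R P)) (hx : π x = 0) :
    x ∈ I.map (algebraMap R P) * RingHom.ker π := by
  obtain ⟨l, c, f, hc, rfl⟩ : ∃ (l : ℕ) (c : Fin l → R) (f : Fin l → P),
      (∀ i, c i ∈ I) ∧ x = ∑ i, c i • f i := by
    have h2 : x ∈ I • (⊤ : Submodule R P) := by rwa [Ideal.smul_top_eq_map]
    refine Submodule.smul_induction_on h2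
      (fun a ha w _ => ⟨1, fun _ => a, fun _ => w, fun _ => ha, by simp⟩) ?_
    rintro _ _ ⟨l, c, f, hc, rfl⟩ ⟨l', c', f', hc', rfl⟩
    refine ⟨l + l', Fin.append c c', Fin.append f f', fun i => ?_, by
      rw [Fin.sum_univ_add]; simp⟩
    induction i using Fin.addCases with
    | left j => simpa using hc j
    | right j => simpa using hc' j
  obtain ⟨k, a, z, hz, ha⟩ := Module.Flat.isTrivialRelation_of_sum_smul_eq_zero
    (show ∑ i, c i • π (f i) = 0 by rw [← hx, map_sum]; simp)
  choose w hw using fun j => hπ (z j)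
  have hd : ∀ i, f i - ∑ j, a i j • w j ∈ RingHom.ker π := fun i => by
    rw [RingHom.mem_ker, map_sub, map_sum, show π (f i) = _ from hz i]
    simp [hw]
  have hsplit : ∑ i, c i • f i = ∑ i, c i • (f i - ∑ j, a i j • w j) := by
    have h0 : ∑ i, ∑ j, (c i * a i j) • w j = 0 := by
      rw [Finset.sum_comm]
      exact Finset.sum_eq_zero fun j _ => by rw [← Finset.sum_smul, ha, zero_smul]
    simp only [smul_sub, Finset.smul_sum, smul_smul, Finset.sum_sub_distrib, h0, sub_zero]
  rw [hsplit]
  refine Ideal.sum_mem _ fun i _ => ?_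
  rw [Algebra.smul_def]
  exact Ideal.mul_mem_mul (Ideal.mem_map_of_mem _ (hc i)) (hd i)

/-- An algebra, flat over a ring with a nilpotent ideal, is formally smooth if it is so modulo
that ideal. -/
theorem formallySmooth_of_flat_of_quotient {R A R' A' : Type*} [CommRing R] [CommRing A]
    [CommRing R'] [CommRing A'] [Algebra R A] [Algebra R' A'] [Module.Flat R A] (ρ : R →+* R')
    (hρ : Function.Surjective ρ) (q : A →+* A') (hq : Function.Surjective q)
    (hcomm : q.comp (algebraMap R A) = (algebraMap R' A').comp ρ)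
    (hnil : IsNilpotent (RingHom.ker ρ))
    (hker : RingHom.ker q = (RingHom.ker ρ).map (algebraMap R A))
    [Algebra.FormallySmooth R' A'] : Algebra.FormallySmooth R A := by
  classical
  let π : MvPolynomial A R →ₐ[R] A := MvPolynomial.aeval id
  have hπ : Function.Surjective π := fun a => ⟨X a, aeval_X _ _⟩
  let π' : MvPolynomial A R' →ₐ[R'] A' := MvPolynomial.aeval q
  have hπ' : Function.Surjective π' := fun a => by
    obtain ⟨b, rfl⟩ := hq a
    exact ⟨X b, aeval_X _ _⟩
  obtain ⟨σ', hσ', hσ'J⟩ := exists_endo_of_formallySmooth π' hπ'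
  let m : MvPolynomial A R →+* MvPolynomial A R' := MvPolynomial.map ρ
  have hm : Function.Surjective m := MvPolynomial.map_surjective ρ hρ
  have hππ : π'.toRingHom.comp m = q.comp π.toRingHom := MvPolynomial.ringHom_ext
    (fun r => by
      show π' (MvPolynomial.map ρ (C r)) = q (π (C r))
      rw [MvPolynomial.map_C, aeval_C, aeval_C]
      exact (RingHom.congr_fun hcomm r).symm)
    (fun i => by
      show π' (MvPolynomial.map ρ (X i)) = q (π (X i))
      rw [MvPolynomial.map_X, aeval_X, aeval_X]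
      rfl)
  let IP : Ideal (MvPolynomial A R) := (RingHom.ker ρ).map (algebraMap R (MvPolynomial A R))
  have hkm : RingHom.ker m = IP := MvPolynomial.ker_map ρ
  -- lifts of the images of the variables, exact over `A`
  have hlift : ∀ i, ∃ y, π y = i ∧ m y - σ' (X i) = 0 := fun i => by
    obtain ⟨y₀, hy₀⟩ := hm (σ' (X i))
    have h1 : π y₀ - i ∈ RingHom.ker q := by
      rw [RingHom.mem_ker, map_sub, show q (π y₀) = π' (m y₀) from
        (RingHom.congr_fun hππ y₀).symm, hy₀, ← AlgHom.comp_apply, hσ', aeval_X, sub_self]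
    rw [hker, ← π.comp_algebraMap, ← Ideal.map_map] at h1
    obtain ⟨d, hd, hd'⟩ := (Ideal.mem_map_iff_of_surjective _ hπ).1 h1
    refine ⟨y₀ - d, by rw [map_sub, show π d = π y₀ - i from hd', sub_sub_cancel], ?_⟩
    rw [map_sub, show m d = 0 from (hkm ▸ hd : d ∈ RingHom.ker m), sub_zero, hy₀, sub_self]
  choose y hy hy' using hlift
  let σ : MvPolynomial A R →ₐ[R] MvPolynomial A R := MvPolynomial.aeval y
  have hσ : π.comp σ = π := MvPolynomial.algHom_ext fun i => by simp [σ, π, hy]
  have hmσ : m.comp σ.toRingHom = σ'.toRingHom.comp m := MvPolynomial.ringHom_ext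
    (fun r => by
      show MvPolynomial.map ρ (σ (C r)) = σ' (MvPolynomial.map ρ (C r))
      rw [MvPolynomial.map_C, aeval_C, MvPolynomial.algebraMap_eq, MvPolynomial.map_C,
        ← MvPolynomial.algebraMap_eq, AlgHom.commutes])
    (fun i => by
      show MvPolynomial.map ρ (σ (X i)) = σ' (MvPolynomial.map ρ (X i))
      rw [MvPolynomial.map_X, aeval_X]
      exact sub_eq_zero.1 (hy' i))
  let J : Ideal (MvPolynomial A R) := RingHom.ker π
  have hmJ : RingHom.ker π'.toRingHom = J.map m := by
    refine le_antisymm (fun z hz => ?_) ?_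
    · obtain ⟨z, rfl⟩ := hm z
      have h1 : π z ∈ RingHom.ker q := (RingHom.congr_fun hππ z).symm.trans hz
      rw [hker, ← π.comp_algebraMap, ← Ideal.map_map] at h1
      obtain ⟨d, hd, hd'⟩ := (Ideal.mem_map_iff_of_surjective _ hπ).1 h1
      rw [show m z = m (z - d) from by
        rw [map_sub, show m d = 0 from (hkm ▸ hd : d ∈ RingHom.ker m), sub_zero]]
      refine Ideal.mem_map_of_mem _ ?_
      rw [RingHom.mem_ker, map_sub, show π d = π z from hd', sub_self]
    · rw [Ideal.map_le_iff_le_comap]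
      intro z hz
      show π' (m z) = 0
      rw [show π' (m z) = q (π z) from RingHom.congr_fun hππ z, show π z = 0 from hz, map_zero]
  have hπσ : ∀ z, π (σ z) = π z := fun z => AlgHom.congr_fun hσ z
  -- first step
  have step1 : J.map σ.toRingHom ≤ J ^ 2 ⊔ IP * J := by
    rw [Ideal.map_le_iff_le_comap]
    intro j hj
    have hmj : m (σ j) ∈ (J ^ 2).map m := by
      rw [Ideal.map_pow, ← hmJ, show m (σ j) = σ' (m j) from RingHom.congr_fun hmσ j]
      refine hσ'J _ ?_
      have : m j ∈ J.map m := Ideal.mem_map_of_mem _ hj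
      rwa [← hmJ] at this
    obtain ⟨e, he, he'⟩ := (Ideal.mem_map_iff_of_surjective _ hm).1 hmj
    rw [Ideal.mem_comap, show σ.toRingHom j = e + (σ j - e) from (add_sub_cancel _ _).symm]
    refine Submodule.add_mem_sup he (mem_map_mul_of_flat π hπ (RingHom.ker ρ) ?_ ?_)
    · show σ j - e ∈ IP
      rw [← hkm, RingHom.mem_ker, map_sub, he', sub_self]
    · rw [map_sub, hπσ, show π j = 0 from hj,
        show π e = 0 from Ideal.pow_le_self two_ne_zero he, sub_zero]
  have hJσ : J.map σ.toRingHom ≤ J := by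
    rw [Ideal.map_le_iff_le_comap]
    intro j hj
    show π (σ j) = 0
    rw [hπσ]
    exact hj
  have hIσ : IP.map σ.toRingHom = IP := by
    show Ideal.map _ (Ideal.map _ _) = _
    rw [Ideal.map_map, show σ.toRingHom.comp (algebraMap R (MvPolynomial A R)) = algebraMap R _ from
      RingHom.ext σ.commutes]
  -- iterate
  obtain ⟨n, hn⟩ := hnil
  have iter : ∀ k, ∃ τ : MvPolynomial A R →ₐ[R] MvPolynomial A R, π.comp τ = π ∧
      J.map τ.toRingHom ≤ J ^ 2 ⊔ IP ^ k * J := by
    intro k
    induction k with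
    | zero =>
      refine ⟨AlgHom.id R _, AlgHom.comp_id π, ?_⟩
      rw [pow_zero, Ideal.one_eq_top, Ideal.top_mul]
      exact (le_of_eq (Ideal.map_id J)).trans le_sup_right
    | succ k ih =>
      obtain ⟨τ, hτ, hτJ⟩ := ih
      refine ⟨σ.comp τ, by rw [← AlgHom.comp_assoc, hσ, hτ], ?_⟩
      rw [show (σ.comp τ).toRingHom = σ.toRingHom.comp τ.toRingHom from rfl, ← Ideal.map_map]
      refine (Ideal.map_mono hτJ).trans ?_
      rw [Ideal.map_sup, Ideal.map_pow, Ideal.map_mul, Ideal.map_pow, hIσ]
      refine sup_le ((Ideal.pow_right_mono hJσ 2).trans le_sup_left) ?_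
      refine (Ideal.mul_mono_right step1).trans ?_
      rw [Ideal.mul_sup, ← mul_assoc, ← pow_succ]
      exact sup_le_sup_right Ideal.mul_le_right _
  obtain ⟨τ, hτ, hτJ⟩ := iter n
  refine formallySmooth_of_endo π hπ τ hτ fun j hj => ?_
  have h0 : IP ^ n = ⊥ := by
    show (Ideal.map _ _) ^ n = _
    rw [← Ideal.map_pow, hn, Ideal.zero_eq_bot, Ideal.map_bot]
  have := hτJ (Ideal.mem_map_of_mem τ.toRingHom hj)
  rw [h0, Ideal.bot_mul, sup_bot_eq] at this
  exact this

/-- Flatness descends to quotients. -/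
theorem flat_of_surjective {R R' M M' : Type*} [CommRing R] [CommRing R'] [AddCommGroup M]
    [Module R M] [AddCommGroup M'] [Module R' M'] [Module.Flat R M] (ρ : R →+* R')
    (hρ : Function.Surjective ρ) (f : M →+ M') (hf : Function.Surjective f)
    (hsmul : ∀ (r : R) (x : M), f (r • x) = ρ r • f x)
    (hker : ∀ x, f x = 0 → x ∈ (RingHom.ker ρ • ⊤ : Submodule R M)) : Module.Flat R' M' := by
  classical
  rw [Module.Flat.iff_forall_isTrivialRelation]
  intro l a' x' hax
  choose a ha using fun i => hρ (a' i)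
  choose x hx using fun i => hf (x' i)
  obtain ⟨l', c, n, hc, hcn⟩ : ∃ (l' : ℕ) (c : Fin l' → R) (n : Fin l' → M),
      (∀ i, c i ∈ RingHom.ker ρ) ∧ ∑ i, a i • x i = ∑ i, c i • n i := by
    refine Submodule.smul_induction_on (hker (∑ i, a i • x i) (by
      simp only [map_sum, hsmul, ha, hx, hax]))
      (fun r hr w _ => ⟨1, fun _ => r, fun _ => w, fun _ => hr, by simp⟩) ?_
    rintro _ _ ⟨l, c, f, hc, rfl⟩ ⟨l', c', f', hc', rfl⟩
    refine ⟨l + l', Fin.append c c', Fin.append f f', fun i => ?_, by
      rw [Fin.sum_univ_add]; simp⟩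
    induction i using Fin.addCases with
    | left j => simpa using hc j
    | right j => simpa using hc' j
  obtain ⟨k, b, y, hy, hb⟩ := Module.Flat.isTrivialRelation_of_sum_smul_eq_zero
    (f := Fin.append a fun i => - c i) (x := Fin.append x n)
    (by rw [Fin.sum_univ_add]; simp [hcn])
  refine ⟨k, fun i j => ρ (b (Fin.castAdd l' i) j), fun j => f (y j), fun i => ?_, fun j => ?_⟩
  · have := hy (Fin.castAdd l' i)
    rw [Fin.append_left] at this
    rw [← hx i, this, map_sum]
    simp only [hsmul]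
  · have := congrArg ρ (hb j)
    rw [Fin.sum_univ_add, map_add, map_sum, map_sum, map_zero] at this
    simp only [Fin.append_left, Fin.append_right, map_mul, map_neg, ha,
      show ∀ i, ρ (c i) = 0 from hc, neg_zero, zero_mul, Finset.sum_const_zero, add_zero] at this
    exact this

end CohenLib
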