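import Groth.Agent.CohenLib.FSAdic
import Mathlib.Algebra.TrivSqZeroExt.Ideal
import Mathlib.RingTheory.Kaehler.Basic
import Mathlib.RingTheory.LocalRing.Module
import Mathlib.LinearAlgebra.TensorProduct.Tower
import Mathlib.Algebra.Module.Projective

/-! Differentials of formally smooth adic algebras modulo open ideals. -/

set_option autoImplicit false

universe u

open TensorProduct

namespace CohenLib

theorem projective_kaehler_mod_open {A B : Type u} [CommRing A] [CommRing B] [Algebra A B]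
    (𝔞 : Ideal A) (𝔟 : Ideal B) (hAB : ∃ k : ℕ, (𝔞 ^ k).map (algebraMap A B) ≤ 𝔟)
    (h : EGA41.IsFormallySmoothAdic A 𝔞 B 𝔟) (𝔄 : Ideal B) (h𝔄 : ∃ n : ℕ, 𝔟 ^ n ≤ 𝔄) :
    Module.Projective (B ⧸ 𝔄) ((B ⧸ 𝔄) ⊗[B] Ω[B⁄A]) := by
  obtain ⟨ka, hka⟩ := hAB
  obtain ⟨n, hn⟩ := h𝔄
  refine Module.Projective.of_lifting_property fun {M N} _ _ _ _ f g hf => ?_
  let _ : Module B M := Module.compHom M (Ideal.Quotient.mk 𝔄)
  let _ : Module B N := Module.compHom N (Ideal.Quotient.mk 𝔄)
  have hBM : IsScalarTower B (B ⧸ 𝔄) M := ⟨fun b q m => by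
    obtain ⟨q, rfl⟩ := Ideal.Quotient.mk_surjective q
    show Ideal.Quotient.mk 𝔄 (b * q) • m = Ideal.Quotient.mk 𝔄 b • Ideal.Quotient.mk 𝔄 q • m
    rw [map_mul, mul_smul]⟩
  have hBN : IsScalarTower B (B ⧸ 𝔄) N := ⟨fun b q m => by
    obtain ⟨q, rfl⟩ := Ideal.Quotient.mk_surjective q
    show Ideal.Quotient.mk 𝔄 (b * q) • m = Ideal.Quotient.mk 𝔄 b • Ideal.Quotient.mk 𝔄 q • m
    rw [map_mul, mul_smul]⟩
  let _ : Module A M := Module.compHom M (algebraMap A B)
  let _ : Module A N := Module.compHom N (algebraMap A B)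
  have : IsScalarTower A B M := ⟨fun a b m => by
    show (a • b) • m = algebraMap A B a • b • m
    rw [Algebra.smul_def, mul_smul]⟩
  have : IsScalarTower A B N := ⟨fun a b m => by
    show (a • b) • m = algebraMap A B a • b • m
    rw [Algebra.smul_def, mul_smul]⟩
  let _ : Module (B ⧸ 𝔄)ᵐᵒᵖ M := Module.compHom M (RingEquiv.toOpposite (B ⧸ 𝔄)).symm.toRingHom
  let _ : Module (B ⧸ 𝔄)ᵐᵒᵖ N := Module.compHom N (RingEquiv.toOpposite (B ⧸ 𝔄)).symm.toRingHom
  have : IsCentralScalar (B ⧸ 𝔄) M := ⟨fun _ _ => rfl⟩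
  have : IsCentralScalar (B ⧸ 𝔄) N := ⟨fun _ _ => rfl⟩
  let D : Derivation A B N :=
    ((g.restrictScalars B).comp (TensorProduct.mk B (B ⧸ 𝔄) Ω[B⁄A] 1)).compDer (KaehlerDifferential.D A B)
  let φ : TrivSqZeroExt (B ⧸ 𝔄) M →ₐ[B ⧸ 𝔄] TrivSqZeroExt (B ⧸ 𝔄) N := TrivSqZeroExt.map f
  let J : Ideal (TrivSqZeroExt (B ⧸ 𝔄) M) := RingHom.ker φ.toRingHom
  have hJ : J ^ 2 = ⊥ := by
    rw [pow_two, eq_bot_iff, Ideal.mul_le]
    intro a ha b hb
    have ha' : a.fst = 0 := by
      have h0 : (φ a).fst = 0 := by rw [show φ a = 0 from ha]; rfl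
      rwa [TrivSqZeroExt.fst_map] at h0
    have hb' : b.fst = 0 := by
      have h0 : (φ b).fst = 0 := by rw [show φ b = 0 from hb]; rfl
      rwa [TrivSqZeroExt.fst_map] at h0
    rw [Ideal.mem_bot]
    ext <;> simp [ha', hb']
  let _ : Algebra A (TrivSqZeroExt (B ⧸ 𝔄) M) :=
    ((TrivSqZeroExt.inlHom (B ⧸ 𝔄) M).comp (algebraMap A (B ⧸ 𝔄))).toAlgebra
  let u₀ : B →+* TrivSqZeroExt (B ⧸ 𝔄) N :=
    { toFun := fun b => TrivSqZeroExt.inl (Ideal.Quotient.mk 𝔄 b) + TrivSqZeroExt.inr (D b)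
      map_one' := by ext <;> simp
      map_zero' := by ext <;> simp
      map_add' := fun a b => by ext <;> simp
      map_mul' := fun a b => by
        ext
        · simp
        · simp only [Derivation.leibniz, TrivSqZeroExt.snd_add, TrivSqZeroExt.snd_inl, TrivSqZeroExt.snd_inr,
            TrivSqZeroExt.snd_mul, TrivSqZeroExt.fst_add, TrivSqZeroExt.fst_inl, TrivSqZeroExt.fst_inr,
            zero_add, add_zero, op_smul_eq_smul]
          rfl }
  have hφs : Function.Surjective φ := fun z => by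
    obtain ⟨m, hm⟩ := hf z.snd
    exact ⟨TrivSqZeroExt.inl z.fst + TrivSqZeroExt.inr m, by ext <;> simp [φ, hm]⟩
  let e := RingHom.quotientKerEquivOfSurjective (f := φ.toRingHom) hφs
  let u : B →ₐ[A] TrivSqZeroExt (B ⧸ 𝔄) M ⧸ J :=
    { e.symm.toRingHom.comp u₀ with
      commutes' := fun a => e.injective (by
        show e (e.symm (u₀ (algebraMap A B a))) = φ (TrivSqZeroExt.inl (algebraMap A (B ⧸ 𝔄) a))
        rw [RingEquiv.apply_symm_apply, TrivSqZeroExt.map_inl]
        show (TrivSqZeroExt.inl (Ideal.Quotient.mk 𝔄 (algebraMap A B a)) : TrivSqZeroExt (B ⧸ 𝔄) N) + TrivSqZeroExt.inr (D (algebraMap A B a)) = _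
        rw [Derivation.map_algebraMap, TrivSqZeroExt.inr_zero, add_zero]
        rfl) }
  have hk : ∃ k : ℕ, (𝔞 ^ k).map (algebraMap A (TrivSqZeroExt (B ⧸ 𝔄) M)) = ⊥ := by
    refine ⟨ka * n, ?_⟩
    rw [show algebraMap A (TrivSqZeroExt (B ⧸ 𝔄) M) =
      ((TrivSqZeroExt.inlHom (B ⧸ 𝔄) M).comp (Ideal.Quotient.mk 𝔄)).comp (algebraMap A B) from rfl,
      ← Ideal.map_map, ← Ideal.map_map, pow_mul, Ideal.map_pow,
      (Ideal.map_eq_bot_iff_le_ker (Ideal.Quotient.mk 𝔄)).2 (by
        rw [Ideal.mk_ker]; exact (Ideal.pow_right_mono hka n).trans hn), Ideal.map_bot]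
  have hu : ∃ k : ℕ, ∀ x ∈ 𝔟 ^ k, u x = 0 := by
    refine ⟨n * 2, fun x hx => e.injective ?_⟩
    show e (e.symm (u₀ x)) = e 0
    rw [RingEquiv.apply_symm_apply, map_zero]
    rw [pow_mul, pow_two] at hx
    refine Submodule.mul_induction_on hx (fun a ha b hb => ?_) fun a b ha hb => by rw [map_add, ha, hb, add_zero]
    have ha' := Ideal.Quotient.eq_zero_iff_mem.2 (hn ha)
    have hb' := Ideal.Quotient.eq_zero_iff_mem.2 (hn hb)
    show (TrivSqZeroExt.inl (Ideal.Quotient.mk 𝔄 (a * b)) : TrivSqZeroExt (B ⧸ 𝔄) N) + TrivSqZeroExt.inr (D (a * b)) = 0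
    rw [Derivation.leibniz, map_mul, ha', zero_mul, show a • D b = (Ideal.Quotient.mk 𝔄 a) • D b from rfl,
      show b • D a = (Ideal.Quotient.mk 𝔄 b) • D a from rfl, ha', hb', zero_smul, zero_smul, add_zero,
      TrivSqZeroExt.inl_zero, TrivSqZeroExt.inr_zero, add_zero]
  obtain ⟨v, hv⟩ := h _ J ⟨2, hJ⟩ hk u hu
  have hφv : ∀ b, φ (v b) = u₀ b := fun b => by
    have h1 := congrArg e (AlgHom.congr_fun hv b)
    rw [show e (u b) = u₀ b from e.apply_symm_apply _] at h1
    exact h1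
  have hfst : ∀ b, (v b).fst = Ideal.Quotient.mk 𝔄 b := fun b => by
    have h1 := congrArg TrivSqZeroExt.fst (hφv b)
    rw [TrivSqZeroExt.fst_map] at h1
    rw [h1]
    simp [u₀]
  have hsnd : ∀ b, f ((v b).snd) = D b := fun b => by
    have h1 := congrArg TrivSqZeroExt.snd (hφv b)
    rw [TrivSqZeroExt.snd_map] at h1
    rw [h1]
    simp [u₀]
  let D' : Derivation A B M := Derivation.mk'
    { toFun := fun b => (v b).snd
      map_add' := fun a b => by rw [map_add, TrivSqZeroExt.snd_add]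
      map_smul' := fun a b => by
        rw [RingHom.id_apply, Algebra.smul_def, map_mul, AlgHom.commutes, TrivSqZeroExt.snd_mul]
        show (TrivSqZeroExt.inl (algebraMap A (B ⧸ 𝔄) a) : TrivSqZeroExt (B ⧸ 𝔄) M).fst • (v b).snd + _ = _
        rw [show (algebraMap A (TrivSqZeroExt (B ⧸ 𝔄) M) a).snd = 0 from TrivSqZeroExt.snd_inl M _, smul_zero,
          add_zero, TrivSqZeroExt.fst_inl]
        rfl }
    fun a b => by
      show (v (a * b)).snd = _
      rw [map_mul, TrivSqZeroExt.snd_mul, hfst, hfst, op_smul_eq_smul]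
      rfl
  refine ⟨D'.liftKaehlerDifferential.liftBaseChange (B ⧸ 𝔄), ?_⟩
  refine TensorProduct.AlgebraTensorModule.ext fun q w => ?_
  rw [LinearMap.comp_apply, LinearMap.liftBaseChange_tmul, map_smul]
  have hw : w ∈ Submodule.span B (Set.range (KaehlerDifferential.D A B)) := by
    rw [KaehlerDifferential.span_range_derivation]; trivial
  induction hw using Submodule.span_induction with
  | mem y hy =>
    obtain ⟨c, rfl⟩ := hy
    rw [Derivation.liftKaehlerDifferential_comp_D]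
    show q • f ((v c).snd) = _
    rw [hsnd]
    show q • g ((1 : B ⧸ 𝔄) ⊗ₜ KaehlerDifferential.D A B c) = _
    rw [← map_smul, TensorProduct.smul_tmul', smul_eq_mul, mul_one]
  | zero => simp
  | add x y _ _ hx hy => rw [map_add, map_add, smul_add, hx, hy, TensorProduct.tmul_add, map_add]
  | smul c x _ hx =>
    rw [map_smul, show c • D'.liftKaehlerDifferential x = Ideal.Quotient.mk 𝔄 c • D'.liftKaehlerDifferential x from rfl,
      map_smul, smul_comm, hx, TensorProduct.tmul_smul, ← map_smul]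
    congr 1

/-- A projective module over a local ring with nilpotent maximal ideal is free. -/
theorem free_of_flat_of_nilpotent {R : Type u} [CommRing R] [IsLocalRing R] {M : Type u} [AddCommGroup M]
    [Module R M] [Module.Flat R M] (hnil : IsNilpotent (IsLocalRing.maximalIdeal R)) : Module.Free R M := by
  let k := IsLocalRing.ResidueField R
  let b := Module.Free.chooseBasis k (k ⊗[R] M)
  choose v hv using fun i => TensorProduct.mk_surjective R M k IsLocalRing.residue_surjective (b i)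
  have hli : LinearIndependent R v := Module.IsLocalRing.linearIndependent_of_flat v (by
    convert b.linearIndependent using 1
    funext i
    exact hv i)
  have hker : ∀ (x : M) , (1 : k) ⊗ₜ[R] x = 0 → x ∈ IsLocalRing.maximalIdeal R • (⊤ : Submodule R M) := by
    intro x hx
    rwa [← LinearMap.ker_tensorProductMk]
  have hsp : (⊤ : Submodule R M) ≤ Submodule.span R (Set.range v) ⊔ IsLocalRing.maximalIdeal R • ⊤ := by
    rintro x -
    obtain ⟨c, hc⟩ : ∃ c, Finsupp.linearCombination k b c = (1 : k) ⊗ₜ[R] x :=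
      ⟨b.repr _, b.linearCombination_repr _⟩
    choose r hr using fun a : k => IsLocalRing.residue_surjective a
    rw [show x = (∑ i ∈ c.support, r (c i) • v i) + (x - ∑ i ∈ c.support, r (c i) • v i) by rw [add_sub_cancel]]
    refine Submodule.add_mem_sup (Submodule.sum_mem _ fun i _ => Submodule.smul_mem _ _ (Submodule.subset_span ⟨i, rfl⟩)) ?_
    refine hker _ ?_
    rw [TensorProduct.tmul_sub, TensorProduct.tmul_sum, sub_eq_zero, ← hc, Finsupp.linearCombination_apply,
      Finsupp.sum]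
    refine Finset.sum_congr rfl fun i _ => ?_
    rw [TensorProduct.tmul_smul, show (1 : k) ⊗ₜ[R] v i = b i from hv i]
    conv_lhs => rw [← hr (c i)]
    exact IsScalarTower.algebraMap_smul k (r (c i)) (b i)
  obtain ⟨N, hN⟩ := hnil
  have htop : ∀ j : ℕ, (⊤ : Submodule R M) ≤ Submodule.span R (Set.range v) ⊔
      IsLocalRing.maximalIdeal R ^ j • ⊤ := by
    intro j
    induction j with
    | zero => simp
    | succ j ih =>
      refine hsp.trans (sup_le le_sup_left ?_)
      refine (Submodule.smul_mono le_rfl ih).trans ?_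
      rw [Submodule.smul_sup, ← mul_smul, ← pow_succ']
      exact sup_le (Submodule.smul_le_right.trans le_sup_left) le_sup_right
  refine Module.Free.of_basis (Module.Basis.mk hli ?_)
  refine (htop N).trans ?_
  rw [hN]
  simp

theorem free_kaehler_mod_open {A B : Type u} [CommRing A] [IsLocalRing A] [CommRing B] [IsLocalRing B]
    [Algebra A B] [IsLocalHom (algebraMap A B)]
    (h : EGA41.IsFormallySmoothAdic A (IsLocalRing.maximalIdeal A) B (IsLocalRing.maximalIdeal B))
    (𝔟 : Ideal B) (hle : 𝔟 ≤ IsLocalRing.maximalIdeal B) (hpow : ∃ k : ℕ, IsLocalRing.maximalIdeal B ^ k ≤ 𝔟) :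
    Module.Free (B ⧸ 𝔟) ((B ⧸ 𝔟) ⊗[B] Ω[B⁄A]) := by
  have hP := projective_kaehler_mod_open (IsLocalRing.maximalIdeal A) (IsLocalRing.maximalIdeal B) ⟨1, by
    rw [pow_one, Ideal.map_le_iff_le_comap]
    exact fun a ha => map_nonunit (algebraMap A B) a ha⟩ h 𝔟 hpow
  have hne : 𝔟 ≠ ⊤ := fun he => (IsLocalRing.maximalIdeal.isMaximal B).ne_top (top_le_iff.1 (he ▸ hle))
  have : Nontrivial (B ⧸ 𝔟) := Ideal.Quotient.nontrivial_iff.2 hne
  have : IsLocalRing (B ⧸ 𝔟) := IsLocalRing.of_surjective' _ Ideal.Quotient.mk_surjective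
  refine free_of_flat_of_nilpotent ?_
  obtain ⟨k, hk⟩ := hpow
  refine ⟨k, ?_⟩
  rw [← IsLocalRing.map_maximalIdeal_of_surjective (Ideal.Quotient.mk 𝔟) Ideal.Quotient.mk_surjective,
    ← Ideal.map_pow, Ideal.zero_eq_bot, Ideal.map_eq_bot_iff_le_ker, Ideal.mk_ker]
  exact hk

end CohenLib
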