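import Groth.Agent.CohenLib.FSRegular
import Groth.Agent.CohenLib.FSOmega
import Groth.Agent.CohenLib.GeomRed
import Mathlib.RingTheory.Kaehler.Basic
import Mathlib.Algebra.TrivSqZeroExt.Ideal
import Mathlib.Algebra.Algebra.Rat
import Mathlib.Algebra.Field.ZMod
import Mathlib.FieldTheory.Perfect

/-! Regularity and extension of derivations: adic formal smoothness over a field. -/

set_option autoImplicit false

universe u v

open IsLocalRing TensorProduct

namespace CohenLib

/-- A perfect subfield killed by all additive derivations. -/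
theorem exists_perfect_subfield (k : Type u) [Field k] :
    ∃ P : Subfield k, PerfectField P ∧
      ∀ (M : Type u) [AddCommGroup M] [Module k M] (D : Derivation ℤ k M), ∀ x ∈ P, D x = 0 := by
  obtain _ | ⟨p, hp, hpk⟩ := CharP.exists' k
  · refine ⟨(Rat.castHom k).fieldRange, inferInstance, ?_⟩
    rintro M _ _ D _ ⟨q, rfl⟩
    have h1 : (q.den : k) * (Rat.castHom k q) = (q.num : k) := by
      rw [mul_comm, eq_ratCast (Rat.castHom k) q]
      exact_mod_cast Rat.mul_den_eq_num q
    have h2 := congrArg D h1
    rw [Derivation.leibniz, Derivation.map_natCast, Derivation.map_intCast, smul_zero, add_zero,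
      smul_eq_zero] at h2
    exact h2.resolve_left (Nat.cast_ne_zero.2 q.den_nz)
  · let P := (ZMod.castHom (dvd_refl p) k).fieldRange
    have : Finite P := Finite.of_surjective (ZMod.castHom (dvd_refl p) k).rangeRestrictField
      (fun ⟨_, q, h⟩ => ⟨q, Subtype.ext h⟩)
    refine ⟨P, PerfectField.ofFinite, ?_⟩
    rintro M _ _ D _ ⟨q, rfl⟩
    obtain ⟨z, rfl⟩ := ZMod.intCast_surjective q
    rw [map_intCast, Derivation.map_intCast]

section Criterion

variable (R : Type*) (k A L : Type u) [CommRing R] [CommRing k] [CommRing A] [Field L] [Algebra R k] [Algebra R A]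
  [Algebra k A] [IsScalarTower R k A] [Algebra A L] [Algebra k L] [IsScalarTower k A L] [Algebra R L]
  [IsScalarTower R A L] [IsScalarTower R k L]

/-- Injectivity of the base-changed map of differentials means derivations extend. -/
theorem injective_lTensor_iff :
    Function.Injective ((KaehlerDifferential.mapBaseChange R k A).lTensor L) ↔
      ∀ D : Derivation R k L, ∃ D' : Derivation R A L, ∀ c, D' (algebraMap k A c) = D c := by
  let u : L ⊗[A] (A ⊗[k] Ω[k⁄R]) →ₗ[L] L ⊗[A] Ω[A⁄R] := (KaehlerDifferential.mapBaseChange R k A).baseChange L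
  show Function.Injective u ↔ _
  have hu : ∀ (l : L) (a : A) (c : k), u (l ⊗ₜ[A] (a ⊗ₜ[k] KaehlerDifferential.D R k c)) =
      l ⊗ₜ[A] (a • KaehlerDifferential.D R A (algebraMap k A c)) := fun l a c => by
    rw [LinearMap.baseChange_tmul, KaehlerDifferential.mapBaseChange_tmul, KaehlerDifferential.map_D]
  constructor
  · intro h D
    obtain ⟨r, hr⟩ := u.exists_leftInverse_of_injective (LinearMap.ker_eq_bot.2 h)
    let φ : L ⊗[A] (A ⊗[k] Ω[k⁄R]) →ₗ[L] L :=
      (D.liftKaehlerDifferential.liftBaseChange A).liftBaseChange L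
    refine ⟨(((φ.comp r).restrictScalars A).comp (TensorProduct.mk A L Ω[A⁄R] 1)).compDer
      (KaehlerDifferential.D R A), fun c => ?_⟩
    show φ (r ((1 : L) ⊗ₜ[A] KaehlerDifferential.D R A (algebraMap k A c))) = _
    rw [← one_smul A (KaehlerDifferential.D R A (algebraMap k A c)), ← hu, ← LinearMap.comp_apply r, hr,
      LinearMap.id_apply]
    rw [LinearMap.liftBaseChange_tmul, one_smul, LinearMap.liftBaseChange_tmul, one_smul,
      Derivation.liftKaehlerDifferential_comp_D]
  · intro h
    rw [injective_iff_map_eq_zero]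
    intro z hz
    refine (Module.forall_dual_apply_eq_zero_iff L z).1 fun φ => ?_
    let D : Derivation R k L :=
      (((φ.restrictScalars A).comp (TensorProduct.mk A L (A ⊗[k] Ω[k⁄R]) 1)).restrictScalars k).comp
        (TensorProduct.mk k A Ω[k⁄R] 1) |>.compDer (KaehlerDifferential.D R k)
    obtain ⟨D', hD'⟩ := h D
    have h1 : φ = (D'.liftKaehlerDifferential.liftBaseChange L).comp u := by
      refine TensorProduct.AlgebraTensorModule.ext fun l x => ?_
      induction x using TensorProduct.induction_on with
      | zero => simp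
      | add x y hx hy => rw [TensorProduct.tmul_add, map_add, map_add, hx, hy]
      | tmul a w =>
        have hw : w ∈ Submodule.span k (Set.range (KaehlerDifferential.D R k)) := by
          rw [KaehlerDifferential.span_range_derivation]; trivial
        induction hw using Submodule.span_induction generalizing a with
        | mem y hy =>
          obtain ⟨c, rfl⟩ := hy
          rw [LinearMap.comp_apply, hu, LinearMap.liftBaseChange_tmul, map_smul,
            Derivation.liftKaehlerDifferential_comp_D, hD']
          show φ (l ⊗ₜ (a ⊗ₜ _)) = l • a • φ ((1 : L) ⊗ₜ ((1 : A) ⊗ₜ KaehlerDifferential.D R k c))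
          rw [← LinearMap.map_smul_of_tower, ← map_smul, TensorProduct.smul_tmul', TensorProduct.smul_tmul',
            smul_eq_mul, Algebra.smul_def, mul_one,
            show a ⊗ₜ[k] KaehlerDifferential.D R k c = a • ((1 : A) ⊗ₜ[k] KaehlerDifferential.D R k c) by
              rw [TensorProduct.smul_tmul', smul_eq_mul, mul_one],
            TensorProduct.tmul_smul, TensorProduct.smul_tmul', Algebra.smul_def, mul_comm]
        | zero => simp
        | add x y _ _ hx hy => rw [TensorProduct.tmul_add, TensorProduct.tmul_add, map_add, map_add, hx, hy]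
        | smul c x _ hx =>
          rw [TensorProduct.tmul_smul, TensorProduct.smul_tmul']
          exact hx (c • a)
    rw [h1, LinearMap.comp_apply, hz, map_zero]

end Criterion

section Extend

variable {P k A : Type u} [Field P] [Field k] [CommRing A] [IsLocalRing A] [Algebra P k] [Algebra P A]
  [Algebra k A] [IsScalarTower P k A]

/-- Derivations into vector spaces over the residue field extend, if derivations into the field do. -/
theorem exists_extend_residue
    (hinj : Function.Injective ((KaehlerDifferential.mapBaseChange P k A).lTensor (ResidueField A)))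
    (V : Type u) [AddCommGroup V] [Module A V] [Module k V] [IsScalarTower k A V] [Module P V]
    [IsScalarTower P A V] [IsScalarTower P k V] (hV : ∀ x ∈ maximalIdeal A, ∀ y : V, x • y = 0) (δ : Derivation P k V) :
    ∃ D : Derivation P A V, ∀ c, D (algebraMap k A c) = δ c := by
  let L := ResidueField A
  let _ : Module (A ⧸ maximalIdeal A) V :=
    Module.IsTorsionBySet.module (fun y x => hV x.1 x.2 y)
  let _ : Module L V := ‹Module (A ⧸ maximalIdeal A) V›
  have : IsScalarTower A L V := ⟨fun a q y => by
    obtain ⟨q, rfl⟩ := Ideal.Quotient.mk_surjective q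
    show (a * q) • y = a • q • y
    exact mul_smul a q y⟩
  let u : L ⊗[A] (A ⊗[k] Ω[k⁄P]) →ₗ[L] L ⊗[A] Ω[A⁄P] := (KaehlerDifferential.mapBaseChange P k A).baseChange L
  obtain ⟨r, hr⟩ := u.exists_leftInverse_of_injective (LinearMap.ker_eq_bot.2 hinj)
  let φ : L ⊗[A] (A ⊗[k] Ω[k⁄P]) →ₗ[L] V :=
    (δ.liftKaehlerDifferential.liftBaseChange A).liftBaseChange L
  refine ⟨(((φ.comp r).restrictScalars A).comp (TensorProduct.mk A L Ω[A⁄P] 1)).compDer
    (KaehlerDifferential.D P A), fun c => ?_⟩
  show φ (r ((1 : L) ⊗ₜ[A] KaehlerDifferential.D P A (algebraMap k A c))) = _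
  rw [show (1 : L) ⊗ₜ[A] KaehlerDifferential.D P A (algebraMap k A c) =
      u ((1 : L) ⊗ₜ[A] ((1 : A) ⊗ₜ[k] KaehlerDifferential.D P k c)) by
    rw [LinearMap.baseChange_tmul, KaehlerDifferential.mapBaseChange_tmul, KaehlerDifferential.map_D, one_smul],
    ← LinearMap.comp_apply r, hr, LinearMap.id_apply, LinearMap.liftBaseChange_tmul, one_smul,
    LinearMap.liftBaseChange_tmul, one_smul, Derivation.liftKaehlerDifferential_comp_D]

/-- Derivations into modules killed by a power of the maximal ideal extend. -/
theorem exists_extend_pow (hA : LiftsAdic P A)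
    (hinj : Function.Injective ((KaehlerDifferential.mapBaseChange P k A).lTensor (ResidueField A))) :
    ∀ (l : ℕ) (N : Type u) [AddCommGroup N] [Module A N] [Module k N] [IsScalarTower k A N] [Module P N]
      [IsScalarTower P A N] [IsScalarTower P k N], (∀ x ∈ maximalIdeal A ^ l, ∀ y : N, x • y = 0) → ∀ δ : Derivation P k N,
      ∃ D : Derivation P A N, ∀ c, D (algebraMap k A c) = δ c
  | 0, N, _, _, _, _, _, _, _, h, δ => ⟨0, fun c => by
      have : Subsingleton N := ⟨fun a b => by
        rw [← one_smul A a, ← one_smul A b, h 1 (by simp) a, h 1 (by simp) b]⟩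
      exact Subsingleton.elim _ _⟩
  | l + 1, N, _, _, _, _, _, _, _, h, δ => by
    let S : Submodule A N := maximalIdeal A • ⊤
    have hV : ∀ x ∈ maximalIdeal A, ∀ y : N ⧸ S, x • y = 0 := fun x hx y => by
      obtain ⟨y, rfl⟩ := S.mkQ_surjective y
      rw [← map_smul]
      exact (Submodule.Quotient.mk_eq_zero S).2 (Submodule.smul_mem_smul hx trivial)
    let δb : Derivation P k (N ⧸ S) := (S.mkQ.restrictScalars k).compDer δ
    obtain ⟨Db, hDb⟩ := exists_extend_residue hinj (N ⧸ S) hV δb
    let E := A ⧸ maximalIdeal A ^ (l + 1)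
    have : Module.Projective E (E ⊗[A] Ω[A⁄P]) :=
      projective_kaehler_mod_open (⊥ : Ideal P) (maximalIdeal A) ⟨1, by simp⟩
        ((isFormallySmoothAdic_bot_iff _).1 hA) _ ⟨l + 1, le_rfl⟩
    let _ : Module E N := Module.IsTorsionBySet.module (fun y x => h x.1 x.2 y)
    have hNQ : ∀ x ∈ maximalIdeal A ^ (l + 1), ∀ y : N ⧸ S, x • y = 0 := fun x hx =>
      hV x (Ideal.pow_le_self (Nat.succ_ne_zero l) hx)
    let _ : Module E (N ⧸ S) := Module.IsTorsionBySet.module (fun y x => hNQ x.1 x.2 y)
    have : IsScalarTower A E N := ⟨fun a q y => by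
      obtain ⟨q, rfl⟩ := Ideal.Quotient.mk_surjective q
      show (a * q) • y = a • q • y
      exact mul_smul a q y⟩
    have : IsScalarTower A E (N ⧸ S) := ⟨fun a q y => by
      obtain ⟨q, rfl⟩ := Ideal.Quotient.mk_surjective q
      show (a * q) • y = a • q • y
      exact mul_smul a q y⟩
    let q : N →ₗ[E] N ⧸ S :=
      { toFun := S.mkQ
        map_add' := map_add _
        map_smul' := fun e y => by
          obtain ⟨e, rfl⟩ := Ideal.Quotient.mk_surjective e
          exact map_smul S.mkQ e y }
    obtain ⟨g, hg⟩ := Module.projective_lifting_property q (Db.liftKaehlerDifferential.liftBaseChange E)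
      S.mkQ_surjective
    let D₁ : Derivation P A N :=
      ((g.restrictScalars A).comp (TensorProduct.mk A E Ω[A⁄P] 1)).compDer (KaehlerDifferential.D P A)
    have hD₁ : ∀ a, S.mkQ (D₁ a) = Db a := fun a => by
      show q (g ((1 : E) ⊗ₜ KaehlerDifferential.D P A a)) = _
      rw [← LinearMap.comp_apply, hg, LinearMap.liftBaseChange_tmul, one_smul,
        Derivation.liftKaehlerDifferential_comp_D]
    let ε : Derivation P k N := δ - D₁.compAlgebraMap k
    have hε : ∀ c, ε c ∈ S.restrictScalars k := fun c => by
      show δ c - D₁ (algebraMap k A c) ∈ S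
      rw [← Submodule.Quotient.mk_eq_zero S, Submodule.Quotient.mk_sub, ← S.mkQ_apply (D₁ _), hD₁, hDb]
      exact sub_self _
    let εS : Derivation P k S := Derivation.mk'
      { toFun := fun c => (⟨ε c, hε c⟩ : S)
        map_add' := fun a b => Subtype.ext (map_add ε a b)
        map_smul' := fun a b => Subtype.ext (ε.map_smul a b) }
      fun a b => Subtype.ext (ε.leibniz a b)
    have hS : ∀ x ∈ maximalIdeal A ^ l, ∀ y : S, x • y = 0 := fun x hx y => Subtype.ext (by
      show x • (y : N) = 0
      refine Submodule.smul_induction_on y.2 (fun m hm n _ => ?_) fun a b ha hb => by rw [smul_add, ha, hb, add_zero]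
      rw [← mul_smul]
      exact h _ (by rw [pow_succ]; exact Ideal.mul_mem_mul hx hm) n)
    obtain ⟨D₂, hD₂⟩ := exists_extend_pow hA hinj l S hS εS
    refine ⟨D₁ + S.subtype.compDer D₂, fun c => ?_⟩
    show D₁ (algebraMap k A c) + ((D₂ (algebraMap k A c) : S) : N) = δ c
    rw [hD₂]
    show D₁ (algebraMap k A c) + (δ c - D₁ (algebraMap k A c)) = δ c
    rw [add_sub_cancel]

end Extend

/-- Correcting a ring map to be compatible with given structure maps. -/
theorem exists_corrected_lift {P k A : Type u} [Field P] [Field k] [CommRing A] [IsLocalRing A]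
    [Algebra P k] [Algebra P A] [Algebra k A] [IsScalarTower P k A] (hA : LiftsAdic P A)
    (hinj : Function.Injective ((KaehlerDifferential.mapBaseChange P k A).lTensor (ResidueField A)))
    {C : Type u} [CommRing C] (J : Ideal C) (hJ : J ^ 2 = ⊥) (φ : A →+* C) (g : k →+* C)
    (hg : ∀ c, φ (algebraMap k A c) - g c ∈ J) (hP : ∀ c, φ (algebraMap P A c) = g (algebraMap P k c))
    (l : ℕ) (hl : ∀ x ∈ maximalIdeal A ^ l, φ x ∈ J) :
    ∃ φ' : A →+* C, (∀ c, φ' (algebraMap k A c) = g c) ∧ ∀ a, φ' a - φ a ∈ J := by
  let _ : Algebra A C := φ.toAlgebra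
  let _ : Algebra k C := (φ.comp (algebraMap k A)).toAlgebra
  have : IsScalarTower k A C := IsScalarTower.of_algebraMap_eq fun _ => rfl
  let _ : Algebra P C := (φ.comp (algebraMap P A)).toAlgebra
  have : IsScalarTower P A C := IsScalarTower.of_algebraMap_eq fun _ => rfl
  have : IsScalarTower P k C := IsScalarTower.of_algebraMap_eq fun c =>
    congrArg φ (IsScalarTower.algebraMap_apply P k A c)
  have h0 : ∀ x ∈ J, ∀ y ∈ J, x * y = 0 := fun x hx y hy => by
    have h1 := Ideal.mul_mem_mul hx hy
    rwa [← pow_two, hJ, Ideal.mem_bot] at h1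
  let δ' : k →ₗ[P] J :=
    { toFun := fun c => ⟨φ (algebraMap k A c) - g c, hg c⟩
      map_add' := fun a b => Subtype.ext (by
        show φ (algebraMap k A (a + b)) - g (a + b) = φ (algebraMap k A a) - g a + (φ (algebraMap k A b) - g b)
        simp only [map_add]; ring)
      map_smul' := fun p b => Subtype.ext (by
        show φ (algebraMap k A (p • b)) - g (p • b) = φ (algebraMap P A p) * (φ (algebraMap k A b) - g b)
        rw [Algebra.smul_def, map_mul, map_mul, map_mul, ← IsScalarTower.algebraMap_apply, hP]
        ring) }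
  let δ : Derivation P k J := Derivation.mk' δ' fun a b => Subtype.ext (by
    show φ (algebraMap k A (a * b)) - g (a * b) =
      φ (algebraMap k A a) * (φ (algebraMap k A b) - g b) + φ (algebraMap k A b) * (φ (algebraMap k A a) - g a)
    have h1 := h0 _ (hg a) _ (hg b)
    simp only [map_mul]
    linear_combination -h1)
  obtain ⟨D, hD⟩ := exists_extend_pow hA hinj l J (fun x hx y => Subtype.ext (h0 _ (hl x hx) _ y.2)) δ
  refine ⟨RingHom.mk' ⟨⟨fun a => φ a - (D a : C), ?_⟩, ?_⟩ ?_, fun c => ?_, fun a => ?_⟩
  · rw [Derivation.map_one_eq_zero, Submodule.coe_zero, sub_zero, map_one]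
  · intro a b
    show φ (a * b) - (D (a * b) : C) = (φ a - (D a : C)) * (φ b - (D b : C))
    rw [Derivation.leibniz, Submodule.coe_add, map_mul]
    show φ a * φ b - (φ a * (D b : C) + φ b * (D a : C)) = _
    linear_combination -(h0 _ (D a).2 _ (D b).2)
  · intro a b
    show φ (a + b) - (D (a + b) : C) = φ a - (D a : C) + (φ b - (D b : C))
    rw [map_add, map_add, Submodule.coe_add]
    ring
  · show φ (algebraMap k A c) - (D (algebraMap k A c) : C) = g c
    rw [hD]
    show φ (algebraMap k A c) - (φ (algebraMap k A c) - g c) = g c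
    ring
  · show φ a - (D a : C) - φ a ∈ J
    rw [sub_sub_cancel_left]
    exact neg_mem (D a).2

/-- The relative differential condition in terms of a perfect subfield. -/
theorem liftsAdic_of_injective {k A : Type u} [Field k] [CommRing A] [IsRegularLocalRing A] [Algebra k A]
    (hinj : Function.Injective ((KaehlerDifferential.mapBaseChange ℤ k A).lTensor (ResidueField A))) :
    LiftsAdic k A := by
  obtain ⟨P, hP, hPD⟩ := exists_perfect_subfield k
  have : IsScalarTower P k A := IsScalarTower.of_algebraMap_eq fun _ => rfl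
  have : Algebra.FormallySmooth P (ResidueField A) :=
    Groth.Agent.PerfectFieldLib.formallySmooth_of_perfectField P (ResidueField A)
  have hA : LiftsAdic P A := liftsAdic_of_regular P A
  have hinjP : Function.Injective ((KaehlerDifferential.mapBaseChange P k A).lTensor (ResidueField A)) := by
    rw [injective_lTensor_iff] at hinj ⊢
    intro D
    obtain ⟨D', hD'⟩ := hinj (D.restrictScalars ℤ)
    refine ⟨Derivation.mk'
      { toFun := D'
        map_add' := map_add D'
        map_smul' := fun p a => ?_ } D'.leibniz, hD'⟩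
    rw [RingHom.id_apply, Algebra.smul_def, D'.leibniz, IsScalarTower.algebraMap_apply P k A, hD']
    show algebraMap k A (algebraMap P k p) • D' a + a • D (algebraMap P k p) = _
    rw [D.map_algebraMap, smul_zero, add_zero, ← IsScalarTower.algebraMap_apply, IsScalarTower.algebraMap_smul]
    rfl
  intro C _ _ J hJ ψ hψ
  obtain ⟨l, hl⟩ := hψ
  have : IsScalarTower P k C := IsScalarTower.of_algebraMap_eq fun _ => rfl
  obtain ⟨φ, hφ⟩ := hA C J hJ (ψ.restrictScalars P) ⟨l, hl⟩
  have hφ' : ∀ a, Ideal.Quotient.mk J (φ a) = ψ a := fun a => AlgHom.congr_fun hφ a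
  obtain ⟨φ', hk, hJ'⟩ := exists_corrected_lift hA hinjP J hJ φ.toRingHom (algebraMap k C)
    (fun c => by
      rw [← Ideal.Quotient.eq_zero_iff_mem, map_sub, sub_eq_zero]
      exact (hφ' _).trans (ψ.commutes c))
    (fun c => φ.commutes c) l (fun x hx => by
      rw [← Ideal.Quotient.eq_zero_iff_mem]
      exact (hφ' x).trans (hl x hx))
  refine ⟨{ φ' with commutes' := hk }, AlgHom.ext fun a => ?_⟩
  rw [← hφ' a]
  exact Ideal.Quotient.eq.2 (hJ' a)

/-- Derivations of the base extend to formally smooth algebras, into the residue field. -/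
theorem LiftsAdic.injective_lTensor {k A : Type u} [Field k] [CommRing A] [IsLocalRing A] [Algebra k A]
    (h : LiftsAdic k A) :
    Function.Injective ((KaehlerDifferential.mapBaseChange ℤ k A).lTensor (ResidueField A)) := by
  rw [injective_lTensor_iff]
  intro D
  let χ₀ : k →+* TrivSqZeroExt (ResidueField A) (ResidueField A) :=
    { toFun := fun c => TrivSqZeroExt.inl (algebraMap k (ResidueField A) c) + TrivSqZeroExt.inr (D c)
      map_one' := by ext <;> simp
      map_zero' := by ext <;> simp
      map_add' := fun a b => by ext <;> simp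
      map_mul' := fun a b => by
        ext
        · simp
        · simp only [Derivation.leibniz, Algebra.smul_def, map_add, map_mul, TrivSqZeroExt.snd_add,
            TrivSqZeroExt.snd_inl, TrivSqZeroExt.snd_inr, TrivSqZeroExt.snd_mul, TrivSqZeroExt.fst_add,
            TrivSqZeroExt.fst_inl, TrivSqZeroExt.fst_inr, zero_add, add_zero, op_smul_eq_smul, smul_eq_mul,
            Algebra.algebraMap_self, RingHom.id_apply] }
  let _ : Algebra k (TrivSqZeroExt (ResidueField A) (ResidueField A)) := χ₀.toAlgebra
  let f : TrivSqZeroExt (ResidueField A) (ResidueField A) →+* ResidueField A :=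
    (TrivSqZeroExt.fstHom (ResidueField A) (ResidueField A) (ResidueField A)).toRingHom
  let J : Ideal (TrivSqZeroExt (ResidueField A) (ResidueField A)) := RingHom.ker f
  have hJ : J ^ 2 = ⊥ := by
    rw [pow_two, eq_bot_iff, Ideal.mul_le]
    intro a ha b hb
    have ha' : a.fst = 0 := ha
    have hb' : b.fst = 0 := hb
    rw [Ideal.mem_bot]
    ext <;> simp [ha', hb']
  let e : TrivSqZeroExt (ResidueField A) (ResidueField A) ⧸ J ≃+* ResidueField A :=
    RingHom.quotientKerEquivOfSurjective (f := f) (fun a => ⟨TrivSqZeroExt.inl a, rfl⟩)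
  let ψ : A →ₐ[k] TrivSqZeroExt (ResidueField A) (ResidueField A) ⧸ J :=
    { e.symm.toRingHom.comp (residue A) with
      commutes' := fun c => e.injective (by
        show e (e.symm (residue A (algebraMap k A c))) = e (Ideal.Quotient.mk J (χ₀ c))
        rw [RingEquiv.apply_symm_apply]
        show _ = f (χ₀ c)
        simp [f, χ₀]
        rfl) }
  obtain ⟨χ, hχ⟩ := h _ J hJ ψ ⟨1, fun x hx => by
    rw [pow_one] at hx
    show e.symm (residue A x) = 0
    rw [(residue_eq_zero_iff x).2 hx, map_zero]⟩
  have hfst : ∀ x : A, (χ x).fst = residue A x := fun x => by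
    have h1 := congrArg e (AlgHom.congr_fun hχ x)
    rw [show e (ψ x) = residue A x from e.apply_symm_apply _] at h1
    exact h1
  refine ⟨Derivation.mk'
    (AddMonoidHom.toIntLinearMap
      { toFun := fun x => (χ x).snd
        map_zero' := by rw [map_zero, TrivSqZeroExt.snd_zero]
        map_add' := fun x y => by rw [map_add, TrivSqZeroExt.snd_add] }) fun x y => ?_, fun c => ?_⟩
  · show (χ (x * y)).snd = x • (χ y).snd + y • (χ x).snd
    rw [map_mul, TrivSqZeroExt.snd_mul, hfst, hfst, op_smul_eq_smul]
    rfl
  · show (χ (algebraMap k A c)).snd = D c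
    rw [AlgHom.commutes]
    simp [χ₀, RingHom.algebraMap_toAlgebra]

theorem isRegularLocalRing_of_liftsAdic' {k A : Type u} [Field k] [CommRing A] [IsLocalRing A]
    [IsNoetherianRing A] [Algebra k A] (h : LiftsAdic k A) : IsRegularLocalRing A := by
  obtain ⟨P, hP, -⟩ := exists_perfect_subfield k
  have : IsScalarTower P k A := IsScalarTower.of_algebraMap_eq fun _ => rfl
  have : Algebra.FormallySmooth P (ResidueField A) :=
    Groth.Agent.PerfectFieldLib.formallySmooth_of_perfectField P (ResidueField A)
  have : Algebra.FormallySmooth P k := Groth.Agent.PerfectFieldLib.formallySmooth_of_perfectField P k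
  refine isRegularLocalRing_of_liftsAdic (k := P) fun C _ _ J hJ ψ hψ => ?_
  let g := Algebra.FormallySmooth.lift J ⟨2, hJ⟩ (ψ.comp (IsScalarTower.toAlgHom P k A))
  let _ : Algebra k C := g.toRingHom.toAlgebra
  let ψk : A →ₐ[k] C ⧸ J :=
    { ψ.toRingHom with
      commutes' := fun c => (Algebra.FormallySmooth.mk_lift J ⟨2, hJ⟩ (ψ.comp (IsScalarTower.toAlgHom P k A)) c).symm }
  obtain ⟨χ, hχ⟩ := h C J hJ ψk hψ
  refine ⟨{ χ.toRingHom with commutes' := fun c => ?_ }, AlgHom.ext fun x => AlgHom.congr_fun hχ x⟩
  show χ (algebraMap P A c) = _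
  rw [IsScalarTower.algebraMap_apply P k A, AlgHom.commutes]
  exact g.commutes c

theorem liftsAdic_iff_regular_and_injective {k A : Type u} [Field k] [CommRing A] [IsLocalRing A]
    [IsNoetherianRing A] [Algebra k A] :
    LiftsAdic k A ↔ IsRegularLocalRing A ∧
      Function.Injective ((KaehlerDifferential.mapBaseChange ℤ k A).lTensor (ResidueField A)) := by
  refine ⟨fun h => ⟨isRegularLocalRing_of_liftsAdic' h, h.injective_lTensor⟩, fun ⟨h, hinj⟩ => ?_⟩
  exact liftsAdic_of_injective hinj

end CohenLib
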