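import Groth.Agent.CohenLib.PSHom
import Groth.Agent.CohenLib.PSLocal
import Groth.Agent.CohenLib.FlatUnramified
import Groth.Agent.CommAlgDim.Regular
import Groth.Agent.CommAlgDim.RegularRing
import Mathlib.RingTheory.Smooth.AdicCompletion

/-! Power series over a field; formal smoothness over a field and regularity. -/

set_option autoImplicit false

universe u v

open IsLocalRing

namespace CohenLib

section Field

variable (L : Type u) [Field L]

theorem maximalIdeal_mvPowerSeries_field (d : ℕ) :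
    maximalIdeal (MvPowerSeries (Fin d) L) = varsIdeal L d := by
  rw [maximalIdeal_mvPowerSeries, maximalIdeal_eq_bot, Ideal.map_bot, bot_sup_eq]

theorem isRegularLocalRing_mvPowerSeries (d : ℕ) : IsRegularLocalRing (MvPowerSeries (Fin d) L) := by
  have : IsRegularLocalRing L := inferInstance
  have : IsRegularRing L := isRegularRing_iff.2 fun p hp => by
    have h : p = ⊥ := (Ideal.eq_bot_or_top p).resolve_right hp.ne_top
    subst h
    exact IsRegularLocalRing.of_ringEquiv
      (IsLocalization.atUnits L (Ideal.primeCompl ⊥) (fun x hx => IsUnit.mk0 x (by simpa using hx))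
        (S := Localization.AtPrime (⊥ : Ideal L))).toRingEquiv
  have := CommAlgDim.isRegularRing_mvPowerSeries L d
  exact IsRegularLocalRing.of_isRegularRing_of_isLocalRing _

theorem spanFinrank_maximalIdeal_mvPowerSeries (d : ℕ) :
    (maximalIdeal (MvPowerSeries (Fin d) L)).spanFinrank = d := by
  classical
  rw [maximalIdeal_mvPowerSeries_field]
  refine le_antisymm ?_ ?_
  · refine (Submodule.spanFinrank_span_le_ncard_of_finite (Set.finite_range _)).trans ?_
    rw [← Set.image_univ]
    exact (Set.ncard_image_le Set.finite_univ).trans (by simp)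
  · have hfg : (varsIdeal L d).FG := Submodule.fg_span (Set.finite_range _)
    let G := (varsIdeal L d).generators
    have hG : Ideal.span G = varsIdeal L d := Submodule.span_generators _
    have hGfin : G.Finite := Submodule.FG.finite_generators hfg
    let Lf : MvPowerSeries (Fin d) L →ₗ[L] (Fin d → L) :=
      LinearMap.pi fun i => MvPowerSeries.coeff (Finsupp.single i 1)
    have hmul : ∀ (c g : MvPowerSeries (Fin d) L), g ∈ varsIdeal L d →
        Lf (c * g) = MvPowerSeries.constantCoeff c • Lf g := by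
      intro c g hg
      rw [← ker_constantCoeff, RingHom.mem_ker] at hg
      funext i
      show MvPowerSeries.coeff (Finsupp.single i 1) (c * g) =
        MvPowerSeries.constantCoeff c * MvPowerSeries.coeff (Finsupp.single i 1) g
      rw [MvPowerSeries.coeff_mul, Finsupp.antidiagonal_single]
      simp [show Finset.antidiagonal (1 : ℕ) = {(0, 1), (1, 0)} from rfl, hg]
    have hsp : (⊤ : Submodule L (Fin d → L)) ≤ Submodule.span L (Lf '' G) := by
      have h1 : ∀ f ∈ varsIdeal L d, Lf f ∈ Submodule.span L (Lf '' G) ∧ f ∈ varsIdeal L d := by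
        intro f hf
        rw [← hG] at hf
        refine Submodule.span_induction ?_ ?_ ?_ ?_ hf
        · exact fun g hg => ⟨Submodule.subset_span ⟨g, hg, rfl⟩, hG ▸ Ideal.subset_span hg⟩
        · exact ⟨by simp, zero_mem _⟩
        · rintro a b - - ⟨ha, ha'⟩ ⟨hb, hb'⟩
          exact ⟨by rw [map_add]; exact add_mem ha hb, add_mem ha' hb'⟩
        · rintro c g - ⟨hg, hg'⟩
          refine ⟨?_, Ideal.mul_mem_left _ _ hg'⟩
          rw [smul_eq_mul, hmul c g hg']
          exact Submodule.smul_mem _ _ hg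
      rintro w -
      rw [pi_eq_sum_univ w]
      refine Submodule.sum_mem _ fun i _ => Submodule.smul_mem _ _ ?_
      convert (h1 (MvPowerSeries.X i) (Ideal.subset_span ⟨i, rfl⟩)).1 using 1
      funext j
      simp [Lf, MvPowerSeries.coeff_X, Finsupp.single_eq_single_iff, eq_comm]
    have h2 := Submodule.finrank_mono hsp
    rw [finrank_top, Module.finrank_fin_fun] at h2
    refine h2.trans ((?_ : _ ≤ (Lf '' G).ncard).trans
      ((Set.ncard_image_le hGfin).trans (Submodule.FG.generators_ncard hfg).le))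
    rw [Set.ncard_eq_toFinset_card _ (hGfin.image _)]
    have h3 := finrank_span_finset_le_card (R := L) ((hGfin.image Lf).toFinset)
    rwa [Set.Finite.coe_toFinset] at h3

theorem ringKrullDim_mvPowerSeries_field (d : ℕ) :
    ringKrullDim (MvPowerSeries (Fin d) L) = d := by
  have := isRegularLocalRing_mvPowerSeries L d
  rw [← (isRegularLocalRing_iff _).1 this, spanFinrank_maximalIdeal_mvPowerSeries]

/-- A surjection from power series in `d` variables onto a regular ring of dimension `d` is bijective. -/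
theorem bijective_of_regular {R : Type u} [CommRing R] [IsRegularLocalRing R] {d : ℕ}
    (π : MvPowerSeries (Fin d) L →+* R) (hπ : Function.Surjective π)
    (hd : (maximalIdeal R).spanFinrank = d) : Function.Bijective π := by
  refine ⟨?_, hπ⟩
  rw [RingHom.injective_iff_ker_eq_bot]
  by_contra hne
  have := isRegularLocalRing_mvPowerSeries L d
  have h1 := CommAlgDim.ringKrullDim_quotient_lt hne
  rw [ringKrullDim_eq_of_ringEquiv (RingHom.quotientKerEquivOfSurjective hπ),
    ← (isRegularLocalRing_iff R).1 inferInstance, hd, ringKrullDim_mvPowerSeries_field] at h1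
  exact lt_irrefl _ h1

end Field

/-- Minimal generators of the maximal ideal are independent modulo its square. -/
theorem mem_maximalIdeal_of_sum_mem_sq {R : Type u} [CommRing R] [IsLocalRing R] [IsNoetherianRing R]
    {d : ℕ} (x : Fin d → R) (hx : Ideal.span (Set.range x) = maximalIdeal R)
    (hd : (maximalIdeal R).spanFinrank = d) (c : Fin d → R)
    (h : ∑ i, c i * x i ∈ maximalIdeal R ^ 2) (i : Fin d) : c i ∈ maximalIdeal R := by
  classical
  by_contra hci
  obtain ⟨w, hw⟩ := IsLocalRing.notMem_maximalIdeal.1 hci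
  let S : Set R := x '' {j | j ≠ i}
  have hS : maximalIdeal R ≤ Ideal.span S ⊔ maximalIdeal R • maximalIdeal R := by
    conv_lhs => rw [← hx]
    rw [Ideal.span_le]
    rintro _ ⟨j, rfl⟩
    rw [SetLike.mem_coe]
    by_cases hj : j = i
    · subst hj
      rw [show x j = ↑w⁻¹ * (∑ l, c l * x l) - ↑w⁻¹ * ∑ l ∈ Finset.univ.erase j, c l * x l by
        rw [← Finset.add_sum_erase _ _ (Finset.mem_univ j), mul_add, add_sub_cancel_right, ← hw,
          ← mul_assoc, Units.inv_mul, one_mul], sub_eq_add_neg]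
      refine add_mem (Submodule.mem_sup_right ?_) (neg_mem (Submodule.mem_sup_left ?_))
      · rw [smul_eq_mul, ← pow_two]
        exact Ideal.mul_mem_left _ _ h
      · exact Ideal.mul_mem_left _ _ (Ideal.sum_mem _ fun l hl =>
          Ideal.mul_mem_left _ _ (Ideal.subset_span ⟨l, Finset.ne_of_mem_erase hl, rfl⟩))
    · exact Submodule.mem_sup_left (Ideal.subset_span ⟨j, hj, rfl⟩)
  have h2 : maximalIdeal R = Ideal.span S := le_antisymm
    (Submodule.le_of_le_smul_of_le_jacobson_bot (IsNoetherian.noetherian _) (maximalIdeal_le_jacobson _) hS)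
    (hx ▸ Ideal.span_mono (Set.image_subset_range _ _))
  have hfin : ({j : Fin d | j ≠ i}).Finite := Set.toFinite _
  have h3 : (maximalIdeal R).spanFinrank ≤ ({j : Fin d | j ≠ i}).ncard := by
    rw [h2]
    exact (Submodule.spanFinrank_span_le_ncard_of_finite (hfin.image x)).trans (Set.ncard_image_le hfin)
  have h4 : ({j : Fin d | j ≠ i}).ncard < (Set.univ : Set (Fin d)).ncard :=
    Set.ncard_lt_ncard (Set.ssubset_univ_iff.2 fun h => absurd rfl (h.symm ▸ Set.mem_univ i : i ∈ {j | j ≠ i})) Set.finite_univ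
  rw [Set.ncard_univ, Nat.card_fin] at h4
  omega

/-- Kernel of a power series presentation by minimal generators lies in the square. -/
theorem mem_sq_of_map_mem_sq {L R : Type u} [Field L] [CommRing R] [IsLocalRing R] [IsNoetherianRing R]
    {d : ℕ} (π : MvPowerSeries (Fin d) L →+* R)
    (hπ : (varsIdeal L d).map π = maximalIdeal R) (hd : (maximalIdeal R).spanFinrank = d)
    (f : MvPowerSeries (Fin d) L) (hf : π f ∈ maximalIdeal R ^ 2) : f ∈ varsIdeal L d ^ 2 := by
  have hf1 : f ∈ varsIdeal L d := by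
    rw [← maximalIdeal_mvPowerSeries_field]
    exact fun hu => (Ideal.pow_le_self two_ne_zero hf) (hu.map π)
  obtain ⟨c, rfl⟩ := (Submodule.mem_span_range_iff_exists_fun _).1 hf1
  have hx : Ideal.span (Set.range fun i => π (MvPowerSeries.X i)) = maximalIdeal R := by
    rw [← hπ, varsIdeal, Ideal.map_span, ← Set.range_comp]
    rfl
  simp only [map_sum, smul_eq_mul, map_mul] at hf
  refine Ideal.sum_mem _ fun i _ => ?_
  rw [smul_eq_mul, pow_two]
  refine Ideal.mul_mem_mul ?_ (Ideal.subset_span ⟨i, rfl⟩)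
  have h1 := mem_maximalIdeal_of_sum_mem_sq _ hx hd _ hf i
  rw [← maximalIdeal_mvPowerSeries_field]
  exact fun hu => h1 (hu.map π)

section Lift

variable {k : Type v} {A : Type u} [Field k] [CommRing A] [IsLocalRing A] [Algebra k A]

/-- The lifting property defining formal smoothness for the adic topology, over a field of any universe. -/
def LiftsAdic (k : Type v) (A : Type u) [Field k] [CommRing A] [IsLocalRing A] [Algebra k A] : Prop :=
  ∀ (C : Type u) [CommRing C] [Algebra k C] (J : Ideal C), J ^ 2 = ⊥ → ∀ ψ : A →ₐ[k] C ⧸ J,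
    (∃ l : ℕ, ∀ x ∈ maximalIdeal A ^ l, ψ x = 0) →
      ∃ χ : A →ₐ[k] C, (Ideal.Quotient.mkₐ k J).comp χ = ψ

/-- Successive lifts into a complete ring. -/
theorem LiftsAdic.exists_lift_complete (h : LiftsAdic k A) {P : Type u} [CommRing P] [Algebra k P]
    (𝔫 : Ideal P) [IsAdicComplete 𝔫 P] (f₀ : A →ₐ[k] P ⧸ 𝔫 ^ 2)
    (hf₀ : ∀ x ∈ maximalIdeal A, f₀ x ∈ 𝔫.map (Ideal.Quotient.mk (𝔫 ^ 2))) :
    ∃ g : A →ₐ[k] P, ∀ x, Ideal.Quotient.mk (𝔫 ^ 2) (g x) = f₀ x := by
  let G : ℕ → Type u := fun n => { f : A →ₐ[k] P ⧸ 𝔫 ^ (n + 2) //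
    ∀ x ∈ maximalIdeal A, f x ∈ 𝔫.map (Ideal.Quotient.mk (𝔫 ^ (n + 2))) }
  have hs : ∀ n (f : G n), ∃ g : G (n + 1), ∀ x,
      Ideal.Quotient.factor (Ideal.pow_le_pow_right (Nat.le_succ (n + 2))) (g.1 x) = f.1 x := by
    intro n f
    have hle : 𝔫 ^ (n + 1 + 2) ≤ 𝔫 ^ (n + 2) := Ideal.pow_le_pow_right (Nat.le_succ _)
    let J : Ideal (P ⧸ 𝔫 ^ (n + 1 + 2)) := (𝔫 ^ (n + 2)).map (Ideal.Quotient.mk _)
    have hJ : J ^ 2 = ⊥ := by
      rw [← Ideal.map_pow, Ideal.map_eq_bot_iff_le_ker, Ideal.mk_ker, ← pow_mul]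
      exact Ideal.pow_le_pow_right (by omega)
    let e := DoubleQuot.quotQuotEquivQuotOfLEₐ k hle
    obtain ⟨v, hv⟩ := h _ J hJ (e.symm.toAlgHom.comp f.1) ⟨n + 2, fun x hx => by
      have h1 : (maximalIdeal A).map f.1 ≤ 𝔫.map (Ideal.Quotient.mk _) :=
        Ideal.map_le_iff_le_comap.2 f.2
      have h2 := Ideal.pow_right_mono h1 (n + 2)
      rw [← Ideal.map_pow, ← Ideal.map_pow, Ideal.map_quotient_self] at h2
      have h3 : f.1 x = 0 := h2 (Ideal.mem_map_of_mem f.1 hx)
      show e.symm (f.1 x) = 0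
      rw [h3, map_zero]⟩
    have hv' : ∀ x, Ideal.Quotient.factor hle (v x) = f.1 x := fun x => by
      have h1 : e ((Ideal.Quotient.mkₐ k J).comp v x) = e ((e.symm.toAlgHom.comp f.1) x) :=
        congrArg e (AlgHom.congr_fun hv x)
      rw [show e ((e.symm.toAlgHom.comp f.1) x) = f.1 x from e.apply_symm_apply _] at h1
      rw [← h1]
      obtain ⟨c, hc⟩ := Ideal.Quotient.mk_surjective (v x)
      rw [AlgHom.comp_apply, ← hc]
      rfl
    refine ⟨⟨v, fun x hx => ?_⟩, hv'⟩
    obtain ⟨c, hc⟩ := Ideal.Quotient.mk_surjective (v x)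
    have h1 := f.2 x hx
    rw [← hv', ← hc, Ideal.Quotient.factor_mk] at h1
    rw [← hc]
    exact Ideal.mem_map_of_mem _
      ((Ideal.mem_quotient_iff_mem (Ideal.pow_le_self (by omega))).1 h1)
  choose st hst using hs
  let F : ∀ n, G n := fun n => Nat.rec (motive := G) ⟨f₀, hf₀⟩ (fun n f => st n f) n
  have ha : StrictMono (fun n => n + 2) := fun _ _ h => Nat.add_lt_add_right h 2
  have hF : ∀ {m : ℕ}, (Ideal.Quotient.factorPow 𝔫 (ha.monotone m.le_succ)).comp (F (m + 1)).1.toRingHom
      = (F m).1.toRingHom := RingHom.ext fun x => hst _ (F _) x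
  let g := IsAdicComplete.StrictMono.liftRingHom 𝔫 ha (fun n => (F n).1.toRingHom) hF
  have hg : ∀ n x, Ideal.Quotient.mk (𝔫 ^ (n + 2)) (g x) = (F n).1 x := fun n x =>
    IsAdicComplete.StrictMono.mk_liftRingHom 𝔫 ha (fun n => (F n).1.toRingHom) hF x
  refine ⟨{ g with commutes' := fun c => ?_ }, hg 0⟩
  refine sub_eq_zero.1 (IsHausdorff.haus (I := 𝔫) inferInstance _ fun n => ?_)
  rw [SModEq.zero, smul_eq_mul, Ideal.mul_top]
  refine Ideal.pow_le_pow_right (Nat.le_add_right n 2) ?_
  rw [← Ideal.Quotient.eq_zero_iff_mem, map_sub, sub_eq_zero]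
  refine (hg n _).trans ?_
  rw [AlgHom.commutes]
  rfl

end Lift

theorem ker_evalₐ_eq_map {T : Type u} [CommRing T] (M : Ideal T) (m : ℕ) (hM : M.FG) :
    RingHom.ker (AdicCompletion.evalₐ M m).toRingHom =
      (M ^ m).map (algebraMap T (AdicCompletion M T)) := by
  refine le_antisymm (fun x hx => ?_) (Ideal.map_le_iff_le_comap.mpr fun y hy => ?_)
  · have h1 : x ∈ (M ^ m • ⊤ : Submodule T (AdicCompletion M T)) := by
      rw [AdicCompletion.pow_smul_top_eq_ker_eval hM, LinearMap.mem_ker]
      have hx' : AdicCompletion.evalₐ M m x = 0 := hx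
      rw [← AdicCompletion.factor_evalₐ_eq_eval (h := by simp), hx', map_zero]
    rw [Ideal.smul_top_eq_map] at h1
    exact h1
  · show AdicCompletion.evalₐ M m (algebraMap T (AdicCompletion M T) y) = 0
    rw [AlgHom.commutes, Ideal.Quotient.algebraMap_eq, Ideal.Quotient.eq_zero_iff_mem]
    exact hy

/-- The completion of a local ring, presented by power series over the residue field. -/
theorem exists_presentation (k : Type v) (A : Type u) [Field k] [CommRing A] [IsLocalRing A]
    [IsNoetherianRing A] [Algebra k A] [Algebra.FormallySmooth k (ResidueField A)] :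
    ∃ (_ : IsLocalRing (AdicCompletion (maximalIdeal A) A))
      (_ : IsNoetherianRing (AdicCompletion (maximalIdeal A) A))
      (_ : IsAdicComplete (maximalIdeal (AdicCompletion (maximalIdeal A) A))
        (AdicCompletion (maximalIdeal A) A))
      (d : ℕ) (π : MvPowerSeries (Fin d) (ResidueField A) →+* AdicCompletion (maximalIdeal A) A),
      Function.Surjective π ∧
      (maximalIdeal A).map (algebraMap A (AdicCompletion (maximalIdeal A) A)) =
        maximalIdeal (AdicCompletion (maximalIdeal A) A) ∧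
      (maximalIdeal (AdicCompletion (maximalIdeal A) A)).spanFinrank = d ∧
      (varsIdeal (ResidueField A) d).map π = maximalIdeal (AdicCompletion (maximalIdeal A) A) ∧
      (∀ c : k, π (MvPowerSeries.C (algebraMap k (ResidueField A) c)) =
        algebraMap A _ (algebraMap k A c)) ∧
      ∀ a : A, π (MvPowerSeries.C (residue A a)) - algebraMap A _ a ∈
        maximalIdeal (AdicCompletion (maximalIdeal A) A) := by
  obtain ⟨hl, hN, hlh, hm, hres⟩ :=
    completion_facts A (maximalIdeal A) (maximalIdeal.isMaximal A).ne_top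
  let R := AdicCompletion (maximalIdeal A) A
  have hc : IsAdicComplete (maximalIdeal R) R := by
    rw [← hm]
    exact (IsAdicComplete.map_algebraMap_iff _ _).2
      (AdicCompletion.isAdicComplete (M := A) (IsNoetherian.noetherian _))
  let f : ResidueField A →ₐ[k] R ⧸ maximalIdeal R :=
    { Ideal.quotientMap (maximalIdeal R) (algebraMap A R) (Ideal.map_le_iff_le_comap.1 hm.le) with
      commutes' := fun c => rfl }
  obtain ⟨σ, hσ⟩ := Algebra.FormallySmooth.exists_mkₐ_comp_eq_of_isAdicComplete f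
  obtain ⟨d, x, hd, hx⟩ : ∃ (d : ℕ) (x : Fin d → R), (maximalIdeal R).spanFinrank = d ∧
      Ideal.span (Set.range x) = maximalIdeal R := by
    have hfg : (maximalIdeal R).FG := IsNoetherian.noetherian _
    have hfin := Submodule.FG.finite_generators hfg
    have := hfin.fintype
    refine ⟨_, fun i => ((Fintype.equivFin (maximalIdeal R).generators).symm i).1, ?_, ?_⟩
    · rw [← Submodule.FG.generators_ncard hfg, Set.ncard_eq_toFinset_card', Set.toFinset_card]
    · conv_rhs => rw [← Submodule.span_generators (maximalIdeal R)]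
      congr 1
      ext y
      exact ⟨fun ⟨i, hi⟩ => hi ▸ ((Fintype.equivFin _).symm i).2,
        fun hy => ⟨Fintype.equivFin _ ⟨y, hy⟩, by simp⟩⟩
  let π := psHom (maximalIdeal R) σ.toRingHom x (fun i => hx ▸ Ideal.subset_span ⟨i, rfl⟩)
  have hπσ : ∀ a : A, π (MvPowerSeries.C (residue A a)) - algebraMap A R a ∈ maximalIdeal R := by
    intro a
    rw [psHom_C, ← Ideal.Quotient.eq_zero_iff_mem, map_sub, sub_eq_zero]
    exact AlgHom.congr_fun hσ (residue A a)
  have hmap : (varsIdeal (ResidueField A) d).map π = maximalIdeal R := by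
    rw [varsIdeal, Ideal.map_span, ← Set.range_comp, ← hx]
    congr 2
    funext i
    exact psHom_X _ _ _ _ i
  have := isAdicComplete_varsIdeal (n := d) (ResidueField A)
  refine ⟨hl, hN, hc, d, π, ?_, hm, hd, hmap, fun c => ?_, hπσ⟩
  · refine surjective_of_complete (I := maximalIdeal R) _ π hmap fun r => ?_
    obtain ⟨a, ha⟩ := hres r
    refine ⟨MvPowerSeries.C (residue A a), ?_⟩
    rw [← sub_sub_sub_cancel_right r _ (algebraMap A R a)]
    exact sub_mem ha (hπσ a)
  · rw [psHom_C]
    exact σ.commutes c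

/-- Formal smoothness gives power series completions. -/
theorem exists_equiv_of_liftsAdic {k : Type v} {A : Type u} [Field k] [CommRing A] [IsLocalRing A]
    [IsNoetherianRing A] [Algebra k A] [Algebra.FormallySmooth k (ResidueField A)] (h : LiftsAdic k A) :
    ∃ (n : ℕ) (e : AdicCompletion (maximalIdeal A) A ≃+* MvPowerSeries (Fin n) (ResidueField A)),
      ∀ c : k, e (algebraMap A (AdicCompletion (maximalIdeal A) A) (algebraMap k A c)) =
        MvPowerSeries.C (algebraMap k (ResidueField A) c) := by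
  obtain ⟨_, _, _, d, π, hπ, hm, hd, hmap, hπk, hπσ⟩ := exists_presentation k A
  let R := AdicCompletion (maximalIdeal A) A
  let P := MvPowerSeries (Fin d) (ResidueField A)
  let 𝔫 : Ideal P := varsIdeal (ResidueField A) d
  have := isAdicComplete_varsIdeal (n := d) (ResidueField A)
  have := isNoetherianRing_mvPowerSeries (n := d) (ResidueField A)
  let _ : Algebra k P := (MvPowerSeries.C.comp (algebraMap k (ResidueField A))).toAlgebra
  have hle : 𝔫 ^ 2 ≤ (maximalIdeal R ^ 2).comap π := by
    rw [← Ideal.map_le_iff_le_comap, Ideal.map_pow, hmap]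
  let q : P ⧸ 𝔫 ^ 2 →+* R ⧸ maximalIdeal R ^ 2 := Ideal.quotientMap _ π hle
  have hq : Function.Bijective q := by
    refine ⟨(injective_iff_map_eq_zero q).2 fun z hz => ?_, Ideal.quotientMap_surjective hπ⟩
    obtain ⟨f, rfl⟩ := Ideal.Quotient.mk_surjective z
    rw [Ideal.quotientMap_mk, Ideal.Quotient.eq_zero_iff_mem] at hz
    exact Ideal.Quotient.eq_zero_iff_mem.2 (mem_sq_of_map_mem_sq π hmap hd f hz)
  let qe := RingEquiv.ofBijective q hq
  let f₀' : A →+* P ⧸ 𝔫 ^ 2 :=
    qe.symm.toRingHom.comp ((Ideal.Quotient.mk (maximalIdeal R ^ 2)).comp (algebraMap A R))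
  have hf₀' : ∀ x p, Ideal.Quotient.mk (𝔫 ^ 2) p = f₀' x → π p - algebraMap A R x ∈ maximalIdeal R ^ 2 := by
    intro x p hp
    rw [← Ideal.Quotient.eq_zero_iff_mem, map_sub, sub_eq_zero]
    have h1 := congrArg qe hp
    rw [show qe (f₀' x) = Ideal.Quotient.mk _ (algebraMap A R x) from qe.apply_symm_apply _] at h1
    exact h1
  let f₀ : A →ₐ[k] P ⧸ 𝔫 ^ 2 :=
    { f₀' with
      commutes' := fun c => qe.injective (by
        show qe (qe.symm _) = qe (Ideal.Quotient.mk _ (MvPowerSeries.C (algebraMap k (ResidueField A) c)))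
        rw [qe.apply_symm_apply]
        show _ = Ideal.Quotient.mk _ (π _)
        rw [hπk]; rfl) }
  have hnu : ∀ p : P, π p ∈ maximalIdeal R → p ∈ 𝔫 := fun p hp => by
    show p ∈ varsIdeal _ _
    rw [← maximalIdeal_mvPowerSeries_field]
    exact fun hu => hp (hu.map π)
  obtain ⟨g, hg⟩ := h.exists_lift_complete 𝔫 f₀ fun x hx => by
    obtain ⟨p, hp⟩ := Ideal.Quotient.mk_surjective (f₀ x)
    rw [← hp]
    refine Ideal.mem_map_of_mem _ (hnu p ?_)
    have h1 := Ideal.pow_le_self two_ne_zero (hf₀' x p hp)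
    have h2 : algebraMap A R x ∈ maximalIdeal R := hm ▸ Ideal.mem_map_of_mem _ hx
    simpa using add_mem h1 h2
  have hgπ : ∀ x, π (g x) - algebraMap A R x ∈ maximalIdeal R ^ 2 := fun x => hf₀' x _ (hg x)
  have hgle : (maximalIdeal A).map g.toRingHom ≤ 𝔫 := Ideal.map_le_iff_le_comap.2 fun x hx =>
    hnu _ (by
      have h1 := add_mem (Ideal.pow_le_self two_ne_zero (hgπ x))
        (hm ▸ Ideal.mem_map_of_mem (algebraMap A R) hx : algebraMap A R x ∈ maximalIdeal R)
      rwa [sub_add_cancel] at h1)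
  let ψ : R →+* P := CompleteLib.completionLift (maximalIdeal A) 𝔫 g.toRingHom hgle
  have hψ : ∀ x, ψ (algebraMap A R x) = g x := CompleteLib.completionLift_algebraMap _ _ _ _
  have hψm : (maximalIdeal R).map ψ = 𝔫 := by
    refine le_antisymm ?_ ?_
    · rw [← hm, Ideal.map_map]
      refine (Ideal.map_le_iff_le_comap.2 fun x hx => ?_)
      show ψ (algebraMap A R x) ∈ 𝔫
      rw [hψ]
      exact hgle (Ideal.mem_map_of_mem g.toRingHom hx)
    · have hn : 𝔫 ≤ (maximalIdeal R).map ψ ⊔ 𝔫 • 𝔫 := by
        show Ideal.span _ ≤ _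
        rw [Ideal.span_le]
        rintro _ ⟨i, rfl⟩
        obtain ⟨y, hy⟩ : ∃ y ∈ maximalIdeal A,
            π (MvPowerSeries.X i) - algebraMap A R y ∈ maximalIdeal R ^ 2 := by
          obtain ⟨y, hy⟩ := Ideal.Quotient.mk_surjective
            (AdicCompletion.evalₐ (maximalIdeal A) 2 (π (MvPowerSeries.X i)))
          have h1 : π (MvPowerSeries.X i) - algebraMap A R y ∈ maximalIdeal R ^ 2 := by
            rw [← hm, ← Ideal.map_pow, ← ker_evalₐ_eq_map _ 2 (IsNoetherian.noetherian _),
              RingHom.mem_ker, map_sub]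
            show AdicCompletion.evalₐ _ 2 _ - AdicCompletion.evalₐ _ 2 (algebraMap A R y) = 0
            rw [AlgHom.commutes, ← hy]
            exact sub_self _
          refine ⟨y, ?_, h1⟩
          have h2 : π (MvPowerSeries.X i) ∈ maximalIdeal R :=
            hmap ▸ Ideal.mem_map_of_mem π (Ideal.subset_span ⟨i, rfl⟩)
          have h3 := sub_mem h2 (Ideal.pow_le_self two_ne_zero h1)
          rw [sub_sub_cancel] at h3
          exact fun hu => h3 (hu.map _)
        have h1 : MvPowerSeries.X i - g y ∈ 𝔫 ^ 2 := by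
          refine mem_sq_of_map_mem_sq π hmap hd _ ?_
          rw [map_sub, ← sub_sub_sub_cancel_right _ _ (algebraMap A R y)]
          exact sub_mem hy.2 (hgπ y)
        rw [SetLike.mem_coe, show MvPowerSeries.X i = g y + (MvPowerSeries.X i - g y) by rw [add_sub_cancel],
          smul_eq_mul, ← pow_two]
        refine Submodule.add_mem_sup ?_ h1
        rw [← hψ]
        exact Ideal.mem_map_of_mem ψ (hm ▸ Ideal.mem_map_of_mem _ hy.1)
      exact Submodule.le_of_le_smul_of_le_jacobson_bot (IsNoetherian.noetherian _)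
        (IsAdicComplete.le_jacobson_bot _) hn
  have hψs : Function.Surjective ψ := by
    refine surjective_of_complete (I := 𝔫) _ ψ hψm fun p => ?_
    obtain ⟨a, ha⟩ := residue_surjective (MvPowerSeries.constantCoeff p)
    refine ⟨algebraMap A R a, ?_⟩
    rw [hψ, ← sub_add_sub_cancel p (MvPowerSeries.C (residue A a))]
    refine add_mem ?_ (hnu _ ?_)
    · show _ ∈ varsIdeal _ _
      rw [← ker_constantCoeff, RingHom.mem_ker, map_sub, MvPowerSeries.constantCoeff_C, ha, sub_self]
    · rw [map_sub, ← sub_sub_sub_cancel_right _ _ (algebraMap A R a)]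
      exact sub_mem (hπσ a) (Ideal.pow_le_self two_ne_zero (hgπ a))
  have hinj : Function.Injective ψ :=
    Function.Injective.of_comp (f := π)
      (injective_of_surjective_ringEndo (π.comp ψ) (hπ.comp hψs))
  refine ⟨d, RingEquiv.ofBijective ψ ⟨hinj, hψs⟩, fun c => ?_⟩
  exact (hψ _).trans (g.commutes c)

theorem isRegularLocalRing_of_equiv {A L : Type u} [CommRing A] [IsLocalRing A] [IsNoetherianRing A]
    [Field L] {n : ℕ} (e : AdicCompletion (maximalIdeal A) A ≃+* MvPowerSeries (Fin n) L) :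
    IsRegularLocalRing A := by
  have := isRegularLocalRing_mvPowerSeries L n
  exact (isRegularLocalRing_adicCompletion_iff A _ (maximalIdeal.isMaximal A).ne_top).2
    (IsRegularLocalRing.of_ringEquiv e.symm)

theorem isRegularLocalRing_of_liftsAdic {k : Type v} {A : Type u} [Field k] [CommRing A] [IsLocalRing A]
    [IsNoetherianRing A] [Algebra k A] [Algebra.FormallySmooth k (ResidueField A)] (h : LiftsAdic k A) :
    IsRegularLocalRing A :=
  let ⟨_, e, _⟩ := exists_equiv_of_liftsAdic h
  isRegularLocalRing_of_equiv e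

/-- A regular local algebra with formally smooth residue field is formally smooth. -/
theorem liftsAdic_of_regular (k : Type v) (A : Type u) [Field k] [CommRing A] [IsRegularLocalRing A]
    [Algebra k A] [Algebra.FormallySmooth k (ResidueField A)] : LiftsAdic k A := by
  obtain ⟨_, _, _, d, π, hπ, hm, hd, hmap, hπk, -⟩ := exists_presentation k A
  let R := AdicCompletion (maximalIdeal A) A
  have : IsRegularLocalRing R :=
    (isRegularLocalRing_adicCompletion_iff A _ (maximalIdeal.isMaximal A).ne_top).1 inferInstance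
  let pe := RingEquiv.ofBijective π (bijective_of_regular _ π hπ hd)
  intro C _ _ J hJ ψ hψ
  obtain ⟨l, hl⟩ := hψ
  let ψR : R →+* C ⧸ J :=
    (Ideal.Quotient.lift _ ψ.toRingHom hl).comp (AdicCompletion.evalₐ (maximalIdeal A) l).toRingHom
  have hψR : ∀ a, ψR (algebraMap A R a) = ψ a := fun a => by
    show Ideal.Quotient.lift _ ψ.toRingHom hl (AdicCompletion.evalₐ _ l (algebraMap A R a)) = _
    rw [AlgHom.commutes]
    rfl
  have hψRle : (maximalIdeal R).map ψR ≤ (maximalIdeal A).map ψ.toRingHom := by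
    rw [← hm, Ideal.map_map]
    refine Ideal.map_le_iff_le_comap.2 fun a ha => ?_
    rw [Ideal.mem_comap, RingHom.comp_apply, hψR]
    exact Ideal.mem_map_of_mem ψ.toRingHom ha
  have hmlbot : (maximalIdeal A ^ l).map ψ.toRingHom = ⊥ :=
    (Ideal.map_eq_bot_iff_le_ker ψ.toRingHom).2 fun x hx => hl x hx
  have hψRm : ∀ z ∈ maximalIdeal R, ψR z ^ l = 0 := by
    intro z hz
    have h2 : ψR z ^ l ∈ (maximalIdeal A).map ψ.toRingHom ^ l :=
      Ideal.pow_mem_pow (hψRle (Ideal.mem_map_of_mem ψR hz)) l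
    rw [← Ideal.map_pow, hmlbot] at h2
    exact h2
  let φ : ResidueField A →ₐ[k] C ⧸ J :=
    { ψR.comp (π.comp MvPowerSeries.C) with
      commutes' := fun c => by
        show ψR (π (MvPowerSeries.C _)) = _
        rw [hπk, hψR, AlgHom.commutes] }
  let σ := Algebra.FormallySmooth.lift J ⟨2, hJ⟩ φ
  have hσ : ∀ c, Ideal.Quotient.mk J (σ c) = φ c := fun c => Algebra.FormallySmooth.mk_lift J ⟨2, hJ⟩ φ c
  choose y hy using fun i => Ideal.Quotient.mk_surjective (ψR (π (MvPowerSeries.X i)))
  let I : Ideal C := Ideal.span (Set.range y)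
  have hI : IsNilpotent I := by
    refine (Ideal.FG.isNilpotent_iff_le_nilradical (Submodule.fg_span (Set.finite_range y))).2 ?_
    rw [Ideal.span_le]
    rintro _ ⟨i, rfl⟩
    refine mem_nilradical.2 ⟨l * 2, ?_⟩
    have h1 : y i ^ l ∈ J := by
      rw [← Ideal.Quotient.eq_zero_iff_mem, map_pow, hy]
      exact hψRm _ (hmap ▸ Ideal.mem_map_of_mem π (Ideal.subset_span ⟨i, rfl⟩))
    have h2 := Ideal.pow_mem_pow h1 2
    rw [hJ, Ideal.mem_bot, ← pow_mul] at h2
    exact h2
  have := isAdicComplete_of_isNilpotent I hI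
  let χ := psHom I σ.toRingHom y fun i => Ideal.subset_span ⟨i, rfl⟩
  obtain ⟨N, hN⟩ := hI
  have heq : (Ideal.Quotient.mk J).comp χ = ψR.comp π := by
    refine ps_hom_ext _ _ (fun c => ?_) (fun i => ?_) (N + l) (fun f hf => ?_) fun f hf => ?_
    · rw [RingHom.comp_apply, psHom_C]
      exact hσ c
    · rw [RingHom.comp_apply, psHom_X, hy]
      rfl
    · have h2 : (varsIdeal (ResidueField A) d).map χ ≤ I := by
        rw [varsIdeal, Ideal.map_span χ, Ideal.span_le]
        rintro _ ⟨_, ⟨i, rfl⟩, rfl⟩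
        show χ _ ∈ I
        rw [psHom_X]
        exact Ideal.subset_span ⟨i, rfl⟩
      have h3 := Ideal.pow_right_mono h2 (N + l)
      rw [← Ideal.map_pow, pow_add I, hN, zero_mul] at h3
      have h4 : χ f = 0 := h3 (Ideal.mem_map_of_mem χ hf)
      rw [RingHom.comp_apply, h4, map_zero]
    · have h2 : (varsIdeal (ResidueField A) d).map (ψR.comp π) ≤ (maximalIdeal A).map ψ.toRingHom := by
        rw [← Ideal.map_map, hmap]
        exact hψRle
      have h3 := Ideal.pow_right_mono h2 (N + l)
      rw [← Ideal.map_pow, ← Ideal.map_pow, pow_add (maximalIdeal A)] at h3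
      have h4 : ((maximalIdeal A ^ N) * maximalIdeal A ^ l).map ψ.toRingHom = ⊥ :=
        eq_bot_mono (Ideal.map_mono Ideal.mul_le_right) hmlbot
      exact (h3.trans h4.le) (Ideal.mem_map_of_mem (ψR.comp π) hf)
  refine ⟨{ (χ.comp pe.symm.toRingHom).comp (algebraMap A R) with commutes' := fun c => ?_ },
    AlgHom.ext fun a => ?_⟩
  · show χ (pe.symm (algebraMap A R (algebraMap k A c))) = _
    rw [← hπk, show pe.symm (π _) = _ from pe.symm_apply_apply _, psHom_C]
    exact σ.commutes c
  · show Ideal.Quotient.mk J (χ (pe.symm (algebraMap A R a))) = _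
    rw [← RingHom.comp_apply (Ideal.Quotient.mk J) χ, heq, RingHom.comp_apply,
      show π (pe.symm _) = _ from pe.apply_symm_apply _, hψR]

end CohenLib
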