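import Groth.Agent.CohenLib.GeomRed
import Groth.Agent.CohenLib.SmoothLift
import Groth.Agent.CohenLib.PSLocal
import Groth.Agent.GonfLib.Residue
import Groth.Prelude.Def_EGA41
import Mathlib.RingTheory.AdicCompletion.RingHom

/-! Cohen algebras: formal smoothness, existence, uniqueness. -/

universe u

open IsLocalRing

namespace CohenLib

variable {A B : Type u} [CommRing A] [IsLocalRing A] [CommRing B] [IsLocalRing B]
  [Algebra A B] [IsLocalHom (algebraMap A B)]

theorem formallySmooth_quotient_of_cohen (hflat : Module.Flat A B)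
    (hm : (maximalIdeal A).map (algebraMap A B) = maximalIdeal B)
    [Algebra.IsGeometricallyReduced (ResidueField A) (ResidueField B)] (N : ℕ) (hN : 1 ≤ N)
    [Algebra (A ⧸ maximalIdeal A ^ N) (B ⧸ (maximalIdeal A ^ N).map (algebraMap A B))]
    (hcomm : ∀ a, algebraMap (A ⧸ maximalIdeal A ^ N) (B ⧸ (maximalIdeal A ^ N).map (algebraMap A B))
      (Ideal.Quotient.mk _ a) = Ideal.Quotient.mk _ (algebraMap A B a)) :
    Algebra.FormallySmooth (A ⧸ maximalIdeal A ^ N) (B ⧸ (maximalIdeal A ^ N).map (algebraMap A B)) := by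
  have hflat' : Module.Flat (A ⧸ maximalIdeal A ^ N) (B ⧸ (maximalIdeal A ^ N).map (algebraMap A B)) := by
    refine flat_of_surjective (R := A) (M := B) (Ideal.Quotient.mk (maximalIdeal A ^ N))
      Ideal.Quotient.mk_surjective
      (Ideal.Quotient.mk ((maximalIdeal A ^ N).map (algebraMap A B))).toAddMonoidHom
      Ideal.Quotient.mk_surjective (fun r x => ?_) fun x hx => ?_
    · show Ideal.Quotient.mk _ (r • x) = (Ideal.Quotient.mk _ r) • Ideal.Quotient.mk _ x
      rw [Algebra.smul_def, Algebra.smul_def, map_mul, hcomm]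
    · rw [Ideal.mk_ker, Ideal.smul_top_eq_map, Submodule.restrictScalars_mem]
      exact Ideal.Quotient.eq_zero_iff_mem.1 hx
  have : Algebra.FormallySmooth (ResidueField A) (ResidueField B) :=
    formallySmooth_of_isGeometricallyReduced _ _
  have hleA : maximalIdeal A ^ N ≤ maximalIdeal A := Ideal.pow_le_self (by omega)
  have hleB : (maximalIdeal A ^ N).map (algebraMap A B) ≤ maximalIdeal B := by
    rw [← hm]; exact Ideal.map_mono hleA
  refine formallySmooth_of_flat_of_quotient (R' := ResidueField A) (A' := ResidueField B)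
    (Ideal.Quotient.factor hleA) (Ideal.Quotient.factor_surjective _)
    (Ideal.Quotient.factor hleB) (Ideal.Quotient.factor_surjective _) ?_ ?_ ?_
  · refine Ideal.Quotient.ringHom_ext (RingHom.ext fun a => ?_)
    simp only [RingHom.comp_apply, hcomm, Ideal.Quotient.factor_mk]
    rfl
  · refine ⟨N, ?_⟩
    show (RingHom.ker (Ideal.Quotient.factor hleA)) ^ N = 0
    rw [Ideal.Quotient.factor_ker, ← Ideal.map_pow, Ideal.map_quotient_self]
    rfl
  · show RingHom.ker (Ideal.Quotient.factor hleB) =
      (RingHom.ker (Ideal.Quotient.factor hleA)).map (algebraMap _ _)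
    rw [Ideal.Quotient.factor_ker, Ideal.Quotient.factor_ker, Ideal.map_map,
      show (algebraMap (A ⧸ maximalIdeal A ^ N) (B ⧸ (maximalIdeal A ^ N).map (algebraMap A B))).comp
        (Ideal.Quotient.mk _) = (Ideal.Quotient.mk _).comp (algebraMap A B) from RingHom.ext hcomm,
      ← Ideal.map_map, hm]

/-- A Cohen algebra is formally smooth for the adic topologies. -/
theorem isFormallySmoothAdic_of_cohen (hflat : Module.Flat A B)
    (hm : (maximalIdeal A).map (algebraMap A B) = maximalIdeal B)
    [Algebra.IsGeometricallyReduced (ResidueField A) (ResidueField B)] :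
    EGA41.IsFormallySmoothAdic A (maximalIdeal A) B (maximalIdeal B) := by
  intro C _ _ J hJ hk u hl
  obtain ⟨k, hk⟩ := hk
  obtain ⟨l, hl⟩ := hl
  let N := k + l + 1
  let I := maximalIdeal A ^ N
  let _ : Algebra (A ⧸ I) (B ⧸ I.map (algebraMap A B)) :=
    (Ideal.quotientMap _ (algebraMap A B) Ideal.le_comap_map).toAlgebra
  have := formallySmooth_quotient_of_cohen hflat hm N (Nat.le_add_left 1 _) fun a => rfl
  let _ : Algebra (A ⧸ I) C := (Ideal.Quotient.lift I (algebraMap A C) fun a ha => by
    have h1 := Ideal.mem_map_of_mem (algebraMap A C)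
      (Ideal.pow_le_pow_right (show k ≤ N by omega) ha)
    rwa [hk, Ideal.mem_bot] at h1).toAlgebra
  let u₁ : B ⧸ I.map (algebraMap A B) →+* C ⧸ J := Ideal.Quotient.lift _ u.toRingHom fun b hb => by
    refine hl b (Ideal.pow_le_pow_right (show l ≤ N by omega) ?_)
    rw [← hm, ← Ideal.map_pow]
    exact hb
  let u₂ : B ⧸ I.map (algebraMap A B) →ₐ[A ⧸ I] C ⧸ J :=
    { u₁ with
      commutes' := fun z => by
        obtain ⟨a, rfl⟩ := Ideal.Quotient.mk_surjective z
        exact u.commutes a }
  obtain ⟨v, hv⟩ := Algebra.FormallySmooth.exists_lift J hJ u₂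
  refine ⟨{ v.toRingHom.comp (Ideal.Quotient.mk _) with
    commutes' := fun a => v.commutes (Ideal.Quotient.mk I a) }, AlgHom.ext fun b => ?_⟩
  exact AlgHom.congr_fun hv _

variable {B' : Type u} [CommRing B'] [IsLocalRing B'] [Algebra A B'] [IsLocalHom (algebraMap A B')]

/-- Lifting a residue map out of an adically formally smooth algebra. -/
theorem exists_lift_of_formallySmoothAdic
    (hfs : EGA41.IsFormallySmoothAdic A (maximalIdeal A) B (maximalIdeal B))
    [IsAdicComplete (maximalIdeal B') B'] (u : B →ₐ[A] ResidueField B')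
    (hu : ∀ x ∈ maximalIdeal B, u x = 0) :
    ∃ v : B →ₐ[A] B', ∀ x, residue B' (v x) = u x := by
  let G : ℕ → Type u := fun n => { f : B →ₐ[A] B' ⧸ maximalIdeal B' ^ (n + 1) //
    ∀ x, Ideal.Quotient.factor (Ideal.pow_le_self (Nat.succ_ne_zero n)) (f x) = u x }
  have h0 : Nonempty (G 0) := by
    refine ⟨⟨(Ideal.Quotient.factorₐ A (show maximalIdeal B' ≤ maximalIdeal B' ^ (0 + 1) by simp)).comp u,
      fun x => ?_⟩⟩
    obtain ⟨c, hc⟩ := Ideal.Quotient.mk_surjective (u x)
    show Ideal.Quotient.factor (Ideal.pow_le_self (Nat.succ_ne_zero 0))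
      (Ideal.Quotient.factor (show maximalIdeal B' ≤ maximalIdeal B' ^ (0 + 1) by simp) (u x)) = _
    rw [← hc]; rfl
  have hs : ∀ n (f : G n), ∃ g : G (n + 1), ∀ x,
      Ideal.Quotient.factor (Ideal.pow_le_pow_right (Nat.le_succ (n + 1))) (g.1 x) = f.1 x := by
    intro n f
    let C := B' ⧸ maximalIdeal B' ^ (n + 1 + 1)
    let J : Ideal C := (maximalIdeal B' ^ (n + 1)).map (Ideal.Quotient.mk _)
    have hle : maximalIdeal B' ^ (n + 1 + 1) ≤ maximalIdeal B' ^ (n + 1) :=
      Ideal.pow_le_pow_right (Nat.le_succ _)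
    have hJ : IsNilpotent J := by
      refine ⟨n + 1 + 1, ?_⟩
      rw [← Ideal.map_pow, Ideal.zero_eq_bot, Ideal.map_eq_bot_iff_le_ker, Ideal.mk_ker, ← pow_mul]
      exact Ideal.pow_le_pow_right (Nat.le_mul_of_pos_left _ (Nat.succ_pos n))
    have hmle : (maximalIdeal A).map (algebraMap A B') ≤ maximalIdeal B' :=
      Ideal.map_le_iff_le_comap.2 fun a ha hu => ha (isUnit_of_map_unit (algebraMap A B') a hu)
    have hk : ((maximalIdeal A ^ (n + 1 + 1)).map (algebraMap A C)) = ⊥ := by
      rw [IsScalarTower.algebraMap_eq A B' C, ← Ideal.map_map, Ideal.map_eq_bot_iff_le_ker]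
      refine le_trans ?_ Ideal.mk_ker.ge
      rw [Ideal.map_pow]
      exact Ideal.pow_right_mono hmle _
    let e : (C ⧸ J) ≃ₐ[A] (B' ⧸ maximalIdeal B' ^ (n + 1)) :=
      { DoubleQuot.quotQuotEquivQuotOfLE hle with commutes' := fun a => rfl }
    obtain ⟨v, hv⟩ := hfs C J hJ ⟨_, hk⟩ (e.symm.toAlgHom.comp f.1) ⟨n + 1, fun x hx => by
      have h1 : (maximalIdeal B).map f.1 ≤ (maximalIdeal B').map (Ideal.Quotient.mk _) := by
        rw [Ideal.map_le_iff_le_comap]
        intro y hy
        obtain ⟨c, hc⟩ := Ideal.Quotient.mk_surjective (f.1 y)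
        have h2 := f.2 y
        rw [hu y hy, ← hc, Ideal.Quotient.factor_mk] at h2
        replace h2 := Ideal.Quotient.eq_zero_iff_mem.1 h2
        rw [Ideal.mem_comap, ← hc]
        exact Ideal.mem_map_of_mem _ h2
      have h3 := Ideal.pow_right_mono h1 (n + 1)
      rw [← Ideal.map_pow, ← Ideal.map_pow, Ideal.map_quotient_self] at h3
      have h4 := h3 (Ideal.mem_map_of_mem f.1 hx)
      rw [Ideal.mem_bot] at h4
      show e.symm (f.1 x) = 0
      rw [h4, map_zero]⟩
    have hv' : ∀ x, Ideal.Quotient.factor hle (v x) = f.1 x := fun x => by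
      have h1 := congrArg e (AlgHom.congr_fun hv x)
      rw [show e ((e.symm.toAlgHom.comp f.1) x) = f.1 x from e.apply_symm_apply _] at h1
      rw [← h1]
      obtain ⟨c, hc⟩ := Ideal.Quotient.mk_surjective (v x)
      rw [← hc, AlgHom.comp_apply, ← hc]
      rfl
    refine ⟨⟨v, fun x => ?_⟩, hv'⟩
    rw [← f.2, ← hv', Ideal.Quotient.factor_comp_apply]
  choose st hst using hs
  let F : ∀ n, G n := fun n => Nat.rec (motive := G) h0.some (fun n f => st n f) n
  let f : ∀ n, B →+* B' ⧸ maximalIdeal B' ^ n := fun n =>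
    (Ideal.Quotient.factor (Ideal.pow_le_pow_right (Nat.le_succ n))).comp (F n).1.toRingHom
  have hF : ∀ {m n} (hle : m ≤ n) (x : B), Ideal.Quotient.factor (Ideal.pow_le_pow_right
      (Nat.succ_le_succ hle)) ((F n).1 x) = (F m).1 x := by
    intro m n hle
    induction hle with
    | refl =>
      intro x
      obtain ⟨c, hc⟩ := Ideal.Quotient.mk_surjective ((F m).1 x)
      simp [← hc]
    | @step n h ih =>
      intro x
      rw [← ih, ← hst n (F n) x, Ideal.Quotient.factor_comp_apply]
  have hf : ∀ {m n : ℕ} (hle : m ≤ n), (Ideal.Quotient.factorPow _ hle).comp (f n) = f m := by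
    intro m n hle
    refine RingHom.ext fun x => ?_
    show Ideal.Quotient.factor (Ideal.pow_le_pow_right hle)
      (Ideal.Quotient.factor (Ideal.pow_le_pow_right (Nat.le_succ n)) ((F n).1 x)) =
      Ideal.Quotient.factor (Ideal.pow_le_pow_right (Nat.le_succ m)) ((F m).1 x)
    rw [← hF hle, Ideal.Quotient.factor_comp_apply, Ideal.Quotient.factor_comp_apply]
  let v := IsAdicComplete.liftRingHom (maximalIdeal B') f hf
  refine ⟨{ v with commutes' := fun a => ?_ }, fun x => ?_⟩
  · refine sub_eq_zero.1 (IsHausdorff.haus (I := maximalIdeal B') inferInstance _ fun n => ?_)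
    rw [SModEq.zero, smul_eq_mul, Ideal.mul_top, ← Ideal.Quotient.eq_zero_iff_mem, map_sub, sub_eq_zero]
    refine (IsAdicComplete.mk_liftRingHom _ f hf n _).trans ?_
    show Ideal.Quotient.factor (Ideal.pow_le_pow_right (Nat.le_succ n)) ((F n).1 (algebraMap A B a)) = _
    rw [AlgHom.commutes]
    rfl
  · show residue B' (v x) = u x
    have h1 := IsAdicComplete.mk_liftRingHom _ f hf 1 x
    rw [← (F 1).2 x]
    have h2 := congrArg (Ideal.Quotient.factor (show maximalIdeal B' ^ 1 ≤ maximalIdeal B' by simp)) h1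
    rw [Ideal.Quotient.factor_mk] at h2
    refine h2.trans ?_
    show Ideal.Quotient.factor (show maximalIdeal B' ^ 1 ≤ maximalIdeal B' by simp)
      (Ideal.Quotient.factor (Ideal.pow_le_pow_right (Nat.le_succ 1)) ((F 1).1 x)) = _
    rw [Ideal.Quotient.factor_comp_apply]

/-- Two Cohen algebras with isomorphic residue fields are isomorphic. -/
theorem cohenAlgebra_unique (hB : EGA41.IsCohenAlgebra A B) (hB' : EGA41.IsCohenAlgebra A B')
    (e : ResidueField B ≃ₐ[ResidueField A] ResidueField B') : Nonempty (B ≃ₐ[A] B') := by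
  obtain ⟨-, hN, hc, hflat, hm, hg⟩ := hB
  obtain ⟨-, hN', hc', hflat', hm', hg'⟩ := hB'
  let r : B →ₐ[A] ResidueField B :=
    { residue B with commutes' := fun a => rfl }
  let r' : B' →ₐ[A] ResidueField B' :=
    { residue B' with commutes' := fun a => rfl }
  let eA : ResidueField B ≃ₐ[A] ResidueField B' :=
    { e.toRingEquiv with commutes' := fun a => e.commutes (residue A a) }
  obtain ⟨v, hv⟩ := exists_lift_of_formallySmoothAdic (B' := B') (isFormallySmoothAdic_of_cohen hflat hm)
    (eA.toAlgHom.comp r) fun x hx => by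
      show eA (residue B x) = 0
      rw [(residue_eq_zero_iff _).2 hx, map_zero]
  obtain ⟨w, hw⟩ := exists_lift_of_formallySmoothAdic (B' := B) (isFormallySmoothAdic_of_cohen hflat' hm')
    (eA.symm.toAlgHom.comp r') fun x hx => by
      show eA.symm (residue B' x) = 0
      rw [(residue_eq_zero_iff _).2 hx, map_zero]
  have surj : ∀ (D D' : Type u) [CommRing D] [IsLocalRing D] [CommRing D'] [IsLocalRing D']
      [Algebra A D] [Algebra A D'] [IsAdicComplete (maximalIdeal D) D]
      [IsAdicComplete (maximalIdeal D') D'],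
      (maximalIdeal A).map (algebraMap A D) = maximalIdeal D →
      (maximalIdeal A).map (algebraMap A D') = maximalIdeal D' → ∀ (f : D →ₐ[A] D'),
      Function.Surjective ((residue D').comp f.toRingHom) → Function.Surjective f := by
    intro D D' _ _ _ _ _ _ _ _ h h' f hf
    refine surjective_of_complete (maximalIdeal D') (maximalIdeal D) f.toRingHom ?_ fun x => ?_
    · rw [← h, Ideal.map_map, show f.toRingHom.comp (algebraMap A D) = algebraMap A D' from
        RingHom.ext f.commutes, h']
    · obtain ⟨c, hc⟩ := hf (residue D' x)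
      exact ⟨c, by rw [← residue_eq_zero_iff, map_sub, ← hc, RingHom.comp_apply, sub_self]⟩
  have hvs : Function.Surjective v := surj B B' hm hm' v fun x => by
    obtain ⟨y, hy⟩ := residue_surjective (eA.symm x)
    exact ⟨y, (hv y).trans (by show eA (residue B y) = x; rw [hy, eA.apply_symm_apply])⟩
  have hws : Function.Surjective w := surj B' B hm' hm w fun x => by
    obtain ⟨y, hy⟩ := residue_surjective (eA x)
    exact ⟨y, (hw y).trans (by show eA.symm (residue B' y) = x; rw [hy, eA.symm_apply_apply])⟩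
  have hinj : Function.Injective (w.comp v) :=
    injective_of_surjective_ringEndo (w.comp v).toRingHom (hws.comp hvs)
  exact ⟨AlgEquiv.ofBijective v ⟨fun a b hab => hinj (congrArg w hab), hvs⟩⟩

end CohenLib
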