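import Groth.Agent.CohenLib.FSOmega
import Mathlib.RingTheory.Filtration
import Mathlib.RingTheory.Finiteness.Cardinality
import Mathlib.RingTheory.OrzechProperty
import Mathlib.LinearAlgebra.TensorProduct.RightExactness
import Mathlib.RingTheory.TensorProduct.Finite

/-! Jacobian criterion for adic formal smoothness of a quotient. -/

set_option autoImplicit false

universe u

open TensorProduct KaehlerDifferential

namespace CohenLib

section Split

variable {A B C : Type u} [CommRing A] [CommRing B] [CommRing C] [Algebra A B] [Algebra B C]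
  (E : Type u) [CommRing E] [Algebra C E] [Algebra B E] [IsScalarTower B C E]
  [Algebra A E] [IsScalarTower A B E]

/-- The conormal map is split injective after base change iff a derivation splits it. -/
theorem split_conormal_iff :
    (∃ g : E ⊗[B] (C ⊗[B] Ω[B⁄A]) →ₗ[E] E ⊗[B] (RingHom.ker (algebraMap B C)).Cotangent,
      g ∘ₗ LinearMap.baseChange E (KaehlerDifferential.kerCotangentToTensor A B C) = LinearMap.id) ↔
    ∃ D : Derivation A B (E ⊗[B] (RingHom.ker (algebraMap B C)).Cotangent),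
      ∀ j : RingHom.ker (algebraMap B C), D j = (1 : E) ⊗ₜ[B] Ideal.toCotangent _ j := by
  constructor
  · rintro ⟨g, hg⟩
    refine ⟨((g.restrictScalars B).comp ((TensorProduct.mk B E (C ⊗[B] Ω[B⁄A]) 1).comp
      (TensorProduct.mk B C Ω[B⁄A] 1))).compDer (KaehlerDifferential.D A B), fun j => ?_⟩
    have h1 := LinearMap.congr_fun hg ((1 : E) ⊗ₜ[B] Ideal.toCotangent _ j)
    rw [LinearMap.comp_apply, LinearMap.baseChange_tmul, kerCotangentToTensor_toCotangent] at h1
    exact h1
  · rintro ⟨D, hD⟩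
    refine ⟨(D.liftKaehlerDifferential.liftBaseChange C |>.restrictScalars B).liftBaseChange E, ?_⟩
    refine TensorProduct.AlgebraTensorModule.ext fun e x => ?_
    obtain ⟨j, rfl⟩ := Ideal.toCotangent_surjective _ x
    rw [LinearMap.comp_apply, LinearMap.baseChange_tmul, kerCotangentToTensor_toCotangent,
      LinearMap.liftBaseChange_tmul, LinearMap.restrictScalars_apply, LinearMap.liftBaseChange_tmul,
      one_smul, Derivation.liftKaehlerDifferential_comp_D, hD, TensorProduct.smul_tmul', smul_eq_mul, mul_one]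
    rfl

variable {E} {E' : Type u} [CommRing E'] [Algebra C E'] [Algebra B E'] [IsScalarTower B C E']
  [Algebra A E'] [IsScalarTower A B E']

theorem mul_eq_zero_of_mem_ker (j : RingHom.ker (algebraMap B C)) (x : E' ⊗[B] (RingHom.ker (algebraMap B C)).Cotangent) :
    (j : B) • x = 0 := by
  rw [← IsScalarTower.algebraMap_smul E' (j : B) x, IsScalarTower.algebraMap_apply B C E',
    show algebraMap B C (j : B) = 0 from j.2, map_zero, zero_smul]

/-- A splitting derivation lifts along a nilpotent surjection when the differentials are projective. -/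
theorem exists_derivation_lift [IsNoetherianRing B] (π : E' →ₐ[B] E) (hπ : Function.Surjective π)
    (hnil : IsNilpotent (RingHom.ker π.toRingHom)) [Module.Projective E' (E' ⊗[B] Ω[B⁄A])]
    (D : Derivation A B (E ⊗[B] (RingHom.ker (algebraMap B C)).Cotangent))
    (hD : ∀ j : RingHom.ker (algebraMap B C), D j = (1 : E) ⊗ₜ[B] Ideal.toCotangent _ j) :
    ∃ D' : Derivation A B (E' ⊗[B] (RingHom.ker (algebraMap B C)).Cotangent),
      ∀ j : RingHom.ker (algebraMap B C), D' j = (1 : E') ⊗ₜ[B] Ideal.toCotangent _ j := by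
  let _ : Algebra E' E := π.toRingHom.toAlgebra
  have : IsScalarTower B E' E := IsScalarTower.of_algebraMap_eq fun b => (π.commutes b).symm
  let M := (RingHom.ker (algebraMap B C)).Cotangent
  let p : E' ⊗[B] M →ₗ[E'] E ⊗[B] M :=
    TensorProduct.AlgebraTensorModule.map (Algebra.linearMap E' E) (LinearMap.id : M →ₗ[B] M)
  have hp : Function.Surjective p := fun z => by
    induction z using TensorProduct.induction_on with
    | zero => exact ⟨0, map_zero _⟩
    | add x y hx hy =>
      obtain ⟨x', rfl⟩ := hx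
      obtain ⟨y', rfl⟩ := hy
      exact ⟨x' + y', map_add _ _ _⟩
    | tmul q m =>
      obtain ⟨q', rfl⟩ := hπ q
      refine ⟨q' ⊗ₜ m, ?_⟩
      rw [TensorProduct.AlgebraTensorModule.map_tmul]
      rfl
  let l : E' ⊗[B] Ω[B⁄A] →ₗ[E'] E ⊗[B] M := D.liftKaehlerDifferential.liftBaseChange E'
  obtain ⟨l', hl'⟩ := Module.projective_lifting_property p l hp
  let D₁ : Derivation A B (E' ⊗[B] M) :=
    ((l'.restrictScalars B).comp (TensorProduct.mk B E' Ω[B⁄A] 1)).compDer (KaehlerDifferential.D A B)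
  have hD₁ : ∀ b, p (D₁ b) = D b := fun b => by
    show p (l' ((1 : E') ⊗ₜ KaehlerDifferential.D A B b)) = _
    rw [← LinearMap.comp_apply, hl', LinearMap.liftBaseChange_tmul, one_smul,
      Derivation.liftKaehlerDifferential_comp_D]
  let f₀ : RingHom.ker (algebraMap B C) →ₗ[B] E' ⊗[B] M :=
    { toFun := fun j => D₁ (j : B)
      map_add' := fun x y => by rw [Submodule.coe_add, map_add]
      map_smul' := fun c x => by
        rw [RingHom.id_apply, Submodule.coe_smul, smul_eq_mul, Derivation.leibniz, mul_eq_zero_of_mem_ker x,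
          add_zero] }
  have hf₀ : ∀ x y : RingHom.ker (algebraMap B C), f₀ (x * y) = 0 := fun x y => by
    show D₁ ((x : B) * (y : B)) = 0
    rw [Derivation.leibniz, mul_eq_zero_of_mem_ker x, mul_eq_zero_of_mem_ker y, add_zero]
  let e : E' ⊗[B] M →ₗ[E'] E' ⊗[B] M :=
    (Ideal.Cotangent.lift f₀ hf₀).liftBaseChange E'
  have he : ∀ x, p (e x) = p x := by
    intro x
    induction x using TensorProduct.induction_on with
    | zero => simp
    | add x y hx hy => rw [map_add, map_add, map_add, hx, hy]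
    | tmul q m =>
      obtain ⟨j, rfl⟩ := Ideal.toCotangent_surjective _ m
      rw [LinearMap.liftBaseChange_tmul, Ideal.Cotangent.lift_toCotangent, map_smul,
        show f₀ j = D₁ (j : B) from rfl, hD₁, hD]
      show q • ((1 : E) ⊗ₜ[B] _) = (Algebra.linearMap E' E q) ⊗ₜ[B] _
      rw [TensorProduct.smul_tmul', Algebra.smul_def, mul_one]
      rfl
  have hesurj : Function.Surjective e := by
    rw [← LinearMap.range_eq_top, eq_top_iff]
    obtain ⟨N, hN⟩ := hnil
    let Qb : Ideal E' := RingHom.ker π.toRingHom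
    have h1 : (⊤ : Submodule E' (E' ⊗[B] M)) ≤ LinearMap.range e ⊔ Qb • ⊤ := by
      rintro x -
      rw [show x = e x + (x - e x) by rw [add_sub_cancel]]
      refine Submodule.add_mem_sup ⟨x, rfl⟩ ?_
      have hx : p (x - e x) = 0 := by rw [map_sub, he, sub_self]
      let ιQ : (Qb.restrictScalars B) →ₗ[B] E' := (Qb.restrictScalars B).subtype
      have hex : Function.Exact ιQ π.toLinearMap := by
        intro y
        constructor
        · exact fun hy => ⟨⟨y, hy⟩, rfl⟩
        · rintro ⟨y, rfl⟩; exact y.2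
      obtain ⟨y, hy⟩ := (rTensor_exact M hex hπ (x - e x)).1 hx
      rw [← hy]
      clear hy
      induction y using TensorProduct.induction_on with
      | zero => simp
      | add a b ha hb => rw [map_add]; exact add_mem ha hb
      | tmul q m =>
        rw [LinearMap.rTensor_tmul, show ιQ q ⊗ₜ[B] m = (q : E') • ((1 : E') ⊗ₜ[B] m) by
          rw [TensorProduct.smul_tmul', smul_eq_mul, mul_one]; rfl]
        exact Submodule.smul_mem_smul q.2 trivial
    have h2 : ∀ j : ℕ, (⊤ : Submodule E' (E' ⊗[B] M)) ≤ LinearMap.range e ⊔ Qb ^ j • ⊤ := by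
      intro j
      induction j with
      | zero => simp
      | succ j ih =>
        refine h1.trans (sup_le le_sup_left ?_)
        refine (Submodule.smul_mono le_rfl ih).trans ?_
        rw [Submodule.smul_sup, ← mul_smul, ← pow_succ']
        exact sup_le (Submodule.smul_le_right.trans le_sup_left) le_sup_right
    refine (h2 N).trans ?_
    rw [hN]
    simp
  have : Module.Finite B (RingHom.ker (algebraMap B C)) :=
    Module.Finite.of_fg (IsNoetherian.noetherian _)
  have : Module.Finite B M := Module.Finite.of_surjective _ (Ideal.toCotangent_surjective _)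
  let ee := LinearEquiv.ofBijective e (OrzechProperty.bijective_of_surjective_endomorphism e hesurj)
  refine ⟨(ee.symm.toLinearMap.restrictScalars B).compDer D₁, fun j => ?_⟩
  show ee.symm (D₁ (j : B)) = _
  rw [LinearEquiv.symm_apply_eq]
  show D₁ (j : B) = e _
  rw [LinearMap.liftBaseChange_tmul, one_smul, Ideal.Cotangent.lift_toCotangent]
  rfl

end Split

/-- Formal smoothness of a quotient gives a splitting derivation. -/
theorem exists_split_derivation {A B : Type u} [CommRing A] [CommRing B] [Algebra A B] [IsNoetherianRing B]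
    (I J : Ideal B) (Q : Ideal (B ⧸ J)) (hQ : ∃ n : ℕ, (I.map (Ideal.Quotient.mk J)) ^ n ≤ Q)
    (h : CAlgX.IsAdicFormallySmooth A (B ⧸ J) (I.map (Ideal.Quotient.mk J))) :
    ∃ D : Derivation A B (((B ⧸ J) ⧸ Q) ⊗[B] (RingHom.ker (algebraMap B (B ⧸ J))).Cotangent),
      ∀ j : RingHom.ker (algebraMap B (B ⧸ J)),
        D j = (1 : (B ⧸ J) ⧸ Q) ⊗ₜ[B] Ideal.toCotangent _ j := by
  let T := ((B ⧸ J) ⧸ Q) ⊗[B] (RingHom.ker (algebraMap B (B ⧸ J))).Cotangent
  let J' : Ideal B := RingHom.ker (algebraMap B (B ⧸ J))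
  have hJJ' : J' = J := Ideal.mk_ker
  let Qt : Ideal B := Q.comap (Ideal.Quotient.mk J)
  have hJQ : J' ≤ Qt := fun x hx => by
    show Ideal.Quotient.mk J x ∈ Q
    rw [show Ideal.Quotient.mk J x = 0 from hx]
    exact zero_mem _
  obtain ⟨n, hn⟩ := hQ
  obtain ⟨c, hc⟩ := Ideal.exists_pow_inf_eq_pow_smul I J'
  have hAR : I ^ (c + n) ⊓ J' ≤ Qt * J' := by
    have h1 := hc (c + n) (Nat.le_add_right c n)
    simp only [smul_eq_mul, Ideal.mul_top, add_tsub_cancel_left] at h1
    rw [h1]
    refine mul_le_mul' ?_ inf_le_right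
    rw [← Ideal.map_pow, Ideal.map_le_iff_le_comap] at hn
    exact hn
  let K : Ideal B := Qt * J' ⊔ I ^ (c + n)
  let N : Ideal (B ⧸ K) := J'.map (Ideal.Quotient.mk K)
  have hN : N ^ 2 = ⊥ := by
    rw [← Ideal.map_pow, Ideal.map_eq_bot_iff_le_ker, Ideal.mk_ker, pow_two]
    exact (mul_le_mul' hJQ le_rfl).trans le_sup_left
  have hg : ∀ x ∈ J, ((Ideal.Quotient.mk N).comp (Ideal.Quotient.mk K)) x = 0 := fun x hx => by
    rw [RingHom.comp_apply, Ideal.Quotient.eq_zero_iff_mem]
    exact Ideal.mem_map_of_mem _ (hJJ'.ge hx)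
  let ψ : B ⧸ J →ₐ[A] (B ⧸ K) ⧸ N :=
    { Ideal.Quotient.lift J _ hg with commutes' := fun a => rfl }
  obtain ⟨χ, hχ⟩ := h _ N hN ψ ⟨c + n, fun x hx => by
    rw [← Ideal.map_pow] at hx
    obtain ⟨y, hy, rfl⟩ := (Ideal.mem_map_iff_of_surjective _ Ideal.Quotient.mk_surjective).1 hx
    show Ideal.Quotient.mk N (Ideal.Quotient.mk K y) = 0
    rw [Ideal.Quotient.eq_zero_iff_mem.2 (Submodule.mem_sup_right hy : y ∈ K), map_zero]⟩
  have hδ : ∀ x, Ideal.Quotient.mk K x - χ (Ideal.Quotient.mk J x) ∈ N := fun x => by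
    rw [← Ideal.Quotient.eq_zero_iff_mem, map_sub, sub_eq_zero,
      show Ideal.Quotient.mk N (χ _) = ψ _ from AlgHom.congr_fun hχ _]
    rfl
  let δ' : B →ₗ[A] N :=
    { toFun := fun x => ⟨_, hδ x⟩
      map_add' := fun x y => Subtype.ext (by simp [map_add, add_sub_add_comm])
      map_smul' := fun a x => Subtype.ext (by
        show Ideal.Quotient.mk K (a • x) - χ (Ideal.Quotient.mk J (a • x)) =
          a • (Ideal.Quotient.mk K x - χ (Ideal.Quotient.mk J x))
        rw [← Ideal.Quotient.mkₐ_eq_mk A, ← Ideal.Quotient.mkₐ_eq_mk A, map_smul, map_smul,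
          map_smul, smul_sub]) }
  let δ : Derivation A B N := Derivation.mk' δ' fun x y => Subtype.ext (by
    show Ideal.Quotient.mk K (x * y) - χ (Ideal.Quotient.mk J (x * y)) =
      x • (Ideal.Quotient.mk K y - χ (Ideal.Quotient.mk J y)) +
        y • (Ideal.Quotient.mk K x - χ (Ideal.Quotient.mk J x))
    rw [Algebra.smul_def, Algebra.smul_def, Ideal.Quotient.algebraMap_eq, map_mul, map_mul, map_mul]
    have h1 := Ideal.mul_mem_mul (hδ x) (hδ y)
    rw [← pow_two, hN, Ideal.mem_bot] at h1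
    linear_combination -h1)
  let p : J' →ₗ[B] N :=
    { toFun := fun j => ⟨Ideal.Quotient.mk K j, Ideal.mem_map_of_mem _ j.2⟩
      map_add' := fun x y => Subtype.ext (map_add _ _ _)
      map_smul' := fun b x => Subtype.ext (by
        show Ideal.Quotient.mk K ((b • x : J') : B) = b • Ideal.Quotient.mk K (x : B)
        rw [Algebra.smul_def, Submodule.coe_smul, smul_eq_mul, map_mul]
        rfl) }
  have hp : Function.Surjective p := by
    rintro ⟨y, hy⟩
    obtain ⟨x, hx, rfl⟩ := (Ideal.mem_map_iff_of_surjective _ Ideal.Quotient.mk_surjective).1 hy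
    exact ⟨⟨x, hx⟩, rfl⟩
  let f : J' →ₗ[B] T :=
    (TensorProduct.mk B ((B ⧸ J) ⧸ Q) J'.Cotangent 1).comp J'.toCotangent
  have hker : LinearMap.ker p ≤ LinearMap.ker f := by
    intro j hj
    have hjK : (j : B) ∈ K := Ideal.Quotient.eq_zero_iff_mem.1 (congrArg Subtype.val hj)
    obtain ⟨a, ha, b, hb, hab⟩ := Submodule.mem_sup.1 hjK
    have hjQ : (j : B) ∈ Qt * J' := by
      rw [← hab]
      refine add_mem ha (hAR ⟨hb, ?_⟩)
      rw [show b = (j : B) - a from (eq_sub_iff_add_eq'.2 hab)]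
      exact sub_mem j.2 (Ideal.mul_le_right ha)
    have h1 : j ∈ Qt • (⊤ : Submodule B J') := by
      have h2 : (j : B) ∈ Submodule.map J'.subtype (Qt • ⊤) := by
        rw [Submodule.map_smul'', Submodule.map_top, Submodule.range_subtype]
        exact hjQ
      obtain ⟨i, hi, hij⟩ := h2
      rwa [Subtype.ext hij] at hi
    refine Submodule.smul_induction_on h1 (fun q hq y _ => ?_) fun a b ha hb => add_mem ha hb
    rw [LinearMap.mem_ker, map_smul, show f y = (1 : (B ⧸ J) ⧸ Q) ⊗ₜ[B] J'.toCotangent y from rfl,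
      ← IsScalarTower.algebraMap_smul ((B ⧸ J) ⧸ Q) q,
      show algebraMap B ((B ⧸ J) ⧸ Q) q = 0 from Ideal.Quotient.eq_zero_iff_mem.2 hq]
    exact zero_smul ((B ⧸ J) ⧸ Q) (((1 : (B ⧸ J) ⧸ Q) ⊗ₜ[B] J'.toCotangent y : T))
  let s : N →ₗ[B] T :=
    ((LinearMap.ker p).liftQ f hker).comp (LinearMap.quotKerEquivOfSurjective p hp).symm.toLinearMap
  refine ⟨s.compDer δ, fun j => ?_⟩
  have h1 : δ (j : B) = p j := Subtype.ext (by
    show Ideal.Quotient.mk K (j : B) - χ (Ideal.Quotient.mk J (j : B)) = _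
    rw [show Ideal.Quotient.mk J (j : B) = 0 from j.2, map_zero, sub_zero]
    rfl)
  show s (δ (j : B)) = _
  rw [h1, show s (p j) = (LinearMap.ker p).liftQ f hker ((LinearMap.quotKerEquivOfSurjective p hp).symm (p j)) from rfl,
    LinearMap.quotKerEquivOfSurjective_symm_apply, Submodule.liftQ_apply]
  rfl

/-- A splitting derivation modulo an ideal of definition gives formal smoothness of the quotient. -/
theorem isAdicFormallySmooth_quotient_of_split {A B : Type u} [CommRing A] [CommRing B] [Algebra A B]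
    [IsNoetherianRing B] (I J : Ideal B) (hB : CAlgX.IsAdicFormallySmooth A B I) (Q : Ideal (B ⧸ J))
    (hQ : ∃ n : ℕ, (I.map (Ideal.Quotient.mk J)) ^ n ≤ Q) (hQ' : ∃ m : ℕ, Q ^ m ≤ I.map (Ideal.Quotient.mk J))
    (hD : ∃ D : Derivation A B (((B ⧸ J) ⧸ Q) ⊗[B] (RingHom.ker (algebraMap B (B ⧸ J))).Cotangent),
      ∀ j : RingHom.ker (algebraMap B (B ⧸ J)),
        D j = (1 : (B ⧸ J) ⧸ Q) ⊗ₜ[B] Ideal.toCotangent _ j) :
    CAlgX.IsAdicFormallySmooth A (B ⧸ J) (I.map (Ideal.Quotient.mk J)) := by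
  intro R _ _ N hN ψ hψ
  obtain ⟨k, hk⟩ := hψ
  obtain ⟨n, hn⟩ := hQ
  obtain ⟨m, hm⟩ := hQ'
  obtain ⟨D, hD⟩ := hD
  let J' : Ideal B := RingHom.ker (algebraMap B (B ⧸ J))
  let i := m * k + 1
  have hQi : Q ^ i ≤ Q := Ideal.pow_le_self (Nat.succ_ne_zero _)
  let E' := (B ⧸ J) ⧸ Q ^ i
  let 𝔄 : Ideal B := RingHom.ker (algebraMap B E')
  have h𝔄 : I ^ (n * i) ≤ 𝔄 := fun x hx => by
    show algebraMap B E' x = 0
    refine Ideal.Quotient.eq_zero_iff_mem.2 ?_
    have h1 : (I ^ (n * i)).map (Ideal.Quotient.mk J) ≤ Q ^ i := by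
      rw [Ideal.map_pow, pow_mul]
      exact Ideal.pow_right_mono hn i
    exact h1 (Ideal.mem_map_of_mem _ hx)
  have hsurj : Function.Surjective (algebraMap B E') :=
    Ideal.Quotient.mk_surjective.comp Ideal.Quotient.mk_surjective
  have : Module.Projective E' (E' ⊗[B] Ω[B⁄A]) := by
    have := projective_kaehler_mod_open (⊥ : Ideal A) I ⟨1, by simp⟩
      ((isFormallySmoothAdic_bot_iff I).1 hB) 𝔄 ⟨_, h𝔄⟩
    let _ : Algebra (B ⧸ 𝔄) E' := (Ideal.Quotient.lift 𝔄 (algebraMap B E') (fun x hx => hx)).toAlgebra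
    have : IsScalarTower B (B ⧸ 𝔄) E' := IsScalarTower.of_algebraMap_eq fun _ => rfl
    exact Module.Projective.of_equiv
      (TensorProduct.AlgebraTensorModule.cancelBaseChange B (B ⧸ 𝔄) E' E' Ω[B⁄A])
  let π : E' →ₐ[B] (B ⧸ J) ⧸ Q := Ideal.Quotient.factorₐ B hQi
  have hπnil : IsNilpotent (RingHom.ker π.toRingHom) := by
    refine ⟨i, ?_⟩
    rw [show RingHom.ker π.toRingHom = Q.map (Ideal.Quotient.mk (Q ^ i)) from Ideal.Quotient.factor_ker hQi,
      ← Ideal.map_pow, Ideal.map_quotient_self]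
    rfl
  obtain ⟨D', hD'⟩ := exists_derivation_lift π (Ideal.Quotient.factor_surjective hQi) hπnil D hD
  obtain ⟨φ, hφ⟩ := hB R N hN (ψ.comp (Ideal.Quotient.mkₐ A J)) ⟨k, fun x hx => hk _ (by
    rw [← Ideal.map_pow]; exact Ideal.mem_map_of_mem _ hx)⟩
  have hφ' : ∀ b, Ideal.Quotient.mk N (φ b) = ψ (Ideal.Quotient.mk J b) := fun b => AlgHom.congr_fun hφ b
  let _ : Algebra B R := φ.toRingHom.toAlgebra
  have h0 : ∀ x ∈ N, ∀ y ∈ N, x * y = 0 := fun x hx y hy => by
    have h1 := Ideal.mul_mem_mul hx hy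
    rwa [← pow_two, hN, Ideal.mem_bot] at h1
  have hann : ∀ q ∈ 𝔄, φ q ∈ N := fun q hq => by
    rw [← Ideal.Quotient.eq_zero_iff_mem, hφ']
    refine hk _ ?_
    have h1 : Ideal.Quotient.mk J q ∈ Q ^ i := Ideal.Quotient.eq_zero_iff_mem.1 hq
    have h2 : Q ^ i ≤ (I.map (Ideal.Quotient.mk J)) ^ k := by
      refine (Ideal.pow_le_pow_right (Nat.le_succ (m * k))).trans ?_
      rw [pow_mul]
      exact Ideal.pow_right_mono hm k
    exact h2 h1
  have hJN : ∀ j : J', φ (j : B) ∈ N := fun j => by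
    rw [← Ideal.Quotient.eq_zero_iff_mem, hφ', show Ideal.Quotient.mk J (j : B) = 0 from j.2, map_zero]
  let f₀ : J' →ₗ[B] N :=
    { toFun := fun j => ⟨φ (j : B), hJN j⟩
      map_add' := fun x y => Subtype.ext (map_add φ _ _)
      map_smul' := fun b x => Subtype.ext (map_mul φ _ _) }
  let Φ₀ : J'.Cotangent →ₗ[B] N := Ideal.Cotangent.lift f₀ fun x y => Subtype.ext (by
    show φ ((x : B) * (y : B)) = 0
    rw [map_mul]
    exact h0 _ (hJN x) _ (hJN y))
  let Φ₁ : B →ₗ[B] (J'.Cotangent →ₗ[B] N) := LinearMap.toSpanSingleton B _ Φ₀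
  have hΦ₁ : LinearMap.ker (Algebra.linearMap B E') ≤ LinearMap.ker Φ₁ := fun q hq => by
    refine LinearMap.ext fun w => Subtype.ext ?_
    show φ q * (Φ₀ w : R) = 0
    exact h0 _ (hann q hq) _ (Φ₀ w).2
  let Φ : E' ⊗[B] J'.Cotangent →ₗ[B] N := TensorProduct.lift
    (((LinearMap.ker (Algebra.linearMap B E')).liftQ Φ₁ hΦ₁).comp
      (LinearMap.quotKerEquivOfSurjective (Algebra.linearMap B E') hsurj).symm.toLinearMap)
  have hΦ : ∀ j : J', (Φ ((1 : E') ⊗ₜ[B] J'.toCotangent j) : R) = φ (j : B) := fun j => by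
    rw [TensorProduct.lift.tmul, LinearMap.comp_apply, ← map_one (algebraMap B E')]
    show (((LinearMap.ker (Algebra.linearMap B E')).liftQ Φ₁ hΦ₁
      ((LinearMap.quotKerEquivOfSurjective (Algebra.linearMap B E') hsurj).symm
        (Algebra.linearMap B E' 1))) (J'.toCotangent j) : R) = _
    rw [LinearMap.quotKerEquivOfSurjective_symm_apply, Submodule.liftQ_apply]
    show (((1 : B) • Φ₀) (J'.toCotangent j) : R) = _
    rw [one_smul, Ideal.Cotangent.lift_toCotangent]
    rfl
  let d : B → R := fun b => (Φ (D' b) : R)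
  have hd : ∀ b, d b ∈ N := fun b => (Φ (D' b)).2
  have hdmul : ∀ a b, d (a * b) = φ a * d b + φ b * d a := fun a b => by
    show (Φ (D' (a * b)) : R) = _
    rw [Derivation.leibniz, map_add, map_smul, map_smul]
    rfl
  let χ₀ : B →ₐ[A] R :=
    { toFun := fun b => φ b - d b
      map_one' := by
        show φ 1 - (Φ (D' 1) : R) = 1
        rw [Derivation.map_one_eq_zero, map_zero, map_one, Submodule.coe_zero, sub_zero]
      map_zero' := by
        show φ 0 - (Φ (D' 0) : R) = 0
        rw [map_zero, map_zero, map_zero, Submodule.coe_zero, sub_zero]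
      map_add' := fun a b => by
        show φ (a + b) - (Φ (D' (a + b)) : R) = φ a - d a + (φ b - d b)
        rw [map_add, map_add, map_add, Submodule.coe_add]
        exact add_sub_add_comm _ _ _ _
      map_mul' := fun a b => by
        rw [map_mul, hdmul]
        linear_combination -(h0 _ (hd a) _ (hd b))
      commutes' := fun a => by
        show φ (algebraMap A B a) - (Φ (D' (algebraMap A B a)) : R) = _
        rw [Derivation.map_algebraMap, map_zero, Submodule.coe_zero, sub_zero, AlgHom.commutes] }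
  have hχ₀ : ∀ x ∈ J, χ₀ x = 0 := fun x hx => by
    have hx' : x ∈ J' := Ideal.Quotient.eq_zero_iff_mem.2 hx
    show φ x - (Φ (D' x) : R) = 0
    rw [hD' ⟨x, hx'⟩, hΦ ⟨x, hx'⟩, sub_self]
  refine ⟨Ideal.Quotient.liftₐ J χ₀ hχ₀, AlgHom.ext fun x => ?_⟩
  obtain ⟨b, rfl⟩ := Ideal.Quotient.mk_surjective x
  show Ideal.Quotient.mk N (φ b - d b) = _
  rw [map_sub, hφ', Ideal.Quotient.eq_zero_iff_mem.2 (hd b), sub_zero]

end CohenLib
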