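import Groth.Agent.CohenLib.FSRegular
import Groth.Agent.CohenLib.FSField
import Mathlib.RingTheory.Kaehler.JacobiZariski
import Mathlib.RingTheory.Kaehler.Basic
import Mathlib.Algebra.TrivSqZeroExt.Ideal

/-! Subfields of formally smooth local algebras are separable. -/

set_option autoImplicit false

universe u v w

open IsLocalRing TensorProduct

namespace CohenLib

/-- Derivation extension criterion. -/
theorem formallySmooth_of_derivation_extends (P : Type w) {k : Type u} {K : Type u} [Field P] [PerfectField P]
    [Field k] [Field K] [Algebra P k] [Algebra P K] [Algebra k K] [IsScalarTower P k K]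
    (h : ∀ D : Derivation P k K, ∃ D' : Derivation P K K, ∀ c, D' (algebraMap k K c) = D c) :
    Algebra.FormallySmooth k K := by
  have : Algebra.FormallySmooth P K := Groth.Agent.PerfectFieldLib.formallySmooth_of_perfectField P K
  have : Module.Projective K Ω[K⁄k] := inferInstance
  have hinj : Function.Injective (KaehlerDifferential.mapBaseChange P k K) := by
    rw [injective_iff_map_eq_zero]
    intro z hz
    refine (Module.forall_dual_apply_eq_zero_iff K z).1 fun φ => ?_
    let D : Derivation P k K :=
      ((φ.restrictScalars k).comp (TensorProduct.mk k K Ω[k⁄P] 1)).compDer (KaehlerDifferential.D P k)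
    obtain ⟨D', hD'⟩ := h D
    have h1 : φ = D'.liftKaehlerDifferential.comp (KaehlerDifferential.mapBaseChange P k K) := by
      refine TensorProduct.AlgebraTensorModule.ext fun a w => ?_
      have hw : w ∈ Submodule.span k (Set.range (KaehlerDifferential.D P k)) := by
        rw [KaehlerDifferential.span_range_derivation]
        trivial
      induction hw using Submodule.span_induction with
      | mem y hy =>
        obtain ⟨c, rfl⟩ := hy
        rw [LinearMap.comp_apply, KaehlerDifferential.mapBaseChange_tmul, KaehlerDifferential.map_D,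
          map_smul, Derivation.liftKaehlerDifferential_comp_D, hD']
        show φ (a ⊗ₜ KaehlerDifferential.D P k c) = a • φ ((1 : K) ⊗ₜ KaehlerDifferential.D P k c)
        rw [← map_smul, TensorProduct.smul_tmul', smul_eq_mul, mul_one]
      | zero => simp
      | add x y _ _ hx hy => rw [TensorProduct.tmul_add, map_add, map_add, hx, hy]
      | smul c x _ hx =>
        rw [TensorProduct.tmul_smul, LinearMap.map_smul_of_tower, LinearMap.map_smul_of_tower, hx]
    rw [h1, LinearMap.comp_apply, hz, map_zero]
  refine (Algebra.formallySmooth_iff k K).2 ⟨inferInstance, ⟨fun x y => ?_⟩⟩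
  suffices hz : ∀ z : Algebra.H1Cotangent k K, z = 0 by rw [hz x, hz y]
  intro z
  have h1 : Algebra.H1Cotangent.δ P k K z = 0 := hinj (by
    rw [(Algebra.H1Cotangent.exact_δ_mapBaseChange P k K).apply_apply_eq_zero, map_zero])
  obtain ⟨w, rfl⟩ := (Algebra.H1Cotangent.exact_map_δ P k K z).1 h1
  rw [Subsingleton.elim w 0, map_zero]

/-- Derivations of the base extend to subfields of formally smooth local algebras. -/
theorem LiftsAdic.derivation_extends {P : Type w} {k A K : Type u} [Field P] [Field k] [Field K]
    [CommRing A] [IsLocalRing A] [Algebra P k] [Algebra P K] [Algebra k A] [Algebra k K] [Algebra K A]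
    [IsScalarTower k K A] [IsScalarTower P k K] (h : LiftsAdic k A) (D : Derivation P k K) :
    ∃ D' : Derivation P K K, ∀ c, D' (algebraMap k K c) = D c := by
  let ι : K →+* (ResidueField A) := (residue A).comp (algebraMap K A)
  obtain ⟨r, hr⟩ := (Algebra.linearMap K (ResidueField A)).exists_leftInverse_of_injective
    (LinearMap.ker_eq_bot.2 ι.injective)
  have hr' : ∀ x : K, r (ι x) = x := fun x => LinearMap.congr_fun hr x
  let χ₀ : k →+* (TrivSqZeroExt (ResidueField A) (ResidueField A)) :=
    { toFun := fun c => TrivSqZeroExt.inl (ι (algebraMap k K c)) + TrivSqZeroExt.inr (ι (D c))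
      map_one' := by ext <;> simp
      map_zero' := by ext <;> simp
      map_add' := fun a b => by ext <;> simp
      map_mul' := fun a b => by
        ext
        · simp
        · simp only [Derivation.leibniz, Algebra.smul_def, map_add, map_mul, TrivSqZeroExt.snd_add,
            TrivSqZeroExt.snd_inl, TrivSqZeroExt.snd_inr, TrivSqZeroExt.snd_mul, TrivSqZeroExt.fst_add,
            TrivSqZeroExt.fst_inl, TrivSqZeroExt.fst_inr, zero_add, add_zero, op_smul_eq_smul, smul_eq_mul, Algebra.algebraMap_self, RingHom.id_apply] }
  let _ : Algebra k (TrivSqZeroExt (ResidueField A) (ResidueField A)) := χ₀.toAlgebra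
  let f : (TrivSqZeroExt (ResidueField A) (ResidueField A)) →+* (ResidueField A) := (TrivSqZeroExt.fstHom (ResidueField A) (ResidueField A) (ResidueField A)).toRingHom
  let J : Ideal (TrivSqZeroExt (ResidueField A) (ResidueField A)) := RingHom.ker f
  have hJ : J ^ 2 = ⊥ := by
    rw [pow_two, eq_bot_iff, Ideal.mul_le]
    intro a ha b hb
    have ha' : a.fst = 0 := ha
    have hb' : b.fst = 0 := hb
    rw [Ideal.mem_bot]
    ext <;> simp [ha', hb']
  let e : (TrivSqZeroExt (ResidueField A) (ResidueField A)) ⧸ J ≃+* (ResidueField A) :=
    RingHom.quotientKerEquivOfSurjective (f := f) (fun a => ⟨TrivSqZeroExt.inl a, rfl⟩)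
  let ψ : A →ₐ[k] (TrivSqZeroExt (ResidueField A) (ResidueField A)) ⧸ J :=
    { e.symm.toRingHom.comp (residue A) with
      commutes' := fun c => e.injective (by
        show e (e.symm (residue A (algebraMap k A c))) = e (Ideal.Quotient.mk J (χ₀ c))
        rw [RingEquiv.apply_symm_apply]
        show _ = f (χ₀ c)
        rw [IsScalarTower.algebraMap_apply k K A c]
        simp [f, χ₀, ι]) }
  obtain ⟨χ, hχ⟩ := h (TrivSqZeroExt (ResidueField A) (ResidueField A)) J hJ ψ ⟨1, fun x hx => by
    rw [pow_one] at hx
    show e.symm (residue A x) = 0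
    rw [(residue_eq_zero_iff x).2 hx, map_zero]⟩
  have hfst : ∀ x : K, (χ (algebraMap K A x)).fst = ι x := fun x => by
    have h1 := congrArg e (AlgHom.congr_fun hχ (algebraMap K A x))
    rw [show e (ψ (algebraMap K A x)) = ι x from e.apply_symm_apply _] at h1
    exact h1
  have hk : ∀ c : k, (χ (algebraMap K A (algebraMap k K c))).snd = ι (D c) := fun c => by
    rw [← IsScalarTower.algebraMap_apply, AlgHom.commutes]
    simp [χ₀, RingHom.algebraMap_toAlgebra]
  let g : K → K := fun x => r ((χ (algebraMap K A x)).snd)
  have hg : ∀ c, g (algebraMap k K c) = D c := fun c => by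
    show r _ = _
    rw [hk, hr']
  have hadd : ∀ x y, g (x + y) = g x + g y := fun x y => by
    show r _ = r _ + r _
    rw [map_add (algebraMap K A), map_add χ, TrivSqZeroExt.snd_add, map_add]
  have hmul : ∀ x y, g (x * y) = x * g y + y * g x := fun x y => by
    show r _ = _ * r _ + _ * r _
    rw [map_mul (algebraMap K A), map_mul χ, TrivSqZeroExt.snd_mul, map_add, hfst, hfst,
      op_smul_eq_smul, ← smul_eq_mul x, ← smul_eq_mul y, ← map_smul, ← map_smul]
    simp [ι, Algebra.smul_def, IsScalarTower.algebraMap_apply K A (ResidueField A)]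
  refine ⟨Derivation.mk' { toFun := g, map_add' := hadd, map_smul' := fun p x => ?_ } fun x y => hmul x y, hg⟩
  rw [RingHom.id_apply, Algebra.smul_def, Algebra.smul_def, hmul, IsScalarTower.algebraMap_apply P k K, hg,
    Derivation.map_algebraMap, mul_zero, add_zero]

theorem isGeometricallyReduced_subfield {k A K : Type u} [Field k] [Field K] [CommRing A] [IsLocalRing A]
    [Algebra k A] [Algebra k K] [Algebra K A] [IsScalarTower k K A] (h : LiftsAdic k A) :
    Algebra.IsGeometricallyReduced k K := by
  suffices Algebra.FormallySmooth k K from isGeometricallyReduced_of_formallySmooth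
  obtain _ | ⟨p, hp, hpk⟩ := CharP.exists' k
  · let _ : Algebra ℚ K := ((algebraMap k K).comp (algebraMap ℚ k)).toAlgebra
    have : IsScalarTower ℚ k K := IsScalarTower.of_algebraMap_eq fun _ => rfl
    exact formallySmooth_of_derivation_extends ℚ fun D => h.derivation_extends D
  · let _ : Algebra (ZMod p) k := (ZMod.castHom (dvd_refl p) k).toAlgebra
    let _ : Algebra (ZMod p) K := ((algebraMap k K).comp (algebraMap (ZMod p) k)).toAlgebra
    have : IsScalarTower (ZMod p) k K := IsScalarTower.of_algebraMap_eq fun _ => rfl
    exact formallySmooth_of_derivation_extends (ZMod p) fun D => h.derivation_extends D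

end CohenLib
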