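import Groth.Agent.CohenLib.DerExt
import Groth.Agent.CommAlgDim.DerivField
import Groth.Agent.CommAlgDim.Integral
import Mathlib.RingTheory.AdjoinRoot
import Mathlib.FieldTheory.KummerPolynomial
import Mathlib.FieldTheory.IntermediateField.Adjoin.Basic
import Mathlib.FieldTheory.IsAlgClosed.AlgebraicClosure
import Mathlib.RingTheory.IntegralClosure.IntegralRestrict

/-! Regularity after radicial extensions forces derivations to extend. -/

set_option autoImplicit false

universe u

open IsLocalRing Polynomial TensorProduct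

namespace CohenLib

/-- An element killed by all derivations into the residue field is a `p`-th power modulo `m²`. -/
theorem exists_sub_pow_mem_sq {R : Type u} [CommRing R] [IsLocalRing R] [IsNoetherianRing R] (p : ℕ)
    [Fact p.Prime] {k : Type u} [Field k] [Algebra k R] [CharP k p] (c : R)
    (hc : ∀ D : Derivation ℤ R (ResidueField R), D c = 0) :
    ∃ b : R, c - b ^ p ∈ maximalIdeal R ^ 2 := by
  have : CharP (ResidueField R) p := charP_of_injective_algebraMap (algebraMap k (ResidueField R)).injective p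
  obtain ⟨b₀, hb₀⟩ : ∃ b : ResidueField R, b ^ p = residue R c := by
    by_contra hne
    push Not at hne
    obtain ⟨χ, hχ, hχc⟩ := CommAlgDim.exists_derivation_one (ResidueField R) p (residue R c) hne
    let D : Derivation ℤ R (ResidueField R) := Derivation.mk'
      (AddMonoidHom.toIntLinearMap
        { toFun := fun x => TrivSqZeroExt.snd (χ (residue R x))
          map_zero' := by simp
          map_add' := fun x y => by simp }) fun x y => by
        show TrivSqZeroExt.snd (χ (residue R (x * y))) =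
          residue R x * TrivSqZeroExt.snd (χ (residue R y)) + residue R y * TrivSqZeroExt.snd (χ (residue R x))
        rw [map_mul, map_mul, TrivSqZeroExt.snd_mul, hχ, hχ, op_smul_eq_smul, smul_eq_mul, smul_eq_mul]
    exact one_ne_zero (hχc.symm.trans (hc D))
  obtain ⟨b, rfl⟩ := residue_surjective b₀
  refine ⟨b, ?_⟩
  let m := maximalIdeal R
  have ht : c - b ^ p ∈ m := by
    rw [← residue_eq_zero_iff, map_sub, map_pow, hb₀, sub_self]
  let k0 := ZMod p
  let _ : Algebra k0 R := ((algebraMap k R).comp (ZMod.castHom (dvd_refl p) k)).toAlgebra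
  let _ : Algebra k0 (R ⧸ m ^ 2) := ((Ideal.Quotient.mk (m ^ 2)).comp (algebraMap k0 R)).toAlgebra
  have hsq : m ^ 2 ≤ maximalIdeal R := Ideal.pow_le_self two_ne_zero
  let π : (R ⧸ m ^ 2) →ₐ[k0] ResidueField R :=
    { Ideal.Quotient.factor (show m ^ 2 ≤ maximalIdeal R from Ideal.pow_le_self two_ne_zero) with commutes' := fun _ => rfl }
  have hπs : Function.Surjective π := Ideal.Quotient.factor_surjective (Ideal.pow_le_self two_ne_zero)
  have hπn : IsNilpotent (RingHom.ker π.toRingHom) := by
    refine ⟨2, ?_⟩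
    rw [show RingHom.ker π.toRingHom = m.map (Ideal.Quotient.mk (m ^ 2)) from
      Ideal.Quotient.factor_ker hsq, ← Ideal.map_pow, Ideal.map_quotient_self]
    rfl
  have : Algebra.FormallySmooth k0 (ResidueField R) :=
    Groth.Agent.PerfectFieldLib.formallySmooth_of_perfectField k0 (ResidueField R)
  obtain ⟨σ, hσ⟩ : ∃ σ : ResidueField R →ₐ[k0] (R ⧸ m ^ 2), π.comp σ = AlgHom.id k0 (ResidueField R) :=
    ⟨Algebra.FormallySmooth.liftOfSurjective (AlgHom.id k0 (ResidueField R)) π hπs hπn,
      Algebra.FormallySmooth.comp_liftOfSurjective _ π hπs hπn⟩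
  let d : R → R ⧸ m ^ 2 := fun x => Ideal.Quotient.mk (m ^ 2) x - σ (residue R x)
  have hd : ∀ x, d x ∈ m.cotangentIdeal := fun x => by
    have h1 : π (d x) = 0 := by
      show π (_ - _) = _
      rw [map_sub, ← AlgHom.comp_apply, hσ]
      exact sub_self _
    obtain ⟨y, hy⟩ := Ideal.Quotient.mk_surjective (d x)
    rw [← hy] at h1
    change Ideal.Quotient.factor hsq (Ideal.Quotient.mk (m ^ 2) y) = 0 at h1
    rw [Ideal.Quotient.factor_mk, Ideal.Quotient.eq_zero_iff_mem] at h1
    rw [← hy]
    exact Ideal.mk_mem_cotangentIdeal.2 h1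
  let dC : R → CotangentSpace R := fun x => m.cotangentEquivIdeal.symm ⟨d x, hd x⟩
  have hdC : ∀ x, m.cotangentToQuotientSquare (dC x) = d x := fun x => by
    have h1 := congrArg Subtype.val (m.cotangentEquivIdeal.apply_symm_apply ⟨d x, hd x⟩)
    rwa [Ideal.cotangentEquivIdeal_apply] at h1
  have hinj := m.cotangentToQuotientSquare_injective
  let D : Derivation ℤ R (CotangentSpace R) := Derivation.mk'
    (AddMonoidHom.toIntLinearMap
      { toFun := dC
        map_zero' := hinj (by rw [hdC, map_zero]; simp [d])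
        map_add' := fun x y => hinj (by rw [map_add, hdC, hdC, hdC]; simp [d]; ring) })
    fun x y => hinj (by
      show m.cotangentToQuotientSquare (dC (x * y)) = m.cotangentToQuotientSquare (x • dC y + y • dC x)
      rw [map_add, map_smul, map_smul, hdC, hdC, hdC, Algebra.smul_def, Algebra.smul_def,
        Ideal.Quotient.algebraMap_eq]
      have h1 : d x * d y = 0 := by
        have h2 := Ideal.mul_mem_mul (hd x) (hd y)
        rw [← pow_two, Ideal.cotangentIdeal_square, Ideal.mem_bot] at h2
        exact h2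
      simp only [d, map_mul] at h1 ⊢
      linear_combination -h1)
  have hDc : D c = 0 := (Module.forall_dual_apply_eq_zero_iff (ResidueField R) _).1 fun f =>
    hc ((f.restrictScalars R).compDer D)
  have hDb : D (b ^ p) = 0 := by
    rw [Derivation.leibniz_pow, ← smul_assoc, nsmul_eq_mul,
      show (p : R) = 0 by rw [← map_natCast (algebraMap k R), CharP.cast_eq_zero, map_zero], zero_mul, zero_smul]
  have hDt : D (c - b ^ p) = 0 := by rw [map_sub, hDc, hDb, sub_zero]
  have hdt : d (c - b ^ p) = 0 := by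
    rw [← hdC, show dC (c - b ^ p) = 0 from hDt, map_zero]
  change _ - σ (residue R (c - b ^ p)) = 0 at hdt
  rw [(residue_eq_zero_iff _).2 ht, map_zero, sub_zero] at hdt
  exact Ideal.Quotient.eq_zero_iff_mem.1 hdt

/-- Adjoining a `p`-th root of an element congruent to a `p`-th power modulo `m²` destroys regularity. -/
theorem not_isRegularLocalRing_adjoinRoot {R : Type u} [CommRing R] [IsRegularLocalRing R] (p : ℕ)
    (hp : p.Prime) (hchar : (p : R) = 0) (c b : R) (hb : c - b ^ p ∈ maximalIdeal R ^ 2)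
    [IsLocalRing (AdjoinRoot (X ^ p - Polynomial.C c))] :
    ¬ IsRegularLocalRing (AdjoinRoot (X ^ p - Polynomial.C c)) := by
  classical
  intro hR'
  let R' := AdjoinRoot (X ^ p - Polynomial.C c)
  have : IsDomain R := CommAlgDim.isDomain_of_isRegularLocalRing R
  have hmon : (X ^ p - Polynomial.C c).Monic := monic_X_pow_sub_C c hp.ne_zero
  have : Module.Finite R R' := hmon.finite_adjoinRoot
  have : Algebra.IsIntegral R R' := Algebra.IsIntegral.of_finite R R'
  have hinj : Function.Injective (algebraMap R R') := by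
    refine AdjoinRoot.of.injective_of_degree_ne_zero ?_
    rw [degree_X_pow_sub_C hp.pos]
    exact_mod_cast hp.ne_zero
  have hd : (maximalIdeal R').spanFinrank = (maximalIdeal R).spanFinrank := by
    have h1 := CommAlgDim.ringKrullDim_eq_of_integral R R' hinj
    rw [← (isRegularLocalRing_iff R').1 hR', ← (isRegularLocalRing_iff R).1 inferInstance] at h1
    exact_mod_cast h1
  let m := maximalIdeal R
  let L := ResidueField R
  let T := TrivSqZeroExt (R ⧸ m ^ 2) L
  let _ : Algebra (R ⧸ m ^ 2) L := (Ideal.Quotient.factor (show m ^ 2 ≤ maximalIdeal R from Ideal.pow_le_self two_ne_zero) : R ⧸ m ^ 2 →+* L).toAlgebra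
  let _ : Module (R ⧸ m ^ 2)ᵐᵒᵖ L := Module.compHom L (RingEquiv.toOpposite (R ⧸ m ^ 2)).symm.toRingHom
  have : IsCentralScalar (R ⧸ m ^ 2) L := ⟨fun _ _ => rfl⟩
  let q := Ideal.Quotient.mk (m ^ 2)
  let ι : R →+* T := (TrivSqZeroExt.inlHom (R ⧸ m ^ 2) L).comp q
  have hTp : ((TrivSqZeroExt.inl (q b) : T) + TrivSqZeroExt.inr (1 : L)) ^ p = TrivSqZeroExt.inl (q c) := by
    refine TrivSqZeroExt.ext ?_ ?_
    · rw [TrivSqZeroExt.fst_pow, TrivSqZeroExt.fst_add, TrivSqZeroExt.fst_inl, TrivSqZeroExt.fst_inr, add_zero,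
        TrivSqZeroExt.fst_inl, ← map_pow, eq_comm, Ideal.Quotient.eq]
      exact hb
    · rw [TrivSqZeroExt.snd_pow, TrivSqZeroExt.snd_inl, ← Nat.cast_smul_eq_nsmul (R ⧸ m ^ 2) p,
        show ((p : ℕ) : R ⧸ m ^ 2) = 0 by rw [← map_natCast q, hchar, map_zero], zero_smul]
  let ρ : R' →+* T := AdjoinRoot.lift ι (TrivSqZeroExt.inl (q b) + TrivSqZeroExt.inr (1 : L)) (by
    rw [eval₂_sub, eval₂_X_pow, eval₂_C, hTp]
    exact sub_self _)
  let f : R' →+* R ⧸ m ^ 2 := (TrivSqZeroExt.fstHom (R ⧸ m ^ 2) (R ⧸ m ^ 2) L).toRingHom.comp ρ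
  have hρof : ∀ a : R, ρ (AdjoinRoot.of _ a) = TrivSqZeroExt.inl (q a) := fun a => AdjoinRoot.lift_of _
  have hρroot : ρ (AdjoinRoot.root _) = TrivSqZeroExt.inl (q b) + TrivSqZeroExt.inr (1 : L) :=
    AdjoinRoot.lift_root _
  have hfof : ∀ a : R, f (AdjoinRoot.of _ a) = q a := fun a => by
    show TrivSqZeroExt.fst (ρ _) = _
    rw [hρof, TrivSqZeroExt.fst_inl]
  have hfs : Function.Surjective f := fun z => by
    obtain ⟨a, rfl⟩ := Ideal.Quotient.mk_surjective z
    exact ⟨_, hfof a⟩
  have hne : m ^ 2 ≠ ⊤ := fun h =>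
    (maximalIdeal.isMaximal R).ne_top (top_le_iff.1 (h ▸ Ideal.pow_le_self two_ne_zero))
  have : Nontrivial (R ⧸ m ^ 2) := Ideal.Quotient.nontrivial_iff.2 hne
  have : IsLocalRing (R ⧸ m ^ 2) := IsLocalRing.of_surjective' q Ideal.Quotient.mk_surjective
  have hfm : (maximalIdeal R').map f = m.map q := by
    rw [IsLocalRing.map_maximalIdeal_of_surjective f hfs,
      IsLocalRing.map_maximalIdeal_of_surjective q Ideal.Quotient.mk_surjective]
  obtain ⟨n, g, hn, hg⟩ : ∃ (n : ℕ) (g : Fin n → R'), (maximalIdeal R').spanFinrank = n ∧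
      Ideal.span (Set.range g) = maximalIdeal R' := by
    have hfg : (maximalIdeal R').FG := IsNoetherian.noetherian _
    have hfin := Submodule.FG.finite_generators hfg
    have := hfin.fintype
    refine ⟨_, fun i => ((Fintype.equivFin (maximalIdeal R').generators).symm i).1, ?_, ?_⟩
    · rw [← Submodule.FG.generators_ncard hfg, Set.ncard_eq_toFinset_card', Set.toFinset_card]
    · conv_rhs => rw [← Submodule.span_generators (maximalIdeal R')]
      congr 1
      ext y
      exact ⟨fun ⟨i, hi⟩ => hi ▸ ((Fintype.equivFin _).symm i).2,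
        fun hy => ⟨Fintype.equivFin _ ⟨y, hy⟩, by simp⟩⟩
  choose a ha using fun i => Ideal.Quotient.mk_surjective (f (g i))
  have ham : ∀ i, a i ∈ m := fun i => by
    have h1 : q (a i) ∈ m.map q := by
      rw [← hfm, show q (a i) = f (g i) from ha i]
      exact Ideal.mem_map_of_mem f (hg ▸ Ideal.subset_span ⟨i, rfl⟩)
    exact (Ideal.mem_quotient_iff_mem (Ideal.pow_le_self two_ne_zero)).1 h1
  have hspan : Ideal.span (Set.range a) = m := by
    refine le_antisymm (Ideal.span_le.2 (by rintro _ ⟨i, rfl⟩; exact ham i)) ?_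
    refine Submodule.le_of_le_smul_of_le_jacobson_bot (IsNoetherian.noetherian _) (maximalIdeal_le_jacobson _) ?_
    intro x hx
    have h1 : q x ∈ (Ideal.span (Set.range a)).map q := by
      rw [Ideal.map_span, ← Set.range_comp, show (q ∘ a) = f ∘ g from funext ha, Set.range_comp,
        ← Ideal.map_span, hg, hfm]
      exact Ideal.mem_map_of_mem q hx
    rwa [Ideal.mem_quotient_iff_mem_sup, pow_two, ← smul_eq_mul] at h1
  have hY : AdjoinRoot.root _ - AdjoinRoot.of _ b ∈ maximalIdeal R' := by
    intro hu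
    have h1 := hu.map f
    rw [show f (AdjoinRoot.root _ - AdjoinRoot.of _ b) = 0 by
      rw [map_sub, hfof]
      show TrivSqZeroExt.fst (ρ _) - _ = _
      rw [hρroot, TrivSqZeroExt.fst_add, TrivSqZeroExt.fst_inl, TrivSqZeroExt.fst_inr, add_zero, sub_self]] at h1
    exact not_isUnit_zero h1
  rw [← hg] at hY
  obtain ⟨r, hr⟩ := (Submodule.mem_span_range_iff_exists_fun _).1 hY
  choose s hs using fun i => Ideal.Quotient.mk_surjective (f (r i))
  have hval := congrArg ρ hr
  rw [map_sum, map_sub, hρroot, hρof, add_sub_cancel_left] at hval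
  have hfstv := congrArg TrivSqZeroExt.fst hval
  rw [TrivSqZeroExt.fst_inr, TrivSqZeroExt.fst_sum] at hfstv
  have hs2 : ∑ i, s i * a i ∈ m ^ 2 := by
    rw [← Ideal.Quotient.eq_zero_iff_mem, map_sum, ← hfstv]
    refine Finset.sum_congr rfl fun i _ => ?_
    rw [map_mul, hs, ha, smul_eq_mul, map_mul, TrivSqZeroExt.fst_mul]
    rfl
  have hsm : ∀ i, s i ∈ m := mem_maximalIdeal_of_sum_mem_sq a hspan (hd.symm.trans hn) s hs2
  have hsndv := congrArg TrivSqZeroExt.snd hval
  rw [TrivSqZeroExt.snd_inr, TrivSqZeroExt.snd_sum] at hsndv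
  refine one_ne_zero (α := L) (hsndv.symm.trans (Finset.sum_eq_zero fun i _ => ?_))
  have hkill : ∀ x ∈ m, ∀ l : L, (q x) • l = 0 := fun x hx l => by
    show residue R x * l = 0
    rw [(residue_eq_zero_iff x).2 hx, zero_mul]
  rw [smul_eq_mul, map_mul, TrivSqZeroExt.snd_mul, op_smul_eq_smul,
    show (ρ (r i)).fst = q (s i) from (hs i).symm, show (ρ (g i)).fst = q (a i) from (ha i).symm,
    hkill _ (hsm i), hkill _ (ham i), add_zero]

end CohenLib
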