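import Groth.Agent.CohenLib.Structure
import Groth.Agent.CohenLib.PSLocal
import Groth.Agent.CommAlgDim.RegularRing
import Mathlib.RingTheory.PrincipalIdealDomain

/-! Local rings with square-zero maximal ideal are quotients of regular local rings. -/

universe u

open IsLocalRing

namespace CohenLib

variable {A : Type u} [CommRing A] [IsLocalRing A]

/-- A minimal completion of `e` to generators of the maximal ideal. -/
theorem exists_minimal_completion (hfg : (maximalIdeal A).FG) (e : A) (he : e ∈ maximalIdeal A)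
    (h2 : maximalIdeal A ^ 2 = ⊥) :
    ∃ (r : ℕ) (x : Fin r → A), Ideal.span (insert e (Set.range x)) = maximalIdeal A ∧
      ∀ (c₀ : A) (c : Fin r → A), c₀ * e + ∑ i, c i * x i = 0 →
        (∀ i, c i ∈ maximalIdeal A) ∧ (e ≠ 0 → c₀ ∈ maximalIdeal A) := by
  classical
  have hex : ∃ r, ∃ x : Fin r → A, Ideal.span (insert e (Set.range x)) = maximalIdeal A := by
    obtain ⟨r, x, hx⟩ := Submodule.fg_iff_exists_fin_generating_family.1 hfg
    refine ⟨r, x, ?_⟩
    rw [Ideal.span_insert, show Ideal.span (Set.range x) = maximalIdeal A from hx, sup_eq_right,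
      Ideal.span_singleton_le_iff_mem]
    exact he
  obtain ⟨x, hx⟩ := Nat.find_spec hex
  refine ⟨Nat.find hex, x, hx, fun c₀ c hc => ?_⟩
  have hall : ∀ i, c i ∈ maximalIdeal A := by
    intro i hu
    obtain ⟨m, hm⟩ : ∃ m, Nat.find hex = m + 1 := ⟨Nat.find hex - 1, by have := i.2; omega⟩
    refine Nat.find_min hex (m := m) (by omega) ⟨x ∘ (Fin.cast hm.symm) ∘ (Fin.cast hm i).succAbove, ?_⟩
    refine le_antisymm ?_ ?_
    · refine (Ideal.span_mono (Set.insert_subset_insert ?_)).trans hx.le
      exact Set.range_comp_subset_range _ x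
    · refine hx.ge.trans (Ideal.span_le.2 ?_)
      let S := Ideal.span (insert e (Set.range (x ∘ Fin.cast hm.symm ∘ (Fin.cast hm i).succAbove)))
      have hne : ∀ j, j ≠ i → x j ∈ S := fun j hj => by
        obtain ⟨k, hk⟩ := Fin.exists_succAbove_eq (x := Fin.cast hm j) (y := Fin.cast hm i)
          fun h => hj ((Fin.cast_injective _).eq_iff.1 h)
        refine Ideal.subset_span (Set.mem_insert_of_mem _ ⟨k, ?_⟩)
        show x (Fin.cast hm.symm _) = x j
        rw [hk]
        congr 1
      rintro z (rfl | ⟨j, rfl⟩)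
      · exact Ideal.subset_span (Set.mem_insert _ _)
      · by_cases hj : j = i
        · subst hj
          have h1 : c j * x j = -(c₀ * e) - ∑ k ∈ Finset.univ.erase j, c k * x k := by
            rw [← Finset.add_sum_erase _ _ (Finset.mem_univ j)] at hc
            linear_combination hc
          have h3 : c j * x j ∈ S := by
            rw [h1]
            exact sub_mem (S.neg_mem (Ideal.mul_mem_left _ _ (Ideal.subset_span (Set.mem_insert _ _))))
              (S.sum_mem fun k hk => Ideal.mul_mem_left _ _ (hne k (Finset.mem_erase.1 hk).1))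
          have hu' : IsUnit (c j) := hu
          exact (Ideal.unit_mul_mem_iff_mem S hu').1 h3
        · exact hne j hj
  refine ⟨hall, fun he0 hu => he0 ?_⟩
  have hsum : ∀ i, c i * x i = 0 := fun i => by
    have h3 : x i ∈ maximalIdeal A := hx ▸ Ideal.subset_span (Set.mem_insert_of_mem _ ⟨i, rfl⟩)
    have := Ideal.mul_mem_mul (hall i) h3
    rwa [← pow_two, h2, Ideal.mem_bot] at this
  rw [Finset.sum_eq_zero fun i _ => hsum i, add_zero] at hc
  exact (IsUnit.mul_right_eq_zero hu).1 hc

/-- Local rings with square-zero maximal ideal. -/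
theorem exists_regular_quotient_sq [IsNoetherianRing A] (h : maximalIdeal A ^ 2 = ⊥) :
    ∃ (B : Type u) (_ : CommRing B) (_ : IsRegularLocalRing B),
      Nonempty (A ≃+* B ⧸ IsLocalRing.maximalIdeal B ^ 2) := by
  classical
  have := isAdicComplete_of_isNilpotent (maximalIdeal A) ⟨2, h⟩
  obtain ⟨Λ, _, _, g, hg, hcase, hc, hN, hmap⟩ := exists_coefficient_ring' A
  obtain ⟨e, π, he, hmΛ, hge, hz, hreg⟩ : ∃ (e : A) (π : Λ), e ∈ maximalIdeal A ∧
      maximalIdeal Λ = Ideal.span {π} ∧ g π = e ∧ (e = 0 → π = 0) ∧ IsRegularRing Λ := by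
    rcases hcase with hF | ⟨hC, p, hp, hmp, hp0, hpm⟩
    · let _ : Field Λ := hF.toField
      exact ⟨0, 0, Submodule.zero_mem _, by rw [maximalIdeal_eq_bot, Ideal.span_singleton_eq_bot.2 rfl],
        map_zero _, fun _ => rfl, inferInstance⟩
    · obtain ⟨_, hdvr, -, -⟩ := hC
      exact ⟨p, p, hpm, hmp, map_natCast g p, fun h0 => absurd h0 hp0, inferInstance⟩
  obtain ⟨r, x, hx, hind⟩ := exists_minimal_completion (IsNoetherian.noetherian _) e he h
  have hxm : ∀ i, x i ∈ maximalIdeal A := fun i =>
    hx ▸ Ideal.subset_span (Set.mem_insert_of_mem _ ⟨i, rfl⟩)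
  let f := psHom (maximalIdeal A) g x hxm
  let B := MvPowerSeries (Fin r) Λ
  have hB : IsRegularRing B := CommAlgDim.isRegularRing_mvPowerSeries Λ r
  have hBl : IsRegularLocalRing B := IsRegularLocalRing.of_isRegularRing_of_isLocalRing B
  have hN' := isNoetherianRing_mvPowerSeries (n := r) Λ
  have := isAdicComplete_sup_varsIdeal (n := r) Λ (maximalIdeal Λ)
  have hmapB : (maximalIdeal B).map f = maximalIdeal A := by
    rw [maximalIdeal_mvPowerSeries, Ideal.map_sup, Ideal.map_map, varsIdeal, Ideal.map_span f,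
      ← Set.range_comp,
      show f.comp MvPowerSeries.C = g from RingHom.ext fun c => psHom_C _ _ _ hxm c,
      show f ∘ MvPowerSeries.X = x from funext fun i => psHom_X _ _ _ hxm i, hmΛ, Ideal.map_span,
      Set.image_singleton, hge, ← Ideal.span_union, Set.singleton_union, hx]
  have hsurj : Function.Surjective f := surjective_of_complete (maximalIdeal A)
    ((maximalIdeal Λ).map MvPowerSeries.C ⊔ varsIdeal Λ r) f
    (by rw [← maximalIdeal_mvPowerSeries]; exact hmapB) fun a => by
      obtain ⟨c, hc⟩ := hg (residue A a)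
      exact ⟨MvPowerSeries.C c, by
        rw [psHom_C, ← residue_eq_zero_iff, map_sub, ← hc, RingHom.comp_apply, sub_self]⟩
  have hker : RingHom.ker f = maximalIdeal B ^ 2 := by
    refine le_antisymm (fun b hb => ?_) ?_
    · have hbn : b ∈ maximalIdeal B := fun hu => (hu.map f).ne_zero hb
      rw [maximalIdeal_mvPowerSeries, hmΛ, Ideal.map_span, Set.image_singleton, varsIdeal,
        ← Ideal.span_union, Set.singleton_union, Ideal.mem_span_insert] at hbn
      obtain ⟨h₀, z, hz', rfl⟩ := hbn
      obtain ⟨hc', rfl⟩ := Submodule.mem_span_range_iff_exists_fun _ |>.1 hz'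
      have h0 : f h₀ * e + ∑ i, f (hc' i) * x i = 0 := by
        have h1 := (map_add f _ _).symm.trans hb
        rw [map_mul, psHom_C, hge, map_sum] at h1
        simp only [smul_eq_mul, map_mul, f, psHom_X] at h1
        exact h1
      obtain ⟨h1, h1'⟩ := hind _ _ h0
      have hmem : ∀ z : B, f z ∈ maximalIdeal A → z ∈ maximalIdeal B := fun z hz hu => hz (hu.map f)
      have hπ : MvPowerSeries.C π ∈ maximalIdeal B := by
        rw [maximalIdeal_mvPowerSeries, hmΛ]
        exact Submodule.mem_sup_left (Ideal.mem_map_of_mem _ (Ideal.mem_span_singleton_self π))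
      refine add_mem ?_ (Submodule.sum_mem _ fun i _ => ?_)
      · by_cases he0 : e = 0
        · rw [hz he0, map_zero, mul_zero]
          exact Submodule.zero_mem _
        · rw [pow_two]
          exact Ideal.mul_mem_mul (hmem _ (h1' he0)) hπ
      · rw [pow_two, smul_eq_mul]
        refine Ideal.mul_mem_mul (hmem _ (h1 i)) ?_
        rw [maximalIdeal_mvPowerSeries]
        exact Submodule.mem_sup_right (Submodule.subset_span ⟨i, rfl⟩)
    · intro b hb
      have h1 := Ideal.mem_map_of_mem f hb
      rw [Ideal.map_pow, hmapB, h, Ideal.mem_bot] at h1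
      exact h1
  exact ⟨B, inferInstance, hBl,
    ⟨((Ideal.quotEquivOfEq hker.symm).trans (RingHom.quotientKerEquivOfSurjective hsurj)).symm⟩⟩

end CohenLib
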